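import Mathlib
import Cfsg.Agent.Lib.Frobenius.UniqueSubgroup

/-!
# Elements of prime order acting on a finite vector space
-/

namespace CfsgLib.Blocks.KThree

open Module

set_option linter.unusedVariables false
set_option linter.style.haveILetI false
set_option linter.unusedSectionVars false

universe u v

/-- `r` is a primitive prime divisor of `p ^ n - 1`. -/
structure PPD (r p n : ℕ) : Prop where
  prime : r.Prime
  dvd : r ∣ p ^ n - 1
  minimal : ∀ i, 1 ≤ i → i < n → ¬ r ∣ p ^ i - 1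

variable {p : ℕ} [hp : Fact p.Prime] {W : Type v} [AddCommGroup W] [Finite W] [Module (ZMod p) W]
  {E : Type u} [Group E] [Finite E] (ρ : Representation (ZMod p) E W)

omit hp in
theorem ne_of_dvd_pow_sub_one {r n : ℕ} (hr : r.Prime) (hn : 1 ≤ n) (h : r ∣ p ^ n - 1) : r ≠ p := by
  rintro rfl
  have h1 : r ∣ r ^ n := dvd_pow_self r (by omega)
  have h2 := Nat.dvd_sub h1 h
  rw [Nat.sub_sub_self (Nat.one_le_pow _ _ hr.pos)] at h2
  exact hr.not_dvd_one h2

/-- The points of `U` fixed by `x`. -/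
def fixIn (x : E) (U : Submodule (ZMod p) W) : Submodule (ZMod p) W :=
  U ⊓ LinearMap.ker (ρ x - 1)

theorem mem_fixIn {x : E} {U : Submodule (ZMod p) W} {w : W} :
    w ∈ fixIn ρ x U ↔ w ∈ U ∧ ρ x w = w := by
  simp [fixIn, sub_eq_zero]

theorem natCard_submodule (U : Submodule (ZMod p) W) :
    Nat.card U = p ^ finrank (ZMod p) U := by
  rw [Module.natCard_eq_pow_finrank (K := ZMod p), Nat.card_zmod]

/-- Orbits of an element of prime order on an invariant subspace. -/
theorem dvd_pow_sub {r : ℕ} (hr : r.Prime) (hrp : r ≠ p) {x : E} (hx : orderOf x = r)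
    {U : Submodule (ZMod p) W} (hU : ∀ u ∈ U, ρ x u ∈ U) :
    r ∣ p ^ (finrank (ZMod p) U - finrank (ZMod p) (fixIn ρ x U)) - 1 := by
  haveI := Fact.mk hr
  have hall : ∀ g ∈ Subgroup.zpowers x, ∀ u ∈ U, ρ g u ∈ U := by
    intro g hg u hu
    obtain ⟨k, rfl⟩ := (mem_powers_iff_mem_zpowers.2 hg)
    induction k with
    | zero => simpa using hu
    | succ k ih =>
      show ρ (x ^ (k + 1)) u ∈ U
      rw [pow_succ', map_mul]
      exact hU _ (ih ((Subgroup.zpowers x).pow_mem (Subgroup.mem_zpowers x) k))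
  letI : MulAction (Subgroup.zpowers x) U :=
    { smul := fun g u => ⟨ρ (g : E) u, hall g g.2 u u.2⟩
      one_smul := fun u => Subtype.ext (by show ρ ((1 : Subgroup.zpowers x) : E) u = u; simp)
      mul_smul := fun g h u => Subtype.ext (by
        show ρ ((g * h : Subgroup.zpowers x) : E) u = ρ (g : E) (ρ (h : E) u)
        simp) }
  have hP : IsPGroup r (Subgroup.zpowers x) :=
    IsPGroup.of_card (n := 1) (by rw [Nat.card_zpowers, hx, pow_one])
  have hmod := hP.card_modEq_card_fixedPoints (α := U)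
  have hfix : Nat.card (MulAction.fixedPoints (Subgroup.zpowers x) U) =
      Nat.card (fixIn ρ x U) := by
    refine Nat.card_congr ⟨fun u => ⟨(u.1 : W), (mem_fixIn ρ).2 ⟨u.1.2,
      congrArg Subtype.val (u.2 ⟨x, Subgroup.mem_zpowers x⟩)⟩⟩,
      fun u => ⟨⟨(u : W), ((mem_fixIn ρ).1 u.2).1⟩, ?_⟩, fun u => rfl, fun u => rfl⟩
    rintro ⟨g, hg⟩
    obtain ⟨k, rfl⟩ := (mem_powers_iff_mem_zpowers.2 hg)
    refine Subtype.ext ?_
    show ρ (x ^ k) (u : W) = u
    induction k with
    | zero => simp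
    | succ k ih =>
      rw [pow_succ, map_mul]
      exact (congrArg (ρ (x ^ k)) ((mem_fixIn ρ).1 u.2).2).trans
        (ih ((Subgroup.zpowers x).pow_mem (Subgroup.mem_zpowers x) k))
  rw [hfix, natCard_submodule, natCard_submodule] at hmod
  set d := finrank (ZMod p) U
  set f := finrank (ZMod p) (fixIn ρ x U)
  have hfd : f ≤ d := Submodule.finrank_mono inf_le_left
  have h1 : p ^ f ≤ p ^ d := Nat.pow_le_pow_right hp.1.pos hfd
  have h2 : r ∣ p ^ d - p ^ f := (Nat.modEq_iff_dvd' h1).1 hmod.symm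
  rw [show p ^ d - p ^ f = p ^ f * (p ^ (d - f) - 1) by
    rw [Nat.mul_sub, ← pow_add, Nat.add_sub_cancel' hfd, mul_one]] at h2
  exact (Nat.Prime.dvd_mul hr).1 h2 |>.resolve_left fun h =>
    hrp ((Nat.prime_dvd_prime_iff_eq hr hp.1).1 (hr.dvd_of_dvd_pow h))

theorem eq_one_of_fix {x : E} (hρ : Function.Injective ρ) (h : ∀ w, ρ x w = w) : x = 1 :=
  hρ (by rw [map_one]; exact LinearMap.ext h)

theorem fixIn_top_ne_top {x : E} (hρ : Function.Injective ρ) (hx1 : x ≠ 1) :
    fixIn ρ x ⊤ ≠ ⊤ := fun h =>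
  hx1 (eq_one_of_fix ρ hρ fun w => ((mem_fixIn ρ).1 (h ▸ Submodule.mem_top (x := w))).2)

/-- An element of primitive prime order fixes no nonzero vector. -/
theorem fpf_of_ppd {r : ℕ} (hρ : Function.Injective ρ) (h : PPD r p (finrank (ZMod p) W))
    {x : E} (hx : orderOf x = r) {w : W} (hw : ρ x w = w) : w = 0 := by
  have hn : 1 ≤ finrank (ZMod p) W := by
    by_contra h0
    have : fixIn ρ x ⊤ = ⊤ := Submodule.eq_top_of_finrank_eq (by
      have := (fixIn ρ x ⊤).finrank_le
      omega)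
    exact fixIn_top_ne_top ρ hρ (fun e => by rw [e, orderOf_one] at hx; exact h.prime.ne_one hx.symm) this
  have hrp := ne_of_dvd_pow_sub_one h.prime hn h.dvd
  have hd := dvd_pow_sub ρ h.prime hrp hx (U := ⊤) (fun u _ => Submodule.mem_top)
  rw [finrank_top] at hd
  by_contra hw0
  have hpos : 0 < finrank (ZMod p) (fixIn ρ x ⊤) := by
    rw [Module.finrank_pos_iff_exists_ne_zero]
    exact ⟨⟨w, (mem_fixIn ρ).2 ⟨Submodule.mem_top, hw⟩⟩, fun e => hw0 (congrArg Subtype.val e)⟩
  have hlt : finrank (ZMod p) (fixIn ρ x ⊤) < finrank (ZMod p) W :=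
    Submodule.finrank_lt (fixIn_top_ne_top ρ hρ
      (fun e => by rw [e, orderOf_one] at hx; exact h.prime.ne_one hx.symm))
  exact h.minimal _ (by omega) (by omega) hd

/-- No proper nonzero invariant subspace. -/
def Irred (x : E) : Prop :=
  ∀ U : Submodule (ZMod p) W, (∀ u ∈ U, ρ x u ∈ U) → U = ⊥ ∨ U = ⊤

theorem irred_of_ppd {r : ℕ} (hρ : Function.Injective ρ) (h : PPD r p (finrank (ZMod p) W))
    {x : E} (hx : orderOf x = r) : Irred ρ x := by
  intro U hU
  by_contra hcon
  push Not at hcon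
  obtain ⟨h0, h1⟩ := hcon
  have hn : finrank (ZMod p) U < finrank (ZMod p) W := Submodule.finrank_lt h1
  have hpos : 0 < finrank (ZMod p) U := by
    rw [Module.finrank_pos_iff_exists_ne_zero]
    obtain ⟨u, hu, hu0⟩ := (Submodule.ne_bot_iff U).1 h0
    exact ⟨⟨u, hu⟩, fun e => hu0 (congrArg Subtype.val e)⟩
  have hrp := ne_of_dvd_pow_sub_one h.prime (by omega) h.dvd
  have hd := dvd_pow_sub ρ h.prime hrp hx hU
  have hbot : fixIn ρ x U = ⊥ := (Submodule.eq_bot_iff _).2 fun w hw =>
    fpf_of_ppd ρ hρ h hx ((mem_fixIn ρ).1 hw).2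
  rw [hbot, finrank_bot, Nat.sub_zero] at hd
  exact h.minimal _ hpos hn hd

/-- The commutant of `x`. -/
abbrev commutant (x : E) : Subalgebra (ZMod p) (Module.End (ZMod p) W) :=
  Subalgebra.centralizer (ZMod p) {ρ x}

theorem mem_commutant {x : E} {a : Module.End (ZMod p) W} :
    a ∈ commutant ρ x ↔ ρ x * a = a * ρ x := by
  simp [commutant, Subalgebra.mem_centralizer_iff]

theorem isDomain_commutant [Nontrivial W] {x : E} (h : Irred ρ x) : IsDomain (commutant ρ x) := by
  have hinj : ∀ a : commutant ρ x, a ≠ 0 → Function.Injective (a : Module.End (ZMod p) W) := by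
    intro a ha
    have hc := (mem_commutant ρ).1 a.2
    rw [← LinearMap.ker_eq_bot]
    refine (h _ fun u hu => ?_).resolve_right fun ht => ha (Subtype.ext (LinearMap.ker_eq_top.1 ht))
    rw [LinearMap.mem_ker] at hu ⊢
    have h1 : ρ x ((a : Module.End (ZMod p) W) u) = (a : Module.End (ZMod p) W) (ρ x u) :=
      LinearMap.congr_fun hc u
    rw [← h1, hu, map_zero]
  haveI : Nontrivial (commutant ρ x) := ⟨⟨0, 1, fun e => by
    obtain ⟨w, hw⟩ := exists_ne (0 : W)
    exact hw (LinearMap.congr_fun (congrArg Subtype.val e) w).symm⟩⟩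
  haveI : NoZeroDivisors (commutant ρ x) := ⟨fun {a b} hab => by
    by_contra hne
    push Not at hne
    refine hne.2 (Subtype.ext (LinearMap.ext fun w => hinj a hne.1 ?_))
    rw [show (0 : commutant ρ x).1 w = 0 from rfl, map_zero]
    exact LinearMap.congr_fun (congrArg Subtype.val hab) w⟩
  exact NoZeroDivisors.to_isDomain _

theorem commute_commutant [Nontrivial W] {x : E} (h : Irred ρ x) (a b : commutant ρ x) :
    a * b = b * a := by
  haveI := isDomain_commutant ρ h
  haveI : Finite (commutant ρ x) := by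
    haveI : Finite (Module.End (ZMod p) W) := Finite.of_injective _ DFunLike.coe_injective
    infer_instance
  exact (Finite.isDomain_to_isField (commutant ρ x)).mul_comm a b

theorem mem_commutant_of_commute {x g : E} (hg : g * x = x * g) : ρ g ∈ commutant ρ x :=
  (mem_commutant ρ).2 (by rw [← map_mul, ← map_mul, hg])

theorem isCyclic_centralizer [Nontrivial W] (hρ : Function.Injective ρ) {x : E} (h : Irred ρ x) :
    IsCyclic (Subgroup.centralizer ({x} : Set E)) := by
  haveI := isDomain_commutant ρ h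
  letI : CommRing (commutant ρ x) :=
    { (inferInstance : Ring (commutant ρ x)) with mul_comm := commute_commutant ρ h }
  refine isCyclic_of_injective_ringHom ?_ (R := commutant ρ x)
    (f := { toFun := fun g => (⟨ρ (g : E), mem_commutant_of_commute ρ
              (Subgroup.mem_centralizer_singleton_iff.1 g.2)⟩ : commutant ρ x)
            map_one' := Subtype.ext (by simp)
            map_mul' := fun a b => Subtype.ext (by simp) })
  intro a b e
  exact Subtype.ext (hρ (congrArg Subtype.val e))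

/-- Conjugate powers of an irreducible element are roots of its minimal polynomial. -/
theorem card_conj_powers_le [Nontrivial W] (hρ : Function.Injective ρ) {x : E} (h : Irred ρ x)
    (s : Finset ℕ) (hs : ∀ j ∈ s, j < orderOf x) (hconj : ∀ j ∈ s, IsConj x (x ^ j)) :
    s.card ≤ finrank (ZMod p) W := by
  classical
  haveI := isDomain_commutant ρ h
  letI : CommRing (commutant ρ x) :=
    { (inferInstance : Ring (commutant ρ x)) with mul_comm := commute_commutant ρ h }
  set μ := minpoly (ZMod p) (ρ x) with hμ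
  have hμ0 : μ ≠ 0 := minpoly.ne_zero (IsIntegral.of_finite (ZMod p) _)
  have hdeg : μ.natDegree ≤ finrank (ZMod p) W := by
    refine le_trans (Polynomial.natDegree_le_of_dvd (LinearMap.minpoly_dvd_charpoly _)
      (LinearMap.charpoly_monic _).ne_zero) ?_
    rw [LinearMap.charpoly_natDegree]
  let el : ℕ → commutant ρ x := fun j =>
    ⟨ρ (x ^ j), mem_commutant_of_commute ρ ((Commute.refl x).pow_left j).eq⟩
  have hinj : Set.InjOn el s := fun i hi j hj e =>
    pow_injOn_Iio_orderOf (hs i hi) (hs j hj) (hρ (congrArg Subtype.val e))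
  set q := μ.map (algebraMap (ZMod p) (commutant ρ x)) with hq
  have hq0 : q ≠ 0 := (Polynomial.map_ne_zero_iff (RingHom.injective _)).2 hμ0
  have hroot : ∀ j ∈ s, el j ∈ q.roots.toFinset := by
    intro j hj
    rw [Multiset.mem_toFinset, Polynomial.mem_roots hq0, Polynomial.IsRoot, hq,
      Polynomial.eval_map, ← Polynomial.aeval_def]
    refine Subtype.ext ?_
    rw [← Subalgebra.coe_val, ← Polynomial.aeval_algHom_apply]
    show Polynomial.aeval (ρ (x ^ j)) μ = 0
    obtain ⟨g, hg⟩ := isConj_iff.1 (hconj j hj)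
    have hge : ρ (x ^ j) = ρ g * ρ x * ρ g⁻¹ := by rw [← hg, map_mul, map_mul]
    let u : (Module.End (ZMod p) W)ˣ := ⟨ρ g, ρ g⁻¹, by rw [← map_mul, mul_inv_cancel, map_one],
      by rw [← map_mul, inv_mul_cancel, map_one]⟩
    rw [hge, show ρ g * ρ x * ρ g⁻¹ = MulSemiringAction.toAlgEquiv (ZMod p)
        (Module.End (ZMod p) W) (ConjAct.toConjAct u) (ρ x) from rfl,
      ← AlgEquiv.coe_toAlgHom, Polynomial.aeval_algHom_apply, hμ, minpoly.aeval, map_zero]
  calc s.card = (s.image el).card := (Finset.card_image_of_injOn hinj).symm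
    _ ≤ q.roots.toFinset.card := Finset.card_le_card (fun z hz => by
        obtain ⟨j, hj, rfl⟩ := Finset.mem_image.1 hz
        exact hroot j hj)
    _ ≤ Multiset.card q.roots := Multiset.toFinset_card_le _
    _ ≤ q.natDegree := Polynomial.card_roots' q
    _ ≤ μ.natDegree := Polynomial.natDegree_map_le
    _ ≤ _ := hdeg

/-- Two commuting elements of order `ℓ` whose fixed vectors lie in an invariant subspace. -/
theorem mem_of_fix_pair {ℓ : ℕ} (hℓ : ℓ.Prime) (hℓp : ℓ ≠ p) {x y : E}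
    (hx : orderOf x = ℓ) (hy : orderOf y = ℓ) (hxy : x * y = y * x)
    {U : Submodule (ZMod p) W} (hx0 : ∀ v, ρ x v = v → v ∈ U)
    (hxy0 : ∀ (i : ℕ) (v : W), ρ (x ^ i * y) v = v → v ∈ U) (w : W) : w ∈ U := by
  classical
  have hsum : ∀ z : E, z ^ ℓ = 1 → (∀ v : W, ρ z v = v → v ∈ U) → ∀ v : W,
      ∑ j ∈ Finset.range ℓ, ρ (z ^ j) v ∈ U := by
    intro z hz hfp v
    set S := ∑ j ∈ Finset.range ℓ, ρ (z ^ j) v with hS
    refine hfp S ?_
    rw [hS, map_sum]
    simp only [← Module.End.mul_apply, ← map_mul, ← pow_succ']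
    have h1 := Finset.sum_range_succ (fun j => ρ (z ^ j) v) ℓ
    have h2 := Finset.sum_range_succ' (fun j => ρ (z ^ j) v) ℓ
    rw [h1, hz, pow_zero] at h2
    exact (add_right_cancel h2).symm
  have hxl : x ^ ℓ = 1 := by rw [← hx]; exact pow_orderOf_eq_one x
  have hyl : y ^ ℓ = 1 := by rw [← hy]; exact pow_orderOf_eq_one y
  have key : ∀ i : ℕ, ∑ j ∈ Finset.range ℓ, ρ ((x ^ i * y) ^ j) w ∈ U := fun i =>
    hsum _ (by rw [((Commute.pow_left hxy i)).mul_pow, ← pow_mul, mul_comm, pow_mul, hxl, hyl,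
      one_pow, one_mul]) (hxy0 i) w
  have h0 : ∑ i ∈ Finset.range ℓ, ∑ j ∈ Finset.range ℓ, ρ ((x ^ i * y) ^ j) w ∈ U :=
    Submodule.sum_mem _ fun i _ => key i
  rw [Finset.sum_comm] at h0
  have hj : ∀ j ∈ Finset.range ℓ, j ≠ 0 →
      ∑ i ∈ Finset.range ℓ, ρ ((x ^ i * y) ^ j) w ∈ U := by
    intro j hj hj0
    have hc : ∀ i, (x ^ i * y) ^ j = (x ^ j) ^ i * y ^ j := fun i => by
      rw [((Commute.pow_left hxy i)).mul_pow, ← pow_mul, ← pow_mul, mul_comm]
    simp only [hc, map_mul, Module.End.mul_apply]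
    refine hsum (x ^ j) (by rw [← pow_mul, mul_comm, pow_mul, hxl, one_pow]) (fun v hfix => ?_) _
    -- `x` is a power of `x ^ j`
    obtain ⟨k, hk⟩ := Nat.exists_mul_mod_eq_one_of_coprime (n := j) (k := ℓ)
      ((hℓ.coprime_iff_not_dvd.2 (Nat.not_dvd_of_pos_of_lt (by omega) (Finset.mem_range.1 hj))).symm)
      hℓ.one_lt
    refine hx0 v ?_
    have e : x = (x ^ j) ^ k := by
      rw [← pow_mul, ← pow_mod_orderOf, hx, hk.2, pow_one]
    have hall : ∀ m : ℕ, ρ ((x ^ j) ^ m) v = v := by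
      intro m
      induction m with
      | zero => simp
      | succ m ih => rw [pow_succ, map_mul, Module.End.mul_apply, hfix, ih]
    rw [e]
    exact hall k
  rw [← Finset.add_sum_erase _ _ (Finset.mem_range.2 hℓ.pos)] at h0
  have h1 : ∑ i ∈ Finset.range ℓ, ρ ((x ^ i * y) ^ 0) w ∈ U :=
    (U.add_mem_iff_left (Submodule.sum_mem _ fun j hj' =>
      hj j (Finset.mem_of_mem_erase hj') (Finset.ne_of_mem_erase hj'))).1 h0
  simp only [pow_zero, map_one, Module.End.one_apply, Finset.sum_const, Finset.card_range] at h1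
  rw [← Nat.cast_smul_eq_nsmul (ZMod p), Submodule.smul_mem_iff] at h1
  · exact h1
  · rw [Ne, ZMod.natCast_eq_zero_iff]
    exact fun h => hℓp ((Nat.prime_dvd_prime_iff_eq hp.1 hℓ).1 h).symm

/-- Two commuting elements of order `ℓ` generating a noncyclic group fix a vector. -/
theorem exists_fix_pair [Nontrivial W] {ℓ : ℕ} (hℓ : ℓ.Prime) (hℓp : ℓ ≠ p) {x y : E}
    (hx : orderOf x = ℓ) (hy : orderOf y = ℓ) (hxy : x * y = y * x) :
    (∃ w : W, w ≠ 0 ∧ ρ x w = w) ∨ (∃ i : ℕ, ∃ w : W, w ≠ 0 ∧ ρ (x ^ i * y) w = w) := by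
  by_contra hcon
  push Not at hcon
  obtain ⟨hx0, hxy0⟩ := hcon
  obtain ⟨w, hw⟩ := exists_ne (0 : W)
  have := mem_of_fix_pair ρ hℓ hℓp hx hy hxy (U := ⊥)
    (fun v hv => (Submodule.mem_bot _).2 (by_contra fun h => hx0 v h hv))
    (fun i v hv => (Submodule.mem_bot _).2 (by_contra fun h => hxy0 i v h hv)) w
  exact hw ((Submodule.mem_bot _).1 this)

end CfsgLib.Blocks.KThree
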