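import Cfsg.Agent.Lib.Blocks.KThree.Linear
import Cfsg.Agent.Lib.PrimitivePart.Main

/-!
# Existence of primitive prime divisors for odd characteristic
-/

namespace CfsgLib.Blocks.KThree

set_option linter.unusedVariables false

theorem odd_of_ppd {r p n : ℕ} (h : PPD r p n) (hp : Odd p) (hn : 2 ≤ n) : r ≠ 2 := by
  rintro rfl
  refine h.minimal 1 le_rfl (by omega) ?_
  obtain ⟨k, rfl⟩ := hp
  rw [pow_one]
  exact ⟨k, by omega⟩

theorem not_dvd_self_of_ppd {r p n : ℕ} (h : PPD r p n) (hp : p.Prime) (hn : 1 ≤ n) :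
    ¬ r ∣ p := fun hd =>
  ne_of_dvd_pow_sub_one h.prime hn h.dvd ((Nat.prime_dvd_prime_iff_eq h.prime hp).1 hd)

/-- Dimension at least three. -/
theorem exists_ppd_three {p n : ℕ} (hp : p.Prime) (hp2 : p ≠ 2) (hn : 3 ≤ n) :
    ∃ r, PPD r p n ∧ (n + 1 < r ∨ r ^ 2 ∣ p ^ n - 1 ∨
      (r = 5 ∧ p = 3 ∧ n = 4) ∨ (r = 7 ∧ (p = 3 ∨ p = 5) ∧ n = 6)) := by
  by_cases h : (p = 3 ∧ (n = 4 ∨ n = 6)) ∨ (p = 5 ∧ n = 6)
  · have hlt : ∀ m : ℕ, ∀ i, 1 ≤ i → i < m → i ∈ Finset.Ico 1 m := fun m i a b =>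
      Finset.mem_Ico.2 ⟨a, b⟩
    rcases h with ⟨rfl, rfl | rfl⟩ | ⟨rfl, rfl⟩
    · refine ⟨5, ⟨by norm_num, by norm_num, fun i a b => ?_⟩, by simp⟩
      interval_cases i <;> norm_num
    · refine ⟨7, ⟨by norm_num, by norm_num, fun i a b => ?_⟩, by simp⟩
      interval_cases i <;> norm_num
    · refine ⟨7, ⟨by norm_num, by norm_num, fun i a b => ?_⟩, by simp⟩
      interval_cases i <;> norm_num
  · push Not at h
    obtain ⟨r, hr, hd, hmin, hbig⟩ := CfsgLib.PrimitivePart.large_primitive_prime p n hp.two_le (by omega)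
      (fun h1 => by omega) (fun h2 => hp2 h2.1)
      (fun h3 => by rcases h3.2 with e | e <;> simp [h3.1, e] at h)
      (fun h4 => by simp [h4.1, h4.2] at h)
    exact ⟨r, ⟨hr, hd, hmin⟩, hbig.elim Or.inl fun h => Or.inr (Or.inl h)⟩

/-- Dimension two. -/
theorem exists_ppd_two {p : ℕ} (hp : p.Prime) (hp2 : p ≠ 2) :
    (∃ r, PPD r p 2 ∧ (3 < r ∨ r ^ 2 ∣ p ^ 2 - 1 ∨ r = 3)) ∨ ∃ s, p + 1 = 2 ^ s := by
  by_cases h : ∃ s t : ℕ, t ≤ 1 ∧ p + 1 = 2 ^ s * 3 ^ t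
  · obtain ⟨s, t, ht, e⟩ := h
    rcases Nat.le_one_iff_eq_zero_or_eq_one.1 ht with rfl | rfl
    · exact Or.inr ⟨s, by simpa using e⟩
    · refine Or.inl ⟨3, ⟨Nat.prime_three, ?_, fun i a b => ?_⟩, by simp⟩
      · have hsq : p ^ 2 - 1 = (p + 1) * (p - 1) := by
          have := Nat.sq_sub_sq p 1
          rwa [one_pow] at this
        rw [hsq]
        exact (show 3 ∣ p + 1 by rw [e, pow_one]; exact dvd_mul_left 3 _).mul_right _
      · obtain rfl : i = 1 := by omega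
        rw [pow_one]
        intro hd
        have : 3 ∣ p + 1 := by rw [e, pow_one]; exact dvd_mul_left 3 _
        have := hp.two_le
        omega
  · obtain ⟨r, hr, hd, hmin, hbig⟩ := CfsgLib.PrimitivePart.large_primitive_prime p 2 hp.two_le le_rfl
      (fun h1 => h h1.2) (fun h2 => by omega) (fun h3 => by omega) (fun h4 => by omega)
    exact Or.inl ⟨r, ⟨hr, hd, hmin⟩, hbig.elim Or.inl fun h => Or.inr (Or.inl h)⟩

end CfsgLib.Blocks.KThree
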