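import Cfsg.Agent.Lib.Blocks.KThree.Arith

/-!
# Orbit configurations with at most three characters
-/

namespace CfsgLib.Blocks.KThree

theorem orderOf_conj_eq {G : Type*} [Group G] (x z : G) : orderOf (x * z * x⁻¹) = orderOf z :=
  (MulAut.conj x).orderOf_eq z

open Module

set_option linter.unusedVariables false
set_option linter.style.haveILetI false
set_option linter.unusedSectionVars false

universe u v

/-- `y` is a good element of `H`. -/
def GoodAt {E : Type u} [Group E] (H : Subgroup E) (y : E) : Prop :=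
  y ∈ H ∧ ∃ L : Subgroup E, L ≤ H ∧ IsCyclic L ∧ y ∈ L ∧
    (L.relIndex (H ⊓ Subgroup.centralizer ({y} : Set E))).Coprime (orderOf y)

/-- No two members of `S` are conjugate in `H`. -/
def NonConj {E : Type u} [Group E] (H : Subgroup E) (S : Finset E) : Prop :=
  ∀ y ∈ S, ∀ z ∈ S, y ≠ z → ∀ x ∈ H, x * z * x⁻¹ ≠ y

section good

variable {E : Type u} [Group E] [Finite E] {H : Subgroup E}

theorem good_one (H : Subgroup E) : GoodAt H 1 :=
  ⟨H.one_mem, ⊥, bot_le, inferInstance, Subgroup.mem_bot.2 rfl, by simp⟩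

theorem good_of_cent {y : E} (hy : y ∈ H)
    (hc : IsCyclic (H ⊓ Subgroup.centralizer ({y} : Set E) : Subgroup E)) : GoodAt H y :=
  ⟨hy, _, inf_le_left, hc, ⟨hy, Subgroup.mem_centralizer_singleton_iff.2 rfl⟩, by simp⟩

theorem centralizer_le_of_mem_zpowers {x w : E} (h : x ∈ Subgroup.zpowers w) :
    Subgroup.centralizer ({w} : Set E) ≤ Subgroup.centralizer ({x} : Set E) := by
  intro g hg
  obtain ⟨i, rfl⟩ := Subgroup.mem_zpowers_iff.1 h
  rw [Subgroup.mem_centralizer_singleton_iff] at hg ⊢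
  exact Commute.zpow_right hg i

theorem isCyclic_le {A B : Subgroup E} (h : A ≤ B) (hB : IsCyclic B) : IsCyclic A := by
  haveI := hB
  exact isCyclic_of_injective (Subgroup.inclusion h) (Subgroup.inclusion_injective h)

/-- The generator of a cyclic Sylow subgroup is good. -/
theorem exists_good_of_sylow {ℓ : ℕ} [hℓ : Fact ℓ.Prime] (hd : ℓ ∣ Nat.card H)
    (P : Sylow ℓ H) (hc : IsCyclic P) :
    ∃ u, GoodAt H u ∧ u ≠ 1 ∧ ∃ k, orderOf u = ℓ ^ k := by
  obtain ⟨u, hu⟩ := IsCyclic.exists_generator (α := P)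
  set L : Subgroup E := (P : Subgroup H).map H.subtype with hL
  have hLH : L ≤ H := Subgroup.map_subtype_le _
  have hcard : Nat.card L = ℓ ^ (Nat.card H).factorization ℓ := by
    rw [hL, Subgroup.card_map_of_injective H.subtype_injective]
    exact P.card_eq_multiplicity
  have hu' : orderOf ((u : H) : E) = ℓ ^ (Nat.card H).factorization ℓ := by
    rw [Subgroup.orderOf_coe, Subgroup.orderOf_coe, orderOf_eq_card_of_forall_mem_zpowers hu]
    exact P.card_eq_multiplicity
  have hLcyc : IsCyclic L := by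
    haveI := hc
    exact isCyclic_of_surjective _ ((P : Subgroup H).equivMapOfInjective H.subtype
      H.subtype_injective).surjective
  refine ⟨((u : H) : E), ⟨(u : H).2, L, hLH, hLcyc, ⟨(u : H), u.2, rfl⟩, ?_⟩, ?_, _, hu'⟩
  · rw [hu']
    refine Nat.Coprime.pow_right _ ((Nat.coprime_comm.1 (hℓ.1.coprime_iff_not_dvd.2 ?_)))
    intro hdvd
    have hLle : L ≤ H ⊓ Subgroup.centralizer ({((u : H) : E)} : Set E) := by
      refine le_inf hLH fun z hz => ?_
      rw [Subgroup.mem_centralizer_singleton_iff]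
      letI := hLcyc.commGroup
      exact congrArg Subtype.val (mul_comm (⟨z, hz⟩ : L) ⟨_, (⟨(u : H), u.2, rfl⟩ : _ ∈ L)⟩)
    have h1 := Subgroup.relIndex_mul_relIndex L _ H hLle inf_le_left
    have h2 : ℓ ∣ L.relIndex H := h1 ▸ hdvd.mul_right _
    rw [Subgroup.relIndex, hL, Subgroup.subgroupOf, Subgroup.comap_map_eq_self_of_injective
      H.subtype_injective] at h2
    exact P.not_dvd_index h2
  · intro e
    rw [e, orderOf_one] at hu'
    have h1 := hℓ.1.factorization_pos_of_dvd Nat.card_pos.ne' hd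
    have h2 := Nat.one_lt_pow h1.ne' hℓ.1.one_lt
    omega

theorem nonConj_of_orders (S : Finset E) (h : Set.InjOn orderOf (S : Set E)) : NonConj H S :=
  fun y hy z hz hne x _ e => hne (h hy hz (by rw [← e, orderOf_conj_eq]))

end good

variable {p : ℕ} [hp : Fact p.Prime] {W : Type v} [AddCommGroup W] [Finite W] [Module (ZMod p) W]
  {E : Type u} [Group E] [Finite E] (ρ : Representation (ZMod p) E W)

/-- The stabilizer of a vector. -/
def stab (w : W) : Subgroup E where
  carrier := {g | ρ g w = w}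
  one_mem' := by simp
  mul_mem' {a b} (ha : ρ a w = w) (hb : ρ b w = w) := by
    show ρ (a * b) w = w
    rw [map_mul, Module.End.mul_apply, hb, ha]
  inv_mem' {a} (ha : ρ a w = w) := by
    show ρ a⁻¹ w = w
    conv_lhs => rw [← ha]
    rw [← Module.End.mul_apply, ← map_mul, inv_mul_cancel, map_one, Module.End.one_apply]

theorem mem_stab {w : W} {g : E} : g ∈ stab ρ w ↔ ρ g w = w := Iff.rfl

theorem stab_zero : stab ρ (0 : W) = ⊤ := eq_top_iff.2 fun g _ => map_zero (ρ g)

/-- The orbit of a vector. -/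
def orb (w : W) : Set W := Set.range fun g => ρ g w

theorem mem_orb_self (w : W) : w ∈ orb ρ w := ⟨1, by simp⟩

theorem orb_eq_of_mem {v w : W} (h : w ∈ orb ρ v) : orb ρ w = orb ρ v := by
  obtain ⟨g, rfl⟩ := h
  ext z
  constructor
  · rintro ⟨k, rfl⟩
    exact ⟨k * g, by simp⟩
  · rintro ⟨k, rfl⟩
    exact ⟨k * g⁻¹, by simp [← Module.End.mul_apply, ← map_mul]⟩

theorem card_orb_mul (w : W) : Nat.card (orb ρ w) * Nat.card (stab ρ w) = Nat.card E := by
  rw [← Subgroup.index_mul_card (stab ρ w), Subgroup.index]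
  congr 1
  refine (Nat.card_congr (Equiv.ofBijective
    (fun q : E ⧸ stab ρ w => (⟨Quotient.liftOn' q (fun g => ρ g w) (fun a b hab => by
      rw [QuotientGroup.leftRel_apply, mem_stab, map_mul, Module.End.mul_apply] at hab
      show ρ a w = ρ b w
      conv_lhs => rw [← hab]
      rw [← Module.End.mul_apply, ← map_mul, mul_inv_cancel, map_one, Module.End.one_apply]),
      Quotient.inductionOn' q fun g => ⟨g, rfl⟩⟩ : orb ρ w)) ⟨?_, ?_⟩)).symm
  · intro a b
    induction a using QuotientGroup.induction_on with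
    | H a => induction b using QuotientGroup.induction_on with
      | H b =>
        intro h
        have h' : ρ a w = ρ b w := congrArg Subtype.val h
        rw [QuotientGroup.eq, mem_stab, map_mul, Module.End.mul_apply, ← h', ← Module.End.mul_apply,
          ← map_mul, inv_mul_cancel, map_one, Module.End.one_apply]
  · rintro ⟨_, g, rfl⟩
    exact ⟨(g : E ⧸ stab ρ w), rfl⟩

theorem card_stab_eq {v w : W} (h : w ∈ orb ρ v) : Nat.card (stab ρ w) = Nat.card (stab ρ v) := by
  have h1 := card_orb_mul ρ v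
  have h2 := card_orb_mul ρ w
  rw [orb_eq_of_mem ρ h] at h2
  have : 0 < Nat.card (orb ρ v) := by
    haveI : Nonempty (orb ρ v) := ⟨⟨v, mem_orb_self ρ v⟩⟩
    exact Nat.card_pos
  exact Nat.eq_of_mul_eq_mul_left this (h2.trans h1.symm)

/-- At most three characters: the numbers `l w` of characters over the orbits. -/
structure Small (l : W → ℕ) : Prop where
  faithful : Function.Injective ρ
  coprime : ¬ p ∣ Nat.card E
  pos : ∀ w, 1 ≤ l w
  bound : ∀ w (S : Finset E), (∀ y ∈ S, GoodAt (stab ρ w) y) → NonConj (stab ρ w) S → S.card ≤ l w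
  square : ∀ w, l w = 1 → IsSquare (Nat.card (stab ρ w))
  three : ∀ R : Finset W, (∀ a ∈ R, ∀ b ∈ R, a ≠ b → ∀ g, ρ g a ≠ b) → ∑ w ∈ R, l w ≤ 3

variable {ρ} {l : W → ℕ}

theorem Small.two_le_of_good (h : Small ρ l) {w : W} {y : E} (hy : GoodAt (stab ρ w) y)
    (h1 : y ≠ 1) : 2 ≤ l w := by
  classical
  have := h.bound w {1, y} (fun z hz => by
    rcases Finset.mem_insert.1 hz with rfl | hz
    · exact good_one _
    · rw [Finset.mem_singleton] at hz; exact hz ▸ hy) (fun a ha b hb hne x _ e => by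
    rcases Finset.mem_insert.1 ha with rfl | ha <;> rcases Finset.mem_insert.1 hb with rfl | hb
    · exact hne rfl
    · rw [Finset.mem_singleton] at hb
      subst hb
      exact h1 (by simpa [mul_inv_eq_one] using e)
    · rw [Finset.mem_singleton] at ha
      subst ha
      exact h1 (by simpa using e.symm)
    · rw [Finset.mem_singleton] at ha hb
      exact hne (ha.trans hb.symm))
  rwa [Finset.card_pair (Ne.symm h1)] at this

theorem Small.three_le_of_good (h : Small ρ l) {w : W} {y z : E} (hy : GoodAt (stab ρ w) y)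
    (hz : GoodAt (stab ρ w) z) (hy1 : y ≠ 1) (hz1 : z ≠ 1) (hne : y ≠ z)
    (hnc : ∀ x ∈ stab ρ w, x * z * x⁻¹ ≠ y) : 3 ≤ l w := by
  classical
  have := h.bound w {1, y, z} (fun a ha => by
    simp only [Finset.mem_insert, Finset.mem_singleton] at ha
    rcases ha with rfl | rfl | rfl
    exacts [good_one _, hy, hz]) (fun a ha b hb hab x hx e => by
    simp only [Finset.mem_insert, Finset.mem_singleton] at ha hb
    rcases ha with rfl | rfl | rfl <;> rcases hb with rfl | rfl | rfl
    · exact hab rfl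
    · exact hy1 (by simpa [mul_inv_eq_one] using e)
    · exact hz1 (by simpa [mul_inv_eq_one] using e)
    · exact hy1 (by simpa using e.symm)
    · exact hab rfl
    · exact hnc x hx e
    · exact hz1 (by simpa using e.symm)
    · refine hnc x⁻¹ ((stab ρ w).inv_mem hx) ?_
      rw [← e]; group
    · exact hab rfl)
  rwa [Finset.card_insert_of_notMem (by simp [Ne.symm hy1, Ne.symm hz1]), Finset.card_pair hne] at this

theorem Small.three_le_of_orders (h : Small ρ l) {w : W} {y z : E} (hy : GoodAt (stab ρ w) y)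
    (hz : GoodAt (stab ρ w) z) (hy1 : y ≠ 1) (hz1 : z ≠ 1) (hne : orderOf y ≠ orderOf z) :
    3 ≤ l w :=
  h.three_le_of_good hy hz hy1 hz1 (fun e => hne (e ▸ rfl)) fun x _ e => hne (e ▸ (orderOf_conj_eq x z))

/-- With a single character there is no nontrivial cyclic Sylow subgroup. -/
theorem Small.not_cyclic_sylow (h : Small ρ l) {w : W} (h1 : l w = 1) {ℓ : ℕ} [Fact ℓ.Prime]
    (hd : ℓ ∣ Nat.card (stab ρ w)) (P : Sylow ℓ (stab ρ w)) : ¬ IsCyclic P := fun hc => by
  obtain ⟨u, hu, hu1, -⟩ := exists_good_of_sylow hd P hc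
  have := h.two_le_of_good hu hu1
  omega

theorem Small.stab_eq_bot_of_cyclic (h : Small ρ l) {w : W} (h1 : l w = 1)
    (hc : IsCyclic (stab ρ w)) : stab ρ w = ⊥ := by
  by_contra hne
  obtain ⟨g, hg⟩ := (Subgroup.isCyclic_iff_exists_zpowers_eq_top _).1 hc
  have hgm : g ∈ stab ρ w := hg ▸ Subgroup.mem_zpowers g
  have h2 := h.two_le_of_good (good_of_cent hgm (isCyclic_le inf_le_left hc))
    (fun e => hne (by rw [← hg, e, Subgroup.zpowers_one_eq_bot]))
  omega

/-- An element with cyclic centralizer is good in every subgroup containing it. -/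
theorem good_of_irred [Nontrivial W] (hρ : Function.Injective ρ) {H : Subgroup E} {x : E} (hx : x ∈ H)
    (hi : Irred ρ x) : GoodAt H x :=
  good_of_cent hx (isCyclic_le inf_le_right (isCyclic_centralizer ρ hρ hi))

/-- An odd prime power group of vectors without fixed points is cyclic. -/
theorem isCyclic_or_exists_fix [Nontrivial W] {ℓ : ℕ} [hℓ : Fact ℓ.Prime] (hℓ2 : ℓ ≠ 2)
    (hℓp : ℓ ≠ p) {P : Subgroup E} (hP : IsPGroup ℓ P) :
    IsCyclic P ∨ ∃ y ∈ P, orderOf y = ℓ ∧ ∃ w : W, w ≠ 0 ∧ ρ y w = w := by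
  by_contra hcon
  push Not at hcon
  obtain ⟨hnc, hfix⟩ := hcon
  refine hnc (CfsgLib.Frob.isCyclic_of_uniq_odd hℓ2 hP ?_)
  haveI : Nontrivial P := by
    rw [← not_subsingleton_iff_nontrivial]
    intro hs
    exact hnc isCyclic_of_subsingleton
  haveI := hP.center_nontrivial
  obtain ⟨x, hx⟩ := exists_prime_orderOf_dvd_card' (G := Subgroup.center P) ℓ (by
    obtain ⟨k, hk0, hk⟩ := ((hP.to_subgroup (Subgroup.center P)).nontrivial_iff_card).1 inferInstance
    exact hk ▸ dvd_pow_self ℓ hk0.ne')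
  have hxo : orderOf ((x : P) : E) = ℓ := by rw [Subgroup.orderOf_coe, Subgroup.orderOf_coe, hx]
  have hmem : ∀ y : P, orderOf y = ℓ → y ∈ Subgroup.zpowers (x : P) := by
    intro y hy
    have hyo : orderOf (y : E) = ℓ := by rw [Subgroup.orderOf_coe, hy]
    have hc : (x : P) * y = y * (x : P) := (Subgroup.mem_center_iff.1 x.2 y).symm
    rcases exists_fix_pair ρ hℓ.1 hℓp hxo hyo (congrArg Subtype.val hc) with
      ⟨w, hw, he⟩ | ⟨i, w, hw, he⟩
    · exact absurd he (hfix _ (x : P).2 hxo w hw)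
    · by_cases h1 : (x : P) ^ i * y = 1
      · rw [eq_inv_of_mul_eq_one_right h1]
        exact Subgroup.inv_mem _ ((Subgroup.zpowers (x : P)).pow_mem (Subgroup.mem_zpowers _) i)
      · refine absurd he (hfix _ ((((x : P) ^ i) * y : P)).2 ?_ w hw)
        have hc' : Commute ((x : P) ^ i) y := Commute.pow_left hc i
        have hxl : (x : P) ^ ℓ = 1 := by rw [← hx, ← Subgroup.orderOf_coe]; exact pow_orderOf_eq_one _
        show orderOf (((x : P) ^ i * y : P) : E) = ℓ
        rw [Subgroup.orderOf_coe]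
        refine orderOf_eq_prime ?_ h1
        rw [hc'.mul_pow, ← pow_mul, mul_comm, pow_mul, hxl, one_pow, one_mul, ← hy,
          pow_orderOf_eq_one]
  intro A B hA hB
  have key : ∀ C : Subgroup P, Nat.card C = ℓ → C = Subgroup.zpowers (x : P) := by
    intro C hC
    obtain ⟨c, hc⟩ := exists_prime_orderOf_dvd_card' (G := C) ℓ (by rw [hC])
    have h1 := hmem c (by rw [Subgroup.orderOf_coe, hc])
    have hle : Subgroup.zpowers (c : P) ≤ C := Subgroup.zpowers_le.2 c.2
    rw [← Subgroup.eq_of_le_of_card_ge hle (by rw [Nat.card_zpowers, Subgroup.orderOf_coe, hc, hC])]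
    refine Subgroup.eq_of_le_of_card_ge (Subgroup.zpowers_le.2 h1) ?_
    rw [Nat.card_zpowers, Nat.card_zpowers, Subgroup.orderOf_coe, Subgroup.orderOf_coe, hc, hx]
  exact (key A hA).trans (key B hB).symm

end CfsgLib.Blocks.KThree
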