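import Cfsg.Agent.Lib.Blocks.KThree.Count
import Cfsg.Agent.Lib.Blocks.KThree.Setup
import Cfsg.Agent.Lib.Blocks.Reynolds

/-!
# From good elements to characters
-/

namespace CfsgLib.Blocks.KThree

open Cfsg CfsgLib.CharTheory CfsgLib.Blocks
open scoped ComplexConjugate

set_option linter.unusedVariables false
set_option linter.style.haveILetI false
set_option linter.unusedSectionVars false
set_option linter.unusedSimpArgs false

universe u v

/-- Good elements of the image bound the characters over an invariant character. -/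
theorem card_le_over_of_map {Y : Type u} [Group Y] [Fintype Y] {E : Type v} [Group E] [Finite E]
    (N : Subgroup Y) [hN : N.Normal] [Fintype N] (π : Y →* E) (hker : π.ker = N) {θ : N → ℂ}
    (hθ : IsIrrCharacter N θ) (hinv : ∀ g : Y, conjNormFun N g θ = θ) (S : Finset E)
    (hgood : ∀ y ∈ S, GoodAt π.range y) (hnc : NonConj π.range S) :
    S.card ≤ Nat.card (Over N θ) := by
  classical
  have hlift : ∀ y : S, ∃ x : Y, π x = y := fun y => (hgood y y.2).1
  choose f hf using hlift
  have hinj : Function.Injective f := fun a b h => Subtype.ext (by rw [← hf a, ← hf b, h])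
  have hcard : S.card = (Finset.univ.image f).card := by
    rw [Finset.card_image_of_injective _ hinj, Finset.card_univ, Fintype.card_coe]
  rw [hcard]
  have hmemN : ∀ x : Y, x ∈ N ↔ π x = 1 := fun x => by rw [← hker, MonoidHom.mem_ker]
  refine card_le_over N hθ hinv _ (fun y hy z hz hne x hmem => ?_) (fun y hy => ?_)
  · obtain ⟨a, -, rfl⟩ := Finset.mem_image.1 hy
    obtain ⟨b, -, rfl⟩ := Finset.mem_image.1 hz
    refine hnc a a.2 b b.2 (fun h => hne (by rw [Subtype.ext h])) (π x) ⟨x, rfl⟩ ?_
    rw [hmemN, map_mul, map_mul, map_mul, map_inv, map_inv, hf, hf, mul_inv_eq_one] at hmem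
    exact hmem
  · obtain ⟨a, -, rfl⟩ := Finset.mem_image.1 hy
    obtain ⟨-, L, hLH, hL, haL, hco⟩ := hgood a a.2
    refine ⟨L.comap π, fun n hn => ?_, ?_, ?_, ?_⟩
    · rw [Subgroup.mem_comap, (hmemN n).1 hn]
      exact one_mem _
    · haveI := hL
      let g : L.comap π →* L := (π.comp (L.comap π).subtype).codRestrict L fun x => x.2
      have hgs : Function.Surjective g := fun z => by
        obtain ⟨x, hx⟩ := hLH z.2
        exact ⟨⟨x, Subgroup.mem_comap.2 (hx ▸ z.2)⟩, Subtype.ext hx⟩
      have hgk : g.ker = N.subgroupOf (L.comap π) := by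
        ext x
        rw [MonoidHom.mem_ker, Subgroup.mem_subgroupOf, hmemN]
        exact Subtype.ext_iff
      let e := (QuotientGroup.quotientMulEquivOfEq hgk).symm.trans
        (QuotientGroup.quotientKerEquivOfSurjective g hgs)
      exact isCyclic_of_surjective _ e.symm.surjective
    · rw [Subgroup.mem_comap, hf]; exact haL
    · have hcent : (Subgroup.centralizer ({((f a : Y) : Y ⧸ N)} : Set (Y ⧸ N))).comap
          (QuotientGroup.mk' N) =
          (π.range ⊓ Subgroup.centralizer ({(a : E)} : Set E)).comap π := by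
        ext x
        simp only [Subgroup.mem_comap, Subgroup.mem_inf, Subgroup.mem_centralizer_singleton_iff,
          QuotientGroup.mk'_apply]
        rw [← QuotientGroup.mk_mul, ← QuotientGroup.mk_mul, QuotientGroup.eq, hmemN, map_mul,
          map_inv, inv_mul_eq_one, map_mul, map_mul, hf]
        exact ⟨fun h => ⟨⟨x, rfl⟩, h⟩, fun h => h.2⟩
      rw [hcent, Subgroup.relIndex_comap,
        Subgroup.map_comap_eq_self (inf_le_left : π.range ⊓ _ ≤ π.range)]
      have hord : orderOf ((f a : Y) : Y ⧸ N) = orderOf (a : E) := by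
        let g : Y ⧸ N →* E := QuotientGroup.lift N π hker.ge
        have hg : Function.Injective g := by
          intro p q h
          induction p using QuotientGroup.induction_on with
          | H p => induction q using QuotientGroup.induction_on with
            | H q =>
              rw [QuotientGroup.eq, hmemN, map_mul, map_inv, inv_mul_eq_one]
              exact h
        rw [← hf a, ← orderOf_injective g hg]
        rfl
      rw [hord]
      exact hco

variable {p : ℕ} {M : Ideal AlgInt} {G : Type u} [Group G] [Fintype G]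

/-- The characters over a covered block containing the centralizer lie in the covering block. -/
theorem mem_of_over_covered (hM : IsPModular p M) {B : Set (IrrCharacter G)} (hB : IsPBlock M B)
    {P : Subgroup G} [P.Normal] (hPp : IsPGroup p P) {N : Subgroup G} [N.Normal] [Fintype N]
    (hCN : Subgroup.centralizer (P : Set G) ≤ N) {b : Set (IrrCharacter N)} (hb : IsPBlock M b)
    (hcov : ∃ χ ∈ B, ∃ θ ∈ b, classInner (fun n : N => (χ : G → ℂ) n) (θ : N → ℂ) ≠ 0)
    (χ : IrrCharacter G) {ψ : IrrCharacter N} (hψ : ψ ∈ b)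
    (hne : classInner (fun n : N => (χ : G → ℂ) n) (ψ : N → ℂ) ≠ 0) : χ ∈ B := by
  classical
  obtain ⟨χ₀, hχ₀⟩ := block_nonempty hM hB
  set f : G → ℂ := fun g => if g ∈ N then blockCoeff B g else 0 with hf
  have hfc : IsClassFunction G f := fun a g => by
    have : g * a * g⁻¹ ∈ N ↔ a ∈ N :=
      ⟨fun h => by simpa [mul_assoc] using (‹N.Normal›).conj_mem _ h g⁻¹,
        fun h => (‹N.Normal›).conj_mem _ h g⟩
    simp only [hf, this, blockCoeff_isClassFunction B a g]
  have hfm : ∀ g, MemLocalRing M (f g) := fun g => by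
    simp only [hf]
    split_ifs
    · exact memRing_blockCoeff hM hB g
    · exact (loc hM).zero_mem
  have hoff : ∀ g ∉ N, f g = 0 := fun g hg => by simp [hf, hg]
  have heq : ∀ χ' : IrrCharacter G,
      res hM (omega (χ' : G → ℂ) f) = res hM (omega (χ' : G → ℂ) (blockCoeff B)) := by
    intro χ'
    refine res_omega_congr hM hfc (blockCoeff_isClassFunction B) hfm
      (memRing_blockCoeff hM hB) (fun g => ?_) χ'
    simp only [hf]
    split_ifs with hg
    · rfl
    · rw [res_zero, eq_comm, res_eq_zero_iff hM (memRing_blockCoeff hM hB g)]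
      by_contra hu
      exact hg (hCN (mem_centralizer_normal hM hB hPp hu))
  have e1 := res_omega_covers hM hB hb hcov hχ₀ hψ hfc hfm hoff
  have e2 := res_omega_covers hM (blockOf_isPBlock χ) hb
    ⟨χ, mem_blockOf_self hM χ, ψ, hψ, hne⟩ (mem_blockOf_self hM χ) hψ hfc hfm hoff
  have e3 := e2.trans e1.symm
  haveI := res_isDomain hM
  rw [heq, heq, ← cf_ind, omega_cf, omega_cf, ind_of_mem hχ₀, res_one] at e3
  by_contra hχ
  rw [ind_of_notMem hχ, res_zero] at e3
  exact zero_ne_one e3

/-- The index of the inertia group has the full `p`-part. -/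
theorem inertia_index_ge (hM : IsPModular p M) {B : Set (IrrCharacter G)}
    {N : Subgroup G} [N.Normal] [Fintype N] {θ : IrrCharacter N}
    (hover : ∀ χ : IrrCharacter G, classInner (fun n : N => (χ : G → ℂ) n) (θ : N → ℂ) ≠ 0 → χ ∈ B)
    (hminB : minDv p B = dv p (θ : N → ℂ) + N.index.factorization p) :
    N.index.factorization p ≤ (inertia N (θ : N → ℂ)).index.factorization p := by
  classical
  haveI : Fact p.Prime := ⟨hM.1⟩
  have hi : N.index ≠ 0 := Subgroup.index_ne_zero_of_finite
  obtain ⟨dθ, hdθ0, hdθ⟩ := irr_degree_pos θ.2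
  set t := (inertia N (θ : N → ℂ)).index with ht
  have ht0 : t ≠ 0 := Subgroup.index_ne_zero_of_finite
  by_contra hlt
  set s := N.index.factorization p - t.factorization p with hs
  have hm : ∀ χ : IrrCharacter G, ∃ m : ℕ,
      classInner (fun n : N => (χ : G → ℂ) n) (θ : N → ℂ) = m ∧ p ^ s ∣ m ∧
      (m ≠ 0 → (χ : G → ℂ) 1 = ((m * t * dθ : ℕ) : ℂ)) := by
    intro χ
    obtain ⟨m, hm⟩ := classInner_char_nat (isCharacter_restrict (isCharacter_of_irr χ.2) N)
      (isCharacter_of_irr θ.2)
    refine ⟨m, hm, ?_, ?_⟩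
    · rcases eq_or_ne m 0 with rfl | hm0
      · exact dvd_zero _
      · have hne : classInner (fun n : N => (χ : G → ℂ) n) (θ : N → ℂ) ≠ 0 := by
          rw [hm]; exact_mod_cast hm0
        have hdeg := clifford_degree N χ.2 θ.2 hne
        rw [hm, hdθ, ← ht, ← Nat.cast_mul, ← Nat.cast_mul] at hdeg
        have hle := minDv_le (p := p) (hover χ hne)
        rw [hminB, dv_of_one hdθ, dv_of_one hdeg, Nat.factorization_mul
          (Nat.mul_ne_zero hm0 ht0) (by omega), Nat.factorization_mul hm0 ht0,
          Finsupp.add_apply, Finsupp.add_apply] at hle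
        exact (pow_dvd_pow p (by omega)).trans (Nat.ordProj_dvd m p)
    · intro hm0
      have hne : classInner (fun n : N => (χ : G → ℂ) n) (θ : N → ℂ) ≠ 0 := by
        rw [hm]; exact_mod_cast hm0
      have hdeg := clifford_degree N χ.2 θ.2 hne
      rwa [hm, hdθ, ← ht, ← Nat.cast_mul, ← Nat.cast_mul] at hdeg
  choose m hm hmdvd hmdeg using hm
  have hsum : N.index = t * ∑ χ : IrrCharacter G, m χ * m χ := by
    have h1 := congrFun (eq_sum_irr (indFun_isClassFunction N (θ : N → ℂ))) 1
    rw [indFun_apply_one, hdθ, Finset.sum_apply] at h1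
    have h2 : ∀ χ : IrrCharacter G,
        (classInner (indFun N (θ : N → ℂ)) (χ : G → ℂ) • (χ : G → ℂ)) 1 =
        ((m χ * m χ * t * dθ : ℕ) : ℂ) := by
      intro χ
      rw [Pi.smul_apply, smul_eq_mul, frobenius_reciprocity N _ (isClassFunction_irr χ.2),
        ← classInner_comm, hm χ, Complex.conj_natCast]
      rcases eq_or_ne (m χ) 0 with h0 | h0
      · simp [h0]
      · rw [hmdeg χ h0]; push_cast; ring
    rw [Finset.sum_congr rfl fun χ _ => h2 χ, ← Nat.cast_sum, ← Nat.cast_mul, Nat.cast_inj,
      ← Finset.sum_mul, ← Finset.sum_mul] at h1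
    rw [mul_comm t]
    exact Nat.eq_of_mul_eq_mul_right hdθ0 h1
  have hdvd : p ^ (t.factorization p + 2 * s) ∣ N.index := by
    rw [hsum, pow_add]
    refine mul_dvd_mul (Nat.ordProj_dvd t p) (Finset.dvd_sum fun χ _ => ?_)
    rw [two_mul, pow_add]
    exact mul_dvd_mul (hmdvd χ) (hmdvd χ)
  have := (hM.1.pow_dvd_iff_le_factorization hi).1 hdvd
  omega

end CfsgLib.Blocks.KThree
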