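import Cfsg.Agent.Lib.CharTheory.Gallagher
import Cfsg.Agent.Lib.CharTheory.ExtCriteria

/-!
# Lower bound for the number of irreducible characters over an invariant character
-/

namespace CfsgLib.Blocks.KThree

open Cfsg CfsgLib.CharTheory
open scoped ComplexConjugate

set_option linter.unusedVariables false
set_option linter.style.haveILetI false
set_option linter.unusedSectionVars false

universe u

variable {G : Type u} [Group G] [Fintype G] (N : Subgroup G) [hN : N.Normal]

theorem sum_coset_mul_conj_eq_zero [Fintype N] {α β : G → ℂ} (hα : IsCharacter G α)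
    (hβ : IsCharacter G β) (h0 : classInner (fun n : N => α n) (fun n : N => β n) = 0) (g : G) :
    ∑ n : N, α ((n : G) * g) * conj (β ((n : G) * g)) = 0 := by
  have hc : IsCharacter G (fun x => α x * conj (β x)) := isCharacter_mul hα (isCharacter_conj hβ)
  have hz := eq_zero_of_degree_zero (isCharacter_cosetAvg N hc) (by
    simp only [cosetAvg, mul_one]
    exact h0)
  have h := congrFun hz g
  simp only [cosetAvg, Pi.zero_apply, mul_eq_zero, inv_eq_zero, Nat.cast_eq_zero,
    Nat.card_pos.ne', false_or] at h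
  exact h

theorem exists_ne_zero_in_coset [Fintype N] {α : G → ℂ} (hα : IsCharacter G α)
    (hres : IsIrrCharacter N (fun n : N => α n)) (g : G) : ∃ n : N, α ((n : G) * g) ≠ 0 := by
  have hc : IsCharacter G (fun x => α x * conj (α x)) := isCharacter_mul hα (isCharacter_conj hα)
  obtain ⟨φ, hφ⟩ := exists_hom_of_degree_one (isCharacter_cosetAvg N hc) (by
    simp only [cosetAvg, mul_one]
    exact classInner_irr_self hres)
  by_contra hall
  push Not at hall
  apply (φ g).ne_zero
  have h := congrFun hφ g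
  simp [cosetAvg, hall] at h
  exact h.symm

/-- A character restricting irreducibly is irreducible. -/
theorem irr_of_res_irr [Fintype N] {α : G → ℂ} (hα : IsCharacter G α)
    (hres : IsIrrCharacter N (fun n : N => α n)) : IsIrrCharacter G α := by
  obtain ⟨c, hc, hne⟩ := exists_constituent hα (fun h => irr_ne_zero hres (by simpa using congrFun h 1))
  have hd := isCharacter_sub_irr hα hc hne
  have hcN := isCharacter_restrict (isCharacter_of_irr hc) N
  have hdN := isCharacter_restrict hd N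
  have hsum := classInner_irr_self hres
  obtain ⟨a, ha⟩ := classInner_char_nat hcN (isCharacter_of_irr hres)
  obtain ⟨b, hb⟩ := classInner_char_nat hdN (isCharacter_of_irr hres)
  have hab : a + b = 1 := by
    have : ((a + b : ℕ) : ℂ) = 1 := by
      push_cast
      rw [← ha, ← hb, ← classInner_add_left, ← hsum]
      congr 1
      funext n
      simp
    exact_mod_cast this
  have hzero : ∀ f : G → ℂ, IsCharacter G f → ∀ g : G → ℂ, IsCharacter G g → f + g = α →
      classInner (fun n : N => g n) (fun n : N => α n) = 1 → f = 0 := by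
    intro f hf g hg e h1
    refine eq_zero_of_degree_zero hf ?_
    have hgN := isCharacter_restrict hg N
    have h2 := isCharacter_sub_irr hgN hres (by rw [h1]; exact one_ne_zero)
    obtain ⟨d, hd⟩ := char_one_eq_natCast h2
    obtain ⟨d', hd'⟩ := char_one_eq_natCast hf
    have h3 : ((d' + d : ℕ) : ℂ) = 0 := by
      push_cast
      rw [← hd, ← hd']
      simp [← e]
    have h4 : d' + d = 0 := by exact_mod_cast h3
    rw [hd', show d' = 0 by omega, Nat.cast_zero]
  rcases Nat.eq_zero_or_pos b with rfl | hb0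
  · have := hzero _ hd _ (isCharacter_of_irr hc) (sub_add_cancel α c)
      (by rw [ha, show a = 1 by omega, Nat.cast_one])
    rwa [sub_eq_zero.1 this]
  · exfalso
    exact irr_ne_zero hc (congrFun (hzero _ (isCharacter_of_irr hc) _ hd (add_sub_cancel c α)
      (by rw [hb, show b = 1 by omega, Nat.cast_one])) 1)

/-- An automorphism fixing an irreducible restriction twists the character by a linear one. -/
theorem exists_twist [Fintype N] {ψ : G → ℂ} (hψ : IsCharacter G ψ)
    (hres : IsIrrCharacter N (fun n : N => ψ n)) (φ : G →* G)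
    (hfix : ∀ n : N, ψ (φ n) = ψ n) :
    ∃ β : G →* ℂˣ, (∀ n ∈ N, β n = 1) ∧ ∀ g, ψ (φ g) = (β g : ℂ) * ψ g := by
  have hc := isCharacter_comp hψ φ
  have hcres : (fun n : N => (fun g => ψ (φ g)) (n : G)) = fun n : N => ψ n := funext hfix
  have hirr : IsIrrCharacter G (fun g => ψ (φ g)) := irr_of_res_irr N hc (hcres.symm ▸ hres)
  obtain ⟨β, hβ, hk, e⟩ := (gallagher N hψ hres).2.2 _ hirr (by
    rw [hcres, classInner_irr_self hres]; exact one_ne_zero)
  have e1 := congrFun e 1
  simp only [Pi.mul_apply, map_one] at e1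
  have hψ1 : ψ 1 ≠ 0 := by
    have := irr_ne_zero hres
    simpa using this
  have hβ1 : β 1 = 1 := mul_right_cancel₀ hψ1 (e1.symm.trans (one_mul _).symm)
  obtain ⟨b, hb⟩ := exists_hom_of_degree_one (isCharacter_of_irr hβ) hβ1
  refine ⟨b, fun n hn => Units.ext ?_, fun g => ?_⟩
  · rw [← congrFun hb n, hk n hn, hβ1, Units.val_one]
  · have h := congrFun e g
    simp only [Pi.mul_apply] at h
    rw [h, congrFun hb g]

/-- A class function concentrated on one class of the factor group, orthogonal to the characters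
not lying over the given one. -/
theorem exists_fun_at [Fintype N] {θ : N → ℂ} (hθ : IsIrrCharacter N θ)
    (hinv : ∀ g : G, conjNormFun N g θ = θ) {K : Subgroup G} (hNK : N ≤ K)
    (hcyc : IsCyclic (K ⧸ N.subgroupOf K)) {y : G} (hyK : y ∈ K)
    (hco : (K.relIndex ((Subgroup.centralizer ({(y : G ⧸ N)} : Set (G ⧸ N))).comap
      (QuotientGroup.mk' N))).Coprime (orderOf (y : G ⧸ N))) :
    ∃ F : G → ℂ, IsClassFunction G F ∧
      (∀ χ, IsIrrCharacter G χ → classInner (fun n : N => χ n) θ = 0 → classInner F χ = 0) ∧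
      (∀ g, (∀ x : G, x * g * x⁻¹ * y⁻¹ ∉ N) → F g = 0) ∧
      ∃ n : N, F ((n : G) * y) ≠ 0 := by
  classical
  haveI := Fintype.ofFinite K
  haveI := Fintype.ofFinite (N.subgroupOf K)
  have hθ' : IsIrrCharacter (N.subgroupOf K)
      (fun x => θ ⟨(x : K), Subgroup.mem_subgroupOf.mp x.2⟩) := isIrr_subgroupOf N hNK hθ
  obtain ⟨ψ, hψ, hψN⟩ := exists_extension_of_cyclic (G := K) hθ' (fun k x => by
    exact congrFun (hinv (k : G)) ⟨(x : K), Subgroup.mem_subgroupOf.mp x.2⟩) hcyc
  have hψc := isCharacter_of_irr hψ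
  have hres : IsIrrCharacter (N.subgroupOf K) (fun x : N.subgroupOf K => ψ x) := by
    rwa [show (fun x : N.subgroupOf K => ψ x) = _ from funext hψN]
  obtain ⟨⟨n₀, hn₀⟩, hy'⟩ := exists_ne_zero_in_coset (N.subgroupOf K) hψc hres ⟨y, hyK⟩
  set y' : K := n₀ * ⟨y, hyK⟩ with hy'def
  have hy'N : (y' : G) * y⁻¹ ∈ N := by
    simpa [hy'def] using Subgroup.mem_subgroupOf.mp hn₀
  have hy'q : (((y' : K) : G) : G ⧸ N) = (y : G ⧸ N) := by
    have := (QuotientGroup.eq_one_iff _).2 hy'N
    rwa [QuotientGroup.mk_mul, QuotientGroup.mk_inv, mul_inv_eq_one] at this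
  -- the cyclic factor group is commutative
  have hKab : ∀ a b : K, (((a * b * a⁻¹ : K) : G)) * (b : G)⁻¹ ∈ N := by
    intro a b
    letI := hcyc.commGroup
    have h1 : ((a * b * a⁻¹ * b⁻¹ : K) : K ⧸ N.subgroupOf K) = 1 := by
      simp only [QuotientGroup.mk_mul, QuotientGroup.mk_inv]
      rw [mul_comm (a : K ⧸ N.subgroupOf K) b, mul_inv_cancel_right, mul_inv_cancel]
    simpa [Subgroup.mem_subgroupOf] using (QuotientGroup.eq_one_iff _).1 h1
  set F : K → ℂ := fun k => if (k : G) * y⁻¹ ∈ N then ψ k else 0 with hF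
  refine ⟨indFun K F, indFun_isClassFunction K F, ?_, ?_, ?_⟩
  · intro χ hχ h0
    rw [frobenius_reciprocity K F (isClassFunction_irr hχ), classInner]
    refine mul_eq_zero_of_right _ ?_
    have h1 : classInner (fun x : N.subgroupOf K => ψ x) (fun x : N.subgroupOf K => χ (x : K)) = 0 := by
      rw [← classInner_comm, map_eq_zero, show (fun x : N.subgroupOf K => ψ x) = _ from funext hψN]
      exact (classInner_subgroupOf N hNK (fun k : K => χ k) θ).trans h0
    have h2 := sum_coset_mul_conj_eq_zero (N.subgroupOf K) hψc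
      (isCharacter_restrict (isCharacter_of_irr hχ) K) h1 ⟨y, hyK⟩
    have hiff : ∀ k : K, (k : G) * y⁻¹ ∈ N ↔ k * (⟨y, hyK⟩ : K)⁻¹ ∈ N.subgroupOf K := fun k => by
      simp [Subgroup.mem_subgroupOf]
    simp only [hF, ite_mul, zero_mul]
    rw [← Finset.sum_filter, ← h2]
    refine Finset.sum_bij' (fun k hk => (⟨k * (⟨y, hyK⟩ : K)⁻¹, (hiff k).1 (Finset.mem_filter.1 hk).2⟩ : N.subgroupOf K))
      (fun n _ => (n : K) * ⟨y, hyK⟩) (fun _ _ => Finset.mem_univ _) (fun n _ => ?_)
      (fun k _ => ?_) (fun n _ => ?_) (fun k _ => ?_)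
    · rw [Finset.mem_filter]
      exact ⟨Finset.mem_univ _, (hiff _).2 (by simp)⟩
    · simp
    · simp
    · simp
  · intro g hg
    simp only [indFun]
    refine mul_eq_zero_of_right _ (Finset.sum_eq_zero fun x _ => ?_)
    by_cases hx : x⁻¹ * g * x ∈ K
    · rw [extendByZero_of_mem _ _ hx]
      refine if_neg fun h => hg x⁻¹ ?_
      rwa [inv_inv]
    · exact extendByZero_of_not_mem _ _ hx
  · refine ⟨⟨(n₀ : G), Subgroup.mem_subgroupOf.mp hn₀⟩, ?_⟩
    show indFun K F ((y' : K) : G) ≠ 0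
    set Cy := (Subgroup.centralizer ({(y : G ⧸ N)} : Set (G ⧸ N))).comap (QuotientGroup.mk' N)
      with hCy
    have hmemC : ∀ x : G, x ∈ Cy ↔ x * (y' : G) * x⁻¹ * y⁻¹ ∈ N := by
      intro x
      rw [hCy, Subgroup.mem_comap, Subgroup.mem_centralizer_singleton_iff,
        ← QuotientGroup.eq_one_iff]
      simp only [QuotientGroup.mk_mul, QuotientGroup.mk_inv, QuotientGroup.mk'_apply, hy'q]
      rw [mul_inv_eq_one, mul_inv_eq_iff_eq_mul]
    have hconjK : ∀ x : G, x ∈ Cy → x * (y' : G) * x⁻¹ ∈ K := fun x hx => by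
      have := K.mul_mem (hNK ((hmemC x).1 hx)) hyK
      rwa [inv_mul_cancel_right] at this
    have hKC : ∀ k : K, (k : G) ∈ Cy := fun k => by
      rw [hmemC]
      have h1 := hKab k y'
      have := N.mul_mem h1 hy'N
      simpa [mul_assoc] using this
    -- the twisting
    set K₀ : Subgroup G := (Subgroup.zpowers (y : G ⧸ N)).comap (QuotientGroup.mk' N) with hK₀
    have hNK₀ : N ≤ K₀ := fun n hn => by
      rw [hK₀, Subgroup.mem_comap, QuotientGroup.mk'_apply, (QuotientGroup.eq_one_iff n).2 hn]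
      exact one_mem _
    have hK₀K : K₀ ≤ K := by
      intro z hz
      obtain ⟨i, hi⟩ := Subgroup.mem_zpowers_iff.1 hz
      have h1 : (y ^ i)⁻¹ * z ∈ N := QuotientGroup.eq.1 (by simpa using hi)
      have := K.mul_mem (K.zpow_mem hyK i) (hNK h1)
      rwa [mul_inv_cancel_left] at this
    have hy'₀ : (y' : G) ∈ K₀ := by
      rw [hK₀, Subgroup.mem_comap, QuotientGroup.mk'_apply, hy'q]
      exact Subgroup.mem_zpowers _
    have hnorm : ∀ x ∈ Cy, ∀ z ∈ K₀, x * z * x⁻¹ ∈ K₀ := by
      intro x hx z hz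
      rw [hK₀, Subgroup.mem_comap, QuotientGroup.mk'_apply] at hz ⊢
      obtain ⟨i, hi⟩ := Subgroup.mem_zpowers_iff.1 hz
      rw [hCy, Subgroup.mem_comap, Subgroup.mem_centralizer_singleton_iff, QuotientGroup.mk'_apply] at hx
      rw [QuotientGroup.mk_mul, QuotientGroup.mk_mul, QuotientGroup.mk_inv, ← hi,
        (Commute.zpow_right hx i).eq, mul_inv_cancel_right]
      exact Subgroup.zpow_mem_zpowers _ _
    have hconj₀ : ∀ x ∈ Cy, ∃ β : K₀ →* ℂˣ,
        (∀ n : K₀, (n : G) ∈ N → β n = 1) ∧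
        ∀ (z : K₀) (hz : x * (z : G) * x⁻¹ ∈ K), ψ ⟨x * z * x⁻¹, hz⟩ = (β z : ℂ) * ψ ⟨z, hK₀K z.2⟩ := by
      intro x hx
      haveI := Fintype.ofFinite K₀
      haveI := Fintype.ofFinite (N.subgroupOf K₀)
      let φ : K₀ →* K₀ :=
        { toFun := fun z => ⟨x * z * x⁻¹, hnorm x hx z z.2⟩
          map_one' := Subtype.ext (by simp)
          map_mul' := fun a b => Subtype.ext (by simp [mul_assoc]) }
      have hc0 : IsCharacter K₀ (fun z : K₀ => ψ (Subgroup.inclusion hK₀K z)) :=
        isCharacter_comp hψc (Subgroup.inclusion hK₀K)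
      have e : ∀ n : N.subgroupOf K₀, ψ (Subgroup.inclusion hK₀K n) =
          θ ⟨(n : K₀), Subgroup.mem_subgroupOf.mp n.2⟩ := fun n =>
        hψN ⟨Subgroup.inclusion hK₀K n, Subgroup.mem_subgroupOf.mpr (Subgroup.mem_subgroupOf.mp n.2)⟩
      obtain ⟨β, hβ1, hβ2⟩ := exists_twist (N.subgroupOf K₀) hc0
        (by rw [show (fun n : N.subgroupOf K₀ => ψ (Subgroup.inclusion hK₀K n)) = _ from funext e]
            exact isIrr_subgroupOf N hNK₀ hθ) φ (fun n => by
          have h1 := e ⟨φ n, Subgroup.mem_subgroupOf.mpr (hN.conj_mem _ (Subgroup.mem_subgroupOf.mp n.2) x)⟩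
          rw [h1, e n]
          exact congrFun (hinv x) ⟨(n : K₀), Subgroup.mem_subgroupOf.mp n.2⟩)
      exact ⟨β, fun n hn => hβ1 n (Subgroup.mem_subgroupOf.mpr hn), fun z hz => hβ2 z⟩
    choose β hβ1 hβ2 using hconj₀
    set μ : Cy → ℂˣ := fun x => β x x.2 ⟨y', hy'₀⟩ with hμ
    have hval : ∀ x : Cy, ψ ⟨(x : G) * (y' : G) * (x : G)⁻¹, hconjK x x.2⟩ = (μ x : ℂ) * ψ y' :=
      fun x => hβ2 x x.2 ⟨y', hy'₀⟩ (hconjK x x.2)
    have hμmul : ∀ a b : Cy, μ (a * b) = μ a * μ b := by
      intro a b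
      have hb' : (b : G) * y' * (b : G)⁻¹ ∈ K₀ := hnorm b b.2 y' hy'₀
      have hn : (b : G) * y' * (b : G)⁻¹ * (y' : G)⁻¹ ∈ N := by
        have h1 := N.mul_mem ((hmemC b).1 b.2) (N.inv_mem hy'N)
        simpa [mul_assoc] using h1
      have hab' : (a : G) * ((b : G) * y' * (b : G)⁻¹) * (a : G)⁻¹ ∈ K := hK₀K (hnorm a a.2 _ hb')
      have h2 := hβ2 a a.2 ⟨_, hb'⟩ hab'
      have e : β a a.2 ⟨_, hb'⟩ = μ a := by
        have : (⟨_, hb'⟩ : K₀) = ⟨_, hNK₀ hn⟩ * ⟨y', hy'₀⟩ := Subtype.ext (by simp)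
        rw [this, map_mul, hβ1 a a.2 _ hn, one_mul]
      refine Units.ext (mul_right_cancel₀ hy' ?_)
      refine (hval (a * b)).symm.trans ((Eq.trans (congrArg ψ (Subtype.ext
        (by simp [mul_assoc]))) h2).trans ?_)
      rw [e]
      exact (congrArg ((μ a : ℂ) * ·) (hval b)).trans (by rw [Units.val_mul, mul_assoc])
    let μh : Cy →* ℂˣ := MonoidHom.mk' μ hμmul
    have hker : K.subgroupOf Cy ≤ μh.ker := by
      intro x hx
      rw [MonoidHom.mem_ker]
      refine Units.ext (mul_right_cancel₀ hy' ?_)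
      rw [MonoidHom.mk'_apply, ← hval, Units.val_one, one_mul]
      exact (isClassFunction_irr hψ) y' ⟨x, hx⟩
    have hone : ∀ x : Cy, μ x = 1 := by
      intro x
      have h1 : μ x ^ (K.relIndex Cy) = 1 := by
        obtain ⟨c, hc⟩ : μh.ker.index ∣ K.relIndex Cy := Subgroup.index_dvd_of_le hker
        have := MonoidHom.mem_ker.1 (μh.ker.pow_index_mem x)
        rw [map_pow, MonoidHom.mk'_apply] at this
        rw [hc, pow_mul, this, one_pow]
      have h2 : μ x ^ orderOf (y : G ⧸ N) = 1 := by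
        rw [hμ, ← map_pow]
        refine hβ1 x x.2 _ ?_
        rw [Subgroup.coe_pow, ← QuotientGroup.eq_one_iff, QuotientGroup.mk_pow, hy'q,
          pow_orderOf_eq_one]
      have h3 := pow_gcd_eq_one.mpr ⟨h1, h2⟩
      rw [hco.gcd_eq_one, pow_one] at h3
      exact h3
    simp only [indFun]
    refine mul_ne_zero (inv_ne_zero (Nat.cast_ne_zero.2 Nat.card_pos.ne')) ?_
    have hterm : ∀ x : G, extendByZero K F (x⁻¹ * y' * x) = if x ∈ Cy then ψ y' else 0 := by
      intro x
      split_ifs with hx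
      · have h1 := hval ⟨x, hx⟩⁻¹
        rw [hone, Units.val_one, one_mul] at h1
        have h2 := (hmemC x⁻¹).1 (Cy.inv_mem hx)
        rw [inv_inv] at h2
        have h3 := hconjK x⁻¹ (Cy.inv_mem hx)
        rw [inv_inv] at h3
        rw [extendByZero_of_mem _ _ h3, hF]
        simp only [h2, if_true]
        rw [← h1]
        congr 1
        exact Subtype.ext (by simp)
      · by_cases hK : x⁻¹ * y' * x ∈ K
        · rw [extendByZero_of_mem _ _ hK]
          refine if_neg fun h => hx ?_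
          have := (hmemC x⁻¹).2 (by simpa using h)
          simpa using Cy.inv_mem this
        · exact extendByZero_of_not_mem _ _ hK
    rw [Finset.sum_congr rfl fun x _ => hterm x, ← Finset.sum_filter, Finset.sum_const, nsmul_eq_mul]
    refine mul_ne_zero (Nat.cast_ne_zero.2 (Finset.card_pos.2 ⟨1, ?_⟩).ne') hy'
    simp [Cy.one_mem]

/-- The irreducible characters over a character of a normal subgroup. -/
abbrev Over [Fintype N] (θ : N → ℂ) : Type u :=
  {χ : IrrCharacter G // classInner (fun n : N => (χ : G → ℂ) n) θ ≠ 0}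

/-- At least as many characters over `θ` as classes of good elements of the factor group. -/
theorem card_le_over [Fintype N] {θ : N → ℂ} (hθ : IsIrrCharacter N θ)
    (hinv : ∀ g : G, conjNormFun N g θ = θ) (S : Finset G)
    (hdist : ∀ y ∈ S, ∀ z ∈ S, y ≠ z → ∀ x : G, x * z * x⁻¹ * y⁻¹ ∉ N)
    (hgood : ∀ y ∈ S, ∃ K : Subgroup G, N ≤ K ∧ IsCyclic (K ⧸ N.subgroupOf K) ∧ y ∈ K ∧
      (K.relIndex ((Subgroup.centralizer ({(y : G ⧸ N)} : Set (G ⧸ N))).comap
        (QuotientGroup.mk' N))).Coprime (orderOf (y : G ⧸ N))) :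
    S.card ≤ Nat.card (Over N θ) := by
  classical
  have h : ∀ y : S, ∃ F : G → ℂ, IsClassFunction G F ∧
      (∀ χ, IsIrrCharacter G χ → classInner (fun n : N => χ n) θ = 0 → classInner F χ = 0) ∧
      (∀ g, (∀ x : G, x * g * x⁻¹ * (y : G)⁻¹ ∉ N) → F g = 0) ∧
      ∃ n : N, F ((n : G) * y) ≠ 0 := fun y => by
    obtain ⟨K, h1, h2, h3, h4⟩ := hgood y y.2
    exact exists_fun_at N hθ hinv h1 h2 h3 h4
  choose F hFc hF0 hFv n hn using h
  let Φ : (Over N θ → ℂ) →ₗ[ℂ] (S → ℂ) :=
    { toFun := fun a y => ∑ χ, a χ * (χ.1 : G → ℂ) ((n y : G) * y)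
      map_add' := fun a b => by funext y; simp [add_mul, Finset.sum_add_distrib]
      map_smul' := fun r a => by funext y; simp [Finset.mul_sum, mul_assoc] }
  have hΦ : Function.Surjective Φ := by
    intro b
    refine ⟨fun χ => ∑ y : S, b y / F y ((n y : G) * y) * classInner (F y) (χ.1 : G → ℂ), ?_⟩
    funext z
    simp only [Φ, LinearMap.coe_mk, AddHom.coe_mk]
    simp only [Finset.sum_mul, mul_assoc]
    rw [Finset.sum_comm]
    simp only [← Finset.mul_sum]
    have hexp : ∀ y : S, ∑ χ : Over N θ, classInner (F y) (χ.1 : G → ℂ) *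
        (χ.1 : G → ℂ) ((n z : G) * z) = F y ((n z : G) * z) := by
      intro y
      conv_rhs => rw [eq_sum_irr (hFc y), Finset.sum_apply]
      simp only [Pi.smul_apply, smul_eq_mul]
      have hs := Finset.sum_filter_of_ne (s := Finset.univ) (f := fun χ : IrrCharacter G =>
        classInner (F y) (χ : G → ℂ) * (χ : G → ℂ) ((n z : G) * z))
        (p := fun χ : IrrCharacter G => classInner (fun m : N => (χ : G → ℂ) m) θ ≠ 0)
        (fun χ _ hne h0 => hne (by simp only [hF0 y _ χ.2 h0, zero_mul]))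
      refine Eq.trans ?_ hs
      exact (Finset.sum_subtype (p := fun χ : IrrCharacter G =>
        classInner (fun m : N => (χ : G → ℂ) m) θ ≠ 0) _ (fun χ => Finset.mem_filter.trans
          ⟨fun h => h.2, fun h => ⟨Finset.mem_univ _, h⟩⟩) (fun χ : IrrCharacter G =>
        classInner (F y) (χ : G → ℂ) * (χ : G → ℂ) ((n z : G) * z))).symm
    simp only [hexp]
    rw [Finset.sum_eq_single z]
    · exact div_mul_cancel₀ _ (hn z)
    · intro y _ hyz
      refine mul_eq_zero_of_right _ (hFv y _ fun x hx => hdist y y.2 z z.2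
        (fun e => hyz (Subtype.ext e)) x ?_)
      have e : x * (z : G) * x⁻¹ * (y : G)⁻¹ =
          (x * (n z : G) * x⁻¹)⁻¹ * (x * ((n z : G) * z) * x⁻¹ * (y : G)⁻¹) := by group
      rw [e]
      exact N.mul_mem (N.inv_mem (hN.conj_mem _ (n z).2 x)) hx
    · exact fun hh => absurd (Finset.mem_univ z) hh
  have := LinearMap.finrank_le_finrank_of_surjective hΦ
  simpa [Module.finrank_fintype_fun_eq_card, Nat.card_eq_fintype_card] using this

/-- With a single character over `θ` the index is a square. -/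
theorem isSquare_index [Fintype N] {θ : N → ℂ} (hθ : IsIrrCharacter N θ)
    (hinv : ∀ g : G, conjNormFun N g θ = θ) (h1 : Nat.card (Over N θ) = 1) :
    IsSquare N.index := by
  classical
  obtain ⟨hsub, ⟨χ⟩⟩ := Nat.card_eq_one_iff_unique.1 h1
  obtain ⟨e, he⟩ := classInner_char_nat (isCharacter_restrict (isCharacter_of_irr χ.1.2) N)
    (isCharacter_of_irr hθ)
  refine ⟨e, Nat.cast_injective (R := ℂ) ?_⟩
  have hc : ∀ φ : IrrCharacter G, classInner (indFun N θ) (φ : G → ℂ) =
      if φ = χ.1 then (e : ℂ) else 0 := by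
    intro φ
    rw [frobenius_reciprocity N _ (isClassFunction_irr φ.2), ← classInner_comm]
    split_ifs with h
    · rw [h, he, Complex.conj_natCast]
    · rw [map_eq_zero]
      by_contra hne
      exact h (congrArg Subtype.val (hsub.elim ⟨φ, hne⟩ χ))
  rw [← classInner_indFun_self_of_invariant N hθ hinv]
  conv_lhs => arg 1; rw [eq_sum_irr (indFun_isClassFunction N θ)]
  rw [classInner_sum_left, Finset.sum_eq_single χ.1]
  · rw [classInner_smul_left, hc, if_pos rfl, ← classInner_comm, hc, if_pos rfl,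
      Complex.conj_natCast, Nat.cast_mul]
  · intro φ _ hne
    rw [classInner_smul_left, hc, if_neg hne, zero_mul]
  · exact fun hh => absurd (Finset.mem_univ _) hh

end CfsgLib.Blocks.KThree
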