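import Cfsg.Agent.Lib.Blocks.KThree.Small81

/-!
# The configuration in characteristic two
-/

namespace CfsgLib.Blocks.KThree

open Module

set_option linter.unusedVariables false
set_option linter.style.haveILetI false
set_option linter.unusedSectionVars false

universe u v

variable {W : Type v} [AddCommGroup W] [Finite W] [Module (ZMod 2) W]
  {E : Type u} [Group E] [Finite E] {ρ : Representation (ZMod 2) E W} {l : W → ℕ}

/-- In a group of odd order no nontrivial element is conjugate to its inverse. -/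
theorem conj_ne_inv (hodd : ¬ 2 ∣ Nat.card E) {y : E} (hy : y ≠ 1) (x : E) : x * y⁻¹ * x⁻¹ ≠ y := by
  intro h
  have hinv : x * y * x⁻¹ = y⁻¹ := by
    calc x * y * x⁻¹ = (x * y⁻¹ * x⁻¹)⁻¹ := by group
      _ = y⁻¹ := by rw [h]
  have h2 : Commute (x ^ 2) y := by
    have : x * x * y * (x * x)⁻¹ = y := by
      calc x * x * y * (x * x)⁻¹ = x * (x * y * x⁻¹) * x⁻¹ := by group
        _ = y := by rw [hinv, h]
    rw [pow_two]
    exact (mul_inv_eq_iff_eq_mul.1 this)
  have hox : Nat.Coprime 2 (orderOf x) := (Nat.prime_two.coprime_iff_not_dvd).2 fun hd =>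
    hodd (hd.trans (orderOf_dvd_natCard x))
  obtain ⟨m, hm⟩ := exists_pow_eq_self_of_coprime hox
  have hc : Commute x y := hm ▸ h2.pow_left m
  rw [hc.eq, mul_inv_cancel_right] at hinv
  have h1 : y ^ 2 = 1 := by
    rw [pow_two]
    nth_rewrite 1 [hinv]
    exact inv_mul_cancel y
  exact hy (orderOf_eq_one_iff.1 (Nat.eq_one_of_dvd_coprimes
    ((Nat.prime_two.coprime_iff_not_dvd).2 fun hd => hodd hd) (orderOf_dvd_of_pow_eq_one h1)
    (orderOf_dvd_natCard y)))

theorem good_inv {H : Subgroup E} {y : E} (hy : GoodAt H y) : GoodAt H y⁻¹ := by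
  obtain ⟨h1, L, h2, h3, h4, h5⟩ := hy
  refine ⟨H.inv_mem h1, L, h2, h3, L.inv_mem h4, ?_⟩
  rw [orderOf_inv]
  have : Subgroup.centralizer ({y⁻¹} : Set E) = Subgroup.centralizer ({y} : Set E) := by
    ext g
    rw [Subgroup.mem_centralizer_singleton_iff, Subgroup.mem_centralizer_singleton_iff]
    exact ⟨fun h => by simpa using (Commute.inv_right (h : Commute g y⁻¹)).eq,
      fun h => (Commute.inv_right (h : Commute g y)).eq⟩
  rwa [this]

theorem Small.three_le_of_good_odd (h : Small ρ l) {w : W} {y : E} (hy : GoodAt (stab ρ w) y)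
    (hy1 : y ≠ 1) : 3 ≤ l w :=
  h.three_le_of_good hy (good_inv hy) hy1 (fun e => hy1 (inv_eq_one.1 e))
    (fun e => conj_ne_inv h.coprime hy1 1 (by simpa using e.symm))
    fun x _ => conj_ne_inv h.coprime hy1 x

theorem exists_ppd_even {n : ℕ} (hn : 2 ≤ n) : (∃ r, PPD r 2 n) ∨ n = 6 := by
  by_cases h : n = 2 ∨ n = 4 ∨ n = 6 ∨ n = 10 ∨ n = 12 ∨ n = 18
  · rcases h with rfl | rfl | rfl | rfl | rfl | rfl
    · exact Or.inl ⟨3, by norm_num, by norm_num, fun i a b => by interval_cases i <;> norm_num⟩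
    · exact Or.inl ⟨5, by norm_num, by norm_num, fun i a b => by interval_cases i <;> norm_num⟩
    · exact Or.inr rfl
    · exact Or.inl ⟨11, by norm_num, by norm_num, fun i a b => by interval_cases i <;> norm_num⟩
    · exact Or.inl ⟨13, by norm_num, by norm_num, fun i a b => by interval_cases i <;> norm_num⟩
    · exact Or.inl ⟨19, by norm_num, by norm_num, fun i a b => by interval_cases i <;> norm_num⟩
  · push Not at h
    obtain ⟨r, hr, hd, hmin, -⟩ := CfsgLib.PrimitivePart.large_primitive_prime 2 n le_rfl hn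
      (fun h1 => h.1 h1.1) (fun h2 => by obtain ⟨-, rfl | rfl | rfl | rfl | rfl⟩ := h2 <;> simp_all)
      (fun h3 => absurd h3.1 (by norm_num)) (fun h4 => absurd h4.1 (by norm_num))
    exact Or.inl ⟨r, hr, hd, hmin⟩

/-- No configuration in characteristic two. -/
theorem Small.false_of_even (h : Small ρ l) (hn : 2 ≤ finrank (ZMod 2) W) : False := by
  classical
  haveI : Nontrivial W := Module.nontrivial_of_finrank_pos (R := ZMod 2) (by omega)
  obtain ⟨v₁, hv1⟩ := exists_ne (0 : W)
  have hcardW : Nat.card W = 2 ^ finrank (ZMod 2) W := by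
    rw [Module.natCard_eq_pow_finrank (K := ZMod 2), Nat.card_zmod]
  have htr : ∀ w : W, w ≠ 0 → w ∈ orb ρ v₁ := by
    intro v₂ hv2
    by_contra hne
    have hall : ∀ w : W, w ≠ 0 → w ∈ orb ρ v₁ ∨ w ∈ orb ρ v₂ := by
      intro w hw
      by_contra hcon
      push Not at hcon
      have h4 := h.three {0, v₁, v₂, w} (fun a ha b hb hab g e => by
        simp only [Finset.mem_insert, Finset.mem_singleton] at ha hb
        have hz : ∀ v : W, v ≠ 0 → ρ g v ≠ 0 := fun v hv => ne_zero_of_mem_orb (ρ := ρ) hv ⟨g, rfl⟩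
        rcases ha with rfl | rfl | rfl | rfl <;> rcases hb with rfl | rfl | rfl | rfl <;>
          first
          | exact hab rfl
          | exact hz _ hv1 e
          | exact hz _ hv2 e
          | exact hz _ hw e
          | exact hv1 (by rw [← e, map_zero])
          | exact hv2 (by rw [← e, map_zero])
          | exact hw (by rw [← e, map_zero])
          | exact hne ⟨g, e⟩
          | exact hcon.1 ⟨g, e⟩
          | exact hcon.2 ⟨g, e⟩
          | exact not_mem_orb_comm hne ⟨g, e⟩
          | exact not_mem_orb_comm hcon.1 ⟨g, e⟩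
          | exact not_mem_orb_comm hcon.2 ⟨g, e⟩)
      rw [Finset.sum_insert (by simp [Ne.symm hv1, Ne.symm hv2, Ne.symm hw]),
        Finset.sum_insert (by simp only [Finset.mem_insert, Finset.mem_singleton, not_or]
                              exact ⟨fun e' => hne (e' ▸ mem_orb_self ρ v₁), fun e' => hcon.1 (e' ▸ mem_orb_self ρ v₁)⟩),
        Finset.sum_pair (fun e' : v₂ = w => hcon.2 (e' ▸ mem_orb_self ρ v₂))] at h4
      have := h.pos 0
      have := h.pos v₁
      have := h.pos v₂
      have := h.pos w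
      omega
    have hsum := card_orb_add hv1 hv2 hne hall
    rw [hcardW] at hsum
    have hodd : ∀ v : W, ¬ 2 ∣ Nat.card (orb ρ v) := fun v hd =>
      h.coprime (hd.trans ⟨_, (card_orb_mul ρ v).symm⟩)
    have h1 := hodd v₁
    have h2 := hodd v₂
    have h3 : 2 ∣ 2 ^ finrank (ZMod 2) W := dvd_pow_self 2 (by omega)
    omega
  have hsum := h.sum_le_transitive hv1
  have hlv := h.pos v₁
  have hl0 := h.pos 0
  have hno : ∀ (w : W) (y : E), l w ≤ 2 → GoodAt (stab ρ w) y → y = 1 := fun w y hw hy => by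
    by_contra h1
    have := h.three_le_of_good_odd hy h1
    omega
  have hE := card_orb_mul ρ v₁
  have horb := card_orb_transitive hv1 htr
  rcases exists_ppd_even hn with ⟨r, hr⟩ | h6
  · haveI := Fact.mk hr.prime
    obtain ⟨x, hx⟩ := exists_prime_orderOf_dvd_card' (G := E) r
      (hr.dvd.trans (horb ▸ ⟨_, hE.symm⟩))
    have := hno 0 x (by omega) (good_of_irred h.faithful (mem_stab_zero x) (irred_of_ppd ρ h.faithful hr hx))
    rw [this, orderOf_one] at hx
    exact hr.prime.ne_one hx.symm
  · haveI : Fact (Nat.Prime 7) := ⟨by norm_num⟩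
    have hdvd := card_dvd_GL ρ h.faithful
    have horb7 : 7 ∣ Nat.card (orb ρ v₁) := by rw [horb, h6]; norm_num
    have h49 : ¬ 7 ^ 3 ∣ Nat.card E := fun hd => by
      have h1 := hd.trans hdvd
      rw [h6, Matrix.card_GL_field] at h1
      simp [Fin.prod_univ_six, ZMod.card] at h1
    have hnot : ¬ 7 ∣ Nat.card (stab ρ v₁) := by
      intro hd
      obtain ⟨P⟩ : Nonempty (Sylow 7 (stab ρ v₁)) := inferInstance
      obtain ⟨k, hk⟩ := P.2.exists_card_eq
      have hk1 : k ≤ 1 := by
        by_contra hlt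
        apply h49
        rw [← hE, show (7 : ℕ) ^ 3 = 7 * 7 ^ 2 by norm_num]
        exact mul_dvd_mul horb7 ((pow_dvd_pow 7 (by omega : 2 ≤ k)).trans
          (hk ▸ Subgroup.card_subgroup_dvd_card _))
      have hcyc : IsCyclic P := by
        rcases Nat.le_one_iff_eq_zero_or_eq_one.1 hk1 with rfl | rfl
        · haveI : Subsingleton P := (Nat.card_eq_one_iff_unique.1 (by rw [hk, pow_zero])).1
          exact isCyclic_of_subsingleton
        · exact isCyclic_of_prime_card (p := 7) (by rw [hk, pow_one])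
      obtain ⟨u, hu, hu1, -⟩ := exists_good_of_sylow hd P hcyc
      exact hu1 (hno v₁ u (by omega) hu)
    have hd0 : 7 ∣ Nat.card (stab ρ (0 : W)) := by
      rw [stab_zero, Subgroup.card_top, ← hE]
      exact horb7.mul_right _
    obtain ⟨P⟩ : Nonempty (Sylow 7 (stab ρ (0 : W))) := inferInstance
    obtain ⟨k, hk⟩ := P.2.exists_card_eq
    have hk1 : k ≤ 1 := by
      by_contra hlt
      have h1 : 7 ^ 2 ∣ Nat.card (stab ρ (0 : W)) :=
        (pow_dvd_pow 7 (by omega : 2 ≤ k)).trans (hk ▸ Subgroup.card_subgroup_dvd_card _)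
      rw [stab_zero, Subgroup.card_top, ← hE, horb, h6] at h1
      have h2 := ((Nat.Prime.coprime_iff_not_dvd (by norm_num : Nat.Prime 7)).2 hnot).pow_left 2
      have h3 := h2.dvd_of_dvd_mul_right h1
      norm_num at h3
    have hcyc : IsCyclic P := by
      rcases Nat.le_one_iff_eq_zero_or_eq_one.1 hk1 with rfl | rfl
      · haveI : Subsingleton P := (Nat.card_eq_one_iff_unique.1 (by rw [hk, pow_zero])).1
        exact isCyclic_of_subsingleton
      · exact isCyclic_of_prime_card (p := 7) (by rw [hk, pow_one])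
    obtain ⟨u, hu, hu1, -⟩ := exists_good_of_sylow hd0 P hcyc
    exact hu1 (hno 0 u (by omega) hu)

/-- No configuration at all. -/
theorem Small.false_all {p : ℕ} [hp : Fact p.Prime] {W : Type v} [AddCommGroup W] [Finite W]
    [Module (ZMod p) W] {E : Type u} [Group E] [Finite E] {ρ : Representation (ZMod p) E W}
    {l : W → ℕ} (h : Small ρ l) (hn : 2 ≤ finrank (ZMod p) W) : False := by
  rcases eq_or_ne p 2 with rfl | hp2
  · exact h.false_of_even hn
  · exact h.false_of_small hp2 hn

end CfsgLib.Blocks.KThree
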