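import Cfsg.Agent.Lib.Blocks.KThree.Setup
import Cfsg.Agent.Lib.CharTheory.Integral

/-!
# Character sums for a group with two orbits on the nonzero vectors
-/

namespace CfsgLib.Blocks.KThree

open Module
open scoped ComplexConjugate

set_option linter.unusedVariables false
set_option linter.style.haveILetI false
set_option linter.unusedSectionVars false

universe u v

variable {p : ℕ} [hp : Fact p.Prime] {W : Type v} [AddCommGroup W] [Finite W] [Module (ZMod p) W]
  {E : Type u} [Group E] [Finite E] {ρ : Representation (ZMod p) E W}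

/-- The action on the linear characters of `W`. -/
@[reducible] noncomputable def dualAction (ρ : Representation (ZMod p) E W) :
    MulAction E (AddChar W ℂ) where
  smul g ψ := ψ.compAddMonoidHom (ρ g⁻¹).toAddMonoidHom
  one_smul ψ := DFunLike.ext _ _ fun w => by
    show ψ (ρ (1 : E)⁻¹ w) = ψ w
    simp
  mul_smul g h ψ := DFunLike.ext _ _ fun w => by
    show ψ (ρ (g * h)⁻¹ w) = ψ (ρ h⁻¹ (ρ g⁻¹ w))
    simp [mul_inv_rev]

/-- The action on `W`. -/
@[reducible] noncomputable def vecAction (ρ : Representation (ZMod p) E W) : MulAction E W where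
  smul g w := ρ g w
  one_smul w := by
    show ρ (1 : E) w = w
    simp
  mul_smul g h w := by
    show ρ (g * h) w = ρ g (ρ h w)
    simp

theorem card_fixed_dual (g : E) :
    Nat.card {ψ : AddChar W ℂ // ψ.compAddMonoidHom (ρ g⁻¹).toAddMonoidHom = ψ} =
      Nat.card {w : W // ρ g w = w} := by
  classical
  set f : W →+ W := (ρ g⁻¹ - 1 : Module.End (ZMod p) W).toAddMonoidHom with hf
  set R := f.range
  haveI := Fintype.ofFinite (W ⧸ R)
  have e1 : {ψ : AddChar W ℂ // ψ.compAddMonoidHom (ρ g⁻¹).toAddMonoidHom = ψ} ≃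
      AddChar (W ⧸ R) ℂ := by
    have hmem : ∀ φ : AddChar (W ⧸ R) ℂ,
        (φ.compAddMonoidHom (QuotientAddGroup.mk' R)).compAddMonoidHom (ρ g⁻¹).toAddMonoidHom =
          φ.compAddMonoidHom (QuotientAddGroup.mk' R) := by
      intro φ
      refine DFunLike.ext _ _ fun w => ?_
      show φ (QuotientAddGroup.mk (ρ g⁻¹ w)) = φ (QuotientAddGroup.mk w)
      congr 1
      rw [QuotientAddGroup.eq]
      refine ⟨-w, ?_⟩
      simp [hf, sub_eq_add_neg, add_comm]
    refine (Equiv.ofBijective (fun φ : AddChar (W ⧸ R) ℂ =>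
      (⟨φ.compAddMonoidHom (QuotientAddGroup.mk' R), hmem φ⟩ :
        {ψ : AddChar W ℂ // ψ.compAddMonoidHom (ρ g⁻¹).toAddMonoidHom = ψ})) ⟨?_, ?_⟩).symm
    · intro a b e
      exact AddChar.compAddMonoidHom_injective_left _ (QuotientAddGroup.mk'_surjective R)
        (congrArg Subtype.val e)
    · rintro ⟨ψ, hψ⟩
      have hk : R ≤ (ψ.toAddMonoidHom).ker := by
        rintro _ ⟨w, rfl⟩
        rw [AddMonoidHom.mem_ker]
        apply Additive.toMul.injective
        show ψ (ρ g⁻¹ w - w) = 1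
        rw [AddChar.map_sub_eq_div, show ψ (ρ g⁻¹ w) = ψ w from DFunLike.congr_fun hψ w, div_self
          (ψ.val_isUnit w).ne_zero]
      exact ⟨AddChar.toAddMonoidHomEquiv.symm (QuotientAddGroup.lift R ψ.toAddMonoidHom hk),
        Subtype.ext (DFunLike.ext _ _ fun w => rfl)⟩
  rw [Nat.card_congr e1, Nat.card_eq_fintype_card, AddChar.card_eq, ← Nat.card_eq_fintype_card]
  have e2 : {w : W // ρ g w = w} ≃ f.ker := Equiv.subtypeEquivRight fun w => by
    rw [AddMonoidHom.mem_ker]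
    show ρ g w = w ↔ ρ g⁻¹ w - w = 0
    rw [sub_eq_zero]
    constructor
    · intro h
      conv_lhs => rw [← h]
      rw [← Module.End.mul_apply, ← map_mul, inv_mul_cancel, map_one, Module.End.one_apply]
    · intro h
      conv_lhs => rw [← h]
      rw [← Module.End.mul_apply, ← map_mul, mul_inv_cancel, map_one, Module.End.one_apply]
  rw [Nat.card_congr e2]
  have h1 := f.ker.card_mul_index
  rw [AddSubgroup.index_ker] at h1
  have h2 := R.card_mul_index
  rw [AddSubgroup.index] at h2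
  have h3 : Nat.card R ≠ 0 := Nat.card_pos.ne'
  exact Nat.eq_of_mul_eq_mul_left (Nat.pos_of_ne_zero h3) (h2.trans (h1.symm.trans (mul_comm _ _)))

theorem card_orbits_dual :
    Nat.card (@MulAction.orbitRel.Quotient E (AddChar W ℂ) _ (dualAction ρ)) =
      Nat.card (@MulAction.orbitRel.Quotient E W _ (vecAction ρ)) := by
  classical
  letI := dualAction ρ
  letI := vecAction ρ
  haveI := Fintype.ofFinite E
  haveI := Fintype.ofFinite W
  haveI := Fintype.ofFinite (AddChar W ℂ)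
  have h1 := MulAction.sum_card_fixedBy_eq_card_orbits_mul_card_group E (AddChar W ℂ)
  have h2 := MulAction.sum_card_fixedBy_eq_card_orbits_mul_card_group E W
  have h3 : ∀ g : E, Fintype.card (MulAction.fixedBy (AddChar W ℂ) g) =
      Fintype.card (MulAction.fixedBy W g) := fun g => by
    rw [← Nat.card_eq_fintype_card, ← Nat.card_eq_fintype_card]
    refine Eq.trans ?_ ((card_fixed_dual (ρ := ρ) g).trans ?_)
    · exact Nat.card_congr (Equiv.subtypeEquivRight fun ψ => Iff.rfl)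
    · exact Nat.card_congr (Equiv.subtypeEquivRight fun w => Iff.rfl)
  rw [Finset.sum_congr rfl fun g _ => h3 g, h2] at h1
  rw [Nat.card_eq_fintype_card, Nat.card_eq_fintype_card]
  exact (Nat.eq_of_mul_eq_mul_right Fintype.card_pos h1).symm

theorem card_orbits_vec {v₁ v₂ : W} (hv1 : v₁ ≠ 0) (hv2 : v₂ ≠ 0) (hne : v₂ ∉ orb ρ v₁)
    (hall : ∀ w : W, w ≠ 0 → w ∈ orb ρ v₁ ∨ w ∈ orb ρ v₂) :
    Nat.card (@MulAction.orbitRel.Quotient E W _ (vecAction ρ)) = 3 := by
  classical
  letI := vecAction ρ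
  have hmk : ∀ a b : W, (Quotient.mk'' a : MulAction.orbitRel.Quotient E W) = Quotient.mk'' b ↔
      a ∈ orb ρ b := fun a b => by
    rw [Quotient.eq'']
    exact Iff.rfl
  have h0 : ∀ b : W, b ≠ 0 → (0 : W) ∉ orb ρ b := by
    rintro b hb ⟨g, hg⟩
    apply hb
    have h1 : ρ g⁻¹ (ρ g b) = 0 := by rw [show ρ g b = 0 from hg, map_zero]
    rwa [← Module.End.mul_apply, ← map_mul, inv_mul_cancel, map_one, Module.End.one_apply] at h1
  let r : Fin 3 → W := ![0, v₁, v₂]
  have hb : Function.Bijective fun i : Fin 3 => (Quotient.mk'' (r i) : MulAction.orbitRel.Quotient E W) := by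
    constructor
    · intro i j e
      rw [hmk] at e
      fin_cases i <;> fin_cases j <;> simp [r] at e ⊢
      · exact h0 v₁ hv1 e
      · exact h0 v₂ hv2 e
      · obtain ⟨g, hg⟩ := e
        exact hv1 (hg.symm.trans (map_zero _))
      · exact hne (orb_eq_of_mem ρ e ▸ mem_orb_self ρ v₂)
      · obtain ⟨g, hg⟩ := e
        exact hv2 (hg.symm.trans (map_zero _))
      · exact hne e
    · intro q
      induction q using Quotient.inductionOn' with
      | h w =>
        by_cases hw : w = 0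
        · exact ⟨0, by simp [r, hw]⟩
        · rcases hall w hw with h | h
          · exact ⟨1, ((hmk _ _).2 h).symm⟩
          · exact ⟨2, ((hmk _ _).2 h).symm⟩
  rw [← Nat.card_eq_of_bijective _ hb, Nat.card_fin]

/-- The character sum over a set of vectors. -/
noncomputable def charSum (O : Set W) (ψ : AddChar W ℂ) : ℂ :=
  ∑ w ∈ O.toFinite.toFinset, ψ w

theorem charSum_int {O : Set W} (hO : ∀ c : ZMod p, c ≠ 0 → ∀ w ∈ O, c • w ∈ O) (hO0 : (0 : W) ∉ O)
    (ψ : AddChar W ℂ) : ∃ n : ℤ, charSum O ψ = n := by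
  classical
  set S := O.toFinite.toFinset with hS
  have hSmem : ∀ w, w ∈ S ↔ w ∈ O := fun w => O.toFinite.mem_toFinset
  have hinv : ∀ c : ZMod p, c ≠ 0 → ∑ w ∈ S, ψ (c • w) = ∑ w ∈ S, ψ w := fun c hc =>
    Finset.sum_nbij' (fun w => c • w) (fun w => c⁻¹ • w)
      (fun w hw => (hSmem _).2 (hO c hc w ((hSmem w).1 hw)))
      (fun w hw => (hSmem _).2 (hO c⁻¹ (inv_ne_zero hc) w ((hSmem w).1 hw)))
      (fun w _ => by rw [smul_smul, inv_mul_cancel₀ hc, one_smul])
      (fun w _ => by rw [smul_smul, mul_inv_cancel₀ hc, one_smul]) (fun _ _ => rfl)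
  have hline : ∀ w : W, ∑ c : ZMod p, ψ (c • w) = if ψ w = 1 then (p : ℂ) else 0 := by
    intro w
    let φ : AddChar (ZMod p) ℂ := ψ.compAddMonoidHom (LinearMap.toSpanSingleton (ZMod p) W w).toAddMonoidHom
    have h1 := AddChar.sum_eq_ite φ
    have hiff : φ = 0 ↔ ψ w = 1 := by
      constructor
      · intro h
        have h2 := DFunLike.congr_fun h 1
        simpa [φ] using h2
      · intro h
        refine DFunLike.ext _ _ fun c => ?_
        show ψ (c • w) = 1
        rw [← ZMod.natCast_zmod_val c, Nat.cast_smul_eq_nsmul, AddChar.map_nsmul_eq_pow, h, one_pow]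
    rw [ZMod.card] at h1
    simp only [hiff] at h1
    exact h1
  have hsum : ((p : ℂ) - 1) * ∑ w ∈ S, ψ w =
      (p : ℂ) * ((S.filter fun w => ψ w = 1).card : ℂ) - (S.card : ℂ) := by
    calc ((p : ℂ) - 1) * ∑ w ∈ S, ψ w
        = ∑ c ∈ (Finset.univ.erase (0 : ZMod p)), ∑ w ∈ S, ψ (c • w) := by
          rw [Finset.sum_congr rfl fun c hc => hinv c (Finset.ne_of_mem_erase hc), Finset.sum_const,
            Finset.card_erase_of_mem (Finset.mem_univ _), Finset.card_univ, ZMod.card, nsmul_eq_mul,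
            Nat.cast_sub hp.1.one_le, Nat.cast_one]
      _ = ∑ w ∈ S, ((∑ c : ZMod p, ψ (c • w)) - 1) := by
          rw [Finset.sum_comm]
          refine Finset.sum_congr rfl fun w _ => ?_
          rw [← Finset.sum_erase_add _ _ (Finset.mem_univ (0 : ZMod p)), zero_smul,
            AddChar.map_zero_eq_one, add_sub_cancel_right]
      _ = _ := by
          simp only [hline, Finset.sum_sub_distrib, Finset.sum_const, nsmul_eq_mul, mul_one]
          rw [← Finset.sum_filter, Finset.sum_const, nsmul_eq_mul, mul_comm]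
  have hint : IsIntegral ℤ (charSum O ψ) := by
    refine IsIntegral.sum _ fun w _ => IsIntegral.of_pow hp.1.pos ?_
    rw [← AddChar.map_nsmul_eq_pow, ← Nat.cast_smul_eq_nsmul (ZMod p), ZMod.natCast_self, zero_smul,
      AddChar.map_zero_eq_one]
    exact isIntegral_one
  have hq : charSum O ψ =
      (((p : ℚ) * (S.filter fun w => ψ w = 1).card - S.card) / ((p : ℚ) - 1) : ℚ) := by
    have hp1 : ((p : ℂ) - 1) ≠ 0 := by
      rw [sub_ne_zero, Ne, ← Nat.cast_one, Nat.cast_inj]
      exact hp.1.one_lt.ne'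
    push_cast
    rw [eq_div_iff hp1, mul_comm]
    exact hsum
  rw [hq] at hint ⊢
  obtain ⟨n, hn⟩ := CfsgLib.CharTheory.exists_int_of_isIntegral_ratCast hint
  exact ⟨n, by rw [hn]; norm_num⟩

/-- The arithmetic of two orbits closed under scalars. -/
theorem two_orbit_sums (hE : ¬ p ∣ Nat.card E) {v₁ v₂ : W} (hv1 : v₁ ≠ 0) (hv2 : v₂ ≠ 0)
    (hne : v₂ ∉ orb ρ v₁) (hall : ∀ w : W, w ≠ 0 → w ∈ orb ρ v₁ ∨ w ∈ orb ρ v₂)
    (hcl : ∀ c : ZMod p, c ≠ 0 → ∀ w ∈ orb ρ v₁, c • w ∈ orb ρ v₁) :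
    ∃ (a b : ℕ) (e g : ℤ), ¬ p ∣ a ∧ ¬ p ∣ b ∧ a + b + 1 = Nat.card W ∧
      (Nat.card (orb ρ v₁) : ℤ) + a * e + b * g = 0 ∧
      (Nat.card (orb ρ v₁) : ℤ) ^ 2 + a * e ^ 2 + b * g ^ 2 =
        (Nat.card W : ℤ) * Nat.card (orb ρ v₁) ∧
      ∃ z : ℤ, (e - g) * z = Nat.card W := by
  classical
  letI := dualAction ρ
  haveI := Fintype.ofFinite W
  set O := orb ρ v₁ with hO
  set S := O.toFinite.toFinset with hS
  have hSmem : ∀ w, w ∈ S ↔ w ∈ O := fun w => O.toFinite.mem_toFinset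
  have hScard : S.card = Nat.card O := (Nat.card_eq_card_finite_toFinset O.toFinite).symm
  have hO0 : (0 : W) ∉ O := by
    rintro ⟨g, hg⟩
    apply hv1
    have h1 : ρ g⁻¹ (ρ g v₁) = 0 := by rw [show ρ g v₁ = 0 from hg, map_zero]
    rwa [← Module.End.mul_apply, ← map_mul, inv_mul_cancel, map_one, Module.End.one_apply] at h1
  choose f hf using charSum_int (O := O) hcl hO0
  have hfinv : ∀ (g : E) ψ, f (g • ψ) = f ψ := fun g ψ => by
    refine Int.cast_injective (α := ℂ) ?_
    rw [← hf, ← hf]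
    refine Finset.sum_nbij' (fun w => ρ g⁻¹ w) (fun w => ρ g w)
      (fun w hw => ?_) (fun w hw => ?_) (fun w _ => ?_) (fun w _ => ?_) (fun w _ => rfl)
    · obtain ⟨k, hk⟩ := (hSmem w).1 hw
      exact (hSmem _).2 ⟨g⁻¹ * k, by simp [← hk]⟩
    · obtain ⟨k, hk⟩ := (hSmem w).1 hw
      exact (hSmem _).2 ⟨g * k, by simp [← hk]⟩
    · rw [← Module.End.mul_apply, ← map_mul, mul_inv_cancel, map_one, Module.End.one_apply]
    · rw [← Module.End.mul_apply, ← map_mul, inv_mul_cancel, map_one, Module.End.one_apply]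
  -- the orbits on the characters
  have h3 : Nat.card (MulAction.orbitRel.Quotient E (AddChar W ℂ)) = 3 :=
    (card_orbits_dual (ρ := ρ)).trans (card_orbits_vec hv1 hv2 hne hall)
  let π : AddChar W ℂ → MulAction.orbitRel.Quotient E (AddChar W ℂ) := Quotient.mk''
  haveI := Fintype.ofFinite (MulAction.orbitRel.Quotient E (AddChar W ℂ))
  rw [Nat.card_eq_fintype_card] at h3
  have hπ0 : ∀ ψ, π ψ = π 0 → ψ = 0 := fun ψ h => by
    obtain ⟨g, hg⟩ := (Quotient.eq''.1 h : ψ ∈ MulAction.orbit E (0 : AddChar W ℂ))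
    rw [← hg]
    exact DFunLike.ext _ _ fun w => rfl
  obtain ⟨α, β, hαβ, hrest⟩ := Finset.card_eq_two.1
    (show (Finset.univ.erase (π 0)).card = 2 by
      rw [Finset.card_erase_of_mem (Finset.mem_univ _), Finset.card_univ, h3])
  obtain ⟨ψα, rfl⟩ : ∃ ψ, π ψ = α := Quotient.inductionOn' α fun ψ => ⟨ψ, rfl⟩
  obtain ⟨ψβ, rfl⟩ : ∃ ψ, π ψ = β := Quotient.inductionOn' β fun ψ => ⟨ψ, rfl⟩
  have hrest' : π ψα ≠ π 0 ∧ π ψβ ≠ π 0 := by
    constructor
    · exact Finset.ne_of_mem_erase (hrest ▸ by simp : π ψα ∈ Finset.univ.erase (π 0))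
    · exact Finset.ne_of_mem_erase (hrest ▸ by simp : π ψβ ∈ Finset.univ.erase (π 0))
  set A := Finset.univ.filter fun ψ => π ψ = π ψα with hA
  set B := Finset.univ.filter fun ψ => π ψ = π ψβ with hB
  have hsplit : ∀ F : AddChar W ℂ → ℂ, ∑ ψ, F ψ = F 0 + ∑ ψ ∈ A, F ψ + ∑ ψ ∈ B, F ψ := by
    intro F
    rw [← Finset.sum_fiberwise Finset.univ π, ← Finset.add_sum_erase _ _ (Finset.mem_univ (π 0)),
      hrest, Finset.sum_pair hαβ, ← add_assoc]
    congr 2
    rw [Finset.sum_eq_single_of_mem 0 (by simp) fun ψ hψ hne0 =>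
      absurd (hπ0 ψ (Finset.mem_filter.1 hψ).2) hne0]
  have hfc : ∀ ψ₀ ψ, π ψ = π ψ₀ → f ψ = f ψ₀ := fun ψ₀ ψ h => by
    obtain ⟨g, hg⟩ := (Quotient.eq''.1 h : ψ ∈ MulAction.orbit E ψ₀)
    rw [← hg]
    exact hfinv g ψ₀
  have hf0 : f 0 = (S.card : ℤ) := Int.cast_injective (α := ℂ) (by
    rw [← hf, charSum]
    simp [hS])
  have hconst : ∀ (F : AddChar W ℂ → ℂ) (c : ℤ → ℂ), (∀ ψ, F ψ = c (f ψ)) →
      ∑ ψ, F ψ = c S.card + A.card * c (f ψα) + B.card * c (f ψβ) := by
    intro F c hF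
    rw [hsplit, hF 0, hf0, Finset.sum_congr rfl fun ψ hψ => (hF ψ).trans
      (congrArg c (hfc ψα ψ (Finset.mem_filter.1 hψ).2)), Finset.sum_congr rfl fun ψ hψ => (hF ψ).trans
      (congrArg c (hfc ψβ ψ (Finset.mem_filter.1 hψ).2)), Finset.sum_const, Finset.sum_const,
      nsmul_eq_mul, nsmul_eq_mul]
  have hdvd : ∀ ψ₀, (Finset.univ.filter fun ψ => π ψ = π ψ₀).card ∣ Nat.card E := fun ψ₀ => by
    haveI := Fintype.ofFinite E
    have h := MulAction.card_orbit_mul_card_stabilizer_eq_card_group E ψ₀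
    rw [← Fintype.card_subtype, ← Nat.card_eq_fintype_card,
      Nat.card_congr (Equiv.subtypeEquivRight fun ψ =>
        (Quotient.eq'' : π ψ = π ψ₀ ↔ ψ ∈ MulAction.orbit E ψ₀)), Nat.card_eq_fintype_card,
      Nat.card_eq_fintype_card]
    exact ⟨_, h.symm⟩
  have hcardW : (Nat.card W : ℂ) = 1 + A.card + B.card := by
    have h1 := hsplit fun _ => 1
    simp only [Finset.sum_const, Finset.card_univ, nsmul_eq_mul, mul_one] at h1
    rw [Nat.card_eq_fintype_card, ← AddChar.card_eq]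
    exact h1
  refine ⟨A.card, B.card, f ψα, f ψβ, fun hd => hE (hd.trans (hdvd ψα)),
    fun hd => hE (hd.trans (hdvd ψβ)), ?_, ?_, ?_, ?_⟩
  · have : ((A.card + B.card + 1 : ℕ) : ℂ) = (Nat.card W : ℂ) := by rw [hcardW]; push_cast; ring
    exact_mod_cast this
  · have h1 := hconst (charSum O) (fun n => (n : ℂ)) hf
    have h2 : ∑ ψ, charSum O ψ = 0 := by
      unfold charSum
      rw [Finset.sum_comm]
      refine Finset.sum_eq_zero fun w hw => ?_
      exact (AddChar.sum_apply_eq_zero_iff_ne_zero).2 fun e => hO0 (e ▸ (hSmem w).1 hw)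
    rw [h2] at h1
    apply Int.cast_injective (α := ℂ)
    push_cast
    rw [← hScard]
    simpa using h1.symm
  · have h1 := hconst (fun ψ => charSum O ψ * conj (charSum O ψ)) (fun n => (n : ℂ) * n) (fun ψ => by
      simp [hf ψ])
    have h2 : ∑ ψ, charSum O ψ * conj (charSum O ψ) = (Nat.card W : ℂ) * S.card := by
      have h3 : ∀ ψ : AddChar W ℂ, charSum O ψ * conj (charSum O ψ) =
          ∑ w ∈ S, ∑ w' ∈ S, ψ (w - w') := fun ψ => by
        simp only [charSum, map_sum, Finset.sum_mul, Finset.mul_sum, ← hS]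
        rw [Finset.sum_comm]
        refine Finset.sum_congr rfl fun w _ => Finset.sum_congr rfl fun w' _ => ?_
        rw [sub_eq_add_neg, AddChar.map_add_eq_mul, AddChar.map_neg_eq_conj]
      simp only [h3]
      rw [Finset.sum_comm, Finset.sum_congr rfl fun w hw => Finset.sum_comm,
        Finset.sum_congr rfl fun w hw => Finset.sum_eq_single w
          (fun w' _ hne' => AddChar.sum_apply_eq_zero_iff_ne_zero.2 (sub_ne_zero.2 hne'.symm))
          (fun h => absurd hw h), Finset.sum_congr rfl fun w hw => by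
          rw [sub_self, Finset.sum_congr rfl fun (ψ : AddChar W ℂ) _ => AddChar.map_zero_eq_one ψ]]
      simp [Nat.card_eq_fintype_card, mul_comm]
    rw [h2] at h1
    apply Int.cast_injective (α := ℂ)
    push_cast
    rw [← hScard]
    simp only [Int.cast_natCast] at h1
    linear_combination -h1
  · have key : ∀ w : W, w ≠ 0 →
        ((f ψα : ℂ) - f ψβ) * ∑ ψ ∈ A, ψ (-w) =
          (if w ∈ S then (Nat.card W : ℂ) else 0) - S.card + f ψβ := by
      intro w hw
      have h1 : ∑ ψ : AddChar W ℂ, charSum O ψ * ψ (-w) = if w ∈ S then (Nat.card W : ℂ) else 0 := by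
        simp only [charSum, Finset.sum_mul, ← AddChar.map_add_eq_mul]
        rw [Finset.sum_comm]
        simp only [← sub_eq_add_neg, AddChar.sum_apply_eq_ite, sub_eq_zero, ← hS]
        rw [Finset.sum_ite_eq', Nat.card_eq_fintype_card]
      rw [hsplit, hf 0, hf0, AddChar.zero_apply, mul_one,
        Finset.sum_congr rfl fun ψ hψ => by rw [hf ψ, hfc ψα ψ (Finset.mem_filter.1 hψ).2],
        Finset.sum_congr (s₁ := B) rfl fun ψ hψ => by rw [hf ψ, hfc ψβ ψ (Finset.mem_filter.1 hψ).2],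
        ← Finset.mul_sum, ← Finset.mul_sum, Int.cast_natCast] at h1
      have h2 : ∑ ψ : AddChar W ℂ, ψ (-w) = 0 :=
        AddChar.sum_apply_eq_zero_iff_ne_zero.2 (neg_ne_zero.2 hw)
      rw [hsplit, AddChar.zero_apply] at h2
      linear_combination h1 - (f ψβ : ℂ) * h2
    have k1 := key v₁ hv1
    have k2 := key v₂ hv2
    rw [if_pos ((hSmem _).2 (mem_orb_self ρ v₁))] at k1
    rw [if_neg (fun h => hne ((hSmem _).1 h))] at k2
    set z : ℂ := ∑ ψ ∈ A, ψ (-v₁) - ∑ ψ ∈ A, ψ (-v₂) with hz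
    have hzi : IsIntegral ℤ z := by
      have h : ∀ w : W, IsIntegral ℤ (∑ ψ ∈ A, ψ w) := fun w =>
        IsIntegral.sum _ fun ψ _ => IsIntegral.of_pow hp.1.pos (by
          rw [← AddChar.map_nsmul_eq_pow, ← Nat.cast_smul_eq_nsmul (ZMod p), ZMod.natCast_self,
            zero_smul, AddChar.map_zero_eq_one]
          exact isIntegral_one)
      exact (h _).sub (h _)
    have he : ((f ψα : ℂ) - f ψβ) * z = (Nat.card W : ℂ) := by
      rw [hz]; linear_combination k1 - k2
    have hne0 : (f ψα : ℂ) - f ψβ ≠ 0 := fun h => by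
      rw [h, zero_mul] at he
      exact Nat.card_pos.ne' (Nat.cast_eq_zero.1 he.symm)
    have hzq : z = (((Nat.card W : ℚ) / ((f ψα : ℚ) - f ψβ) : ℚ) : ℂ) := by
      push_cast
      rw [eq_div_iff hne0, mul_comm]
      exact he
    rw [hzq] at hzi
    obtain ⟨n, hn⟩ := CfsgLib.CharTheory.exists_int_of_isIntegral_ratCast hzi
    refine ⟨n, Int.cast_injective (α := ℂ) ?_⟩
    rw [hzq, hn] at he
    push_cast
    simpa using he

end CfsgLib.Blocks.KThree
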