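import Mathlib

/-!
# The two Sylow subgroup of the linear group in dimension four over three elements
-/

namespace CfsgLib.Blocks.KThree.Model

set_option linter.unusedVariables false

/-- The semidihedral group of order sixteen as `c ^ i * r ^ j`. -/
structure SD where
  i : Fin 8
  j : Bool
deriving DecidableEq, Fintype

/-- Multiplication. -/
def SD.mul' (a b : SD) : SD :=
  ⟨a.i + (if a.j then 3 * b.i else b.i), xor a.j b.j⟩

/-- Inverse. -/
def SD.inv' (a : SD) : SD :=
  ⟨if a.j then -(3 * a.i) else -a.i, a.j⟩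

instance : Mul SD := ⟨SD.mul'⟩
instance : Inv SD := ⟨SD.inv'⟩
instance : One SD := ⟨⟨0, false⟩⟩

theorem SD.assoc' : ∀ a b c : SD, a * b * c = a * (b * c) := by decide +kernel

theorem SD.one_mul' : ∀ a : SD, 1 * a = a := by decide +kernel

theorem SD.inv_mul' : ∀ a : SD, a⁻¹ * a = 1 := by decide +kernel

instance : Group SD := Group.ofLeftAxioms SD.assoc' SD.one_mul' SD.inv_mul'

/-- The generator of order eight. -/
def cc : SD := ⟨1, false⟩
/-- The reflection. -/
def rr : SD := ⟨0, true⟩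

abbrev F2 : Type := ZMod 3 × ZMod 3

/-- Multiplication by a root of `x ^ 2 = x + 1`. -/
def cAct (v : F2) : F2 := (v.2, v.1 + v.2)
/-- The field automorphism. -/
def rAct (v : F2) : F2 := (v.1 + v.2, 2 * v.2)

/-- The action of the semidihedral group. -/
def SD.act (a : SD) (v : F2) : F2 := cAct^[a.i.val] (if a.j then rAct v else v)

theorem SD.act_mul : ∀ a b : SD, ∀ v : F2, (a * b).act v = a.act (b.act v) := by decide +kernel

theorem SD.act_one : ∀ v : F2, (1 : SD).act v = v := by decide +kernel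

theorem SD.act_add : ∀ a : SD, ∀ v w : F2, a.act (v + w) = a.act v + a.act w := by decide +kernel

theorem SD.act_inj : ∀ a : SD, (∀ v : F2, a.act v = v) → a = 1 := by decide +kernel

theorem SD.act_zero : ∀ a : SD, ∀ v : F2, a.act v = 0 ↔ v = 0 := by decide +kernel

theorem SD.fpf_invol : ∀ a : SD, a * a = 1 → (∀ v : F2, v ≠ 0 → a.act v ≠ v) → a = ⟨4, false⟩ := by
  decide +kernel

/-- The wreath product of two semidihedral groups. -/
structure P where
  a : SD
  b : SD
  s : Bool
deriving DecidableEq, Fintype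

/-- Multiplication. -/
def P.mul' (x y : P) : P :=
  if x.s then ⟨x.a * y.b, x.b * y.a, !y.s⟩ else ⟨x.a * y.a, x.b * y.b, y.s⟩

/-- Inverse. -/
def P.inv' (x : P) : P :=
  if x.s then ⟨x.b⁻¹, x.a⁻¹, true⟩ else ⟨x.a⁻¹, x.b⁻¹, false⟩

instance : Mul P := ⟨P.mul'⟩
instance : Inv P := ⟨P.inv'⟩
instance : One P := ⟨⟨1, 1, false⟩⟩

theorem P.mul_def (x y : P) : x * y = x.mul' y := rfl
theorem P.one_def : (1 : P) = ⟨1, 1, false⟩ := rfl
theorem P.inv_def (x : P) : x⁻¹ = x.inv' := rfl

theorem P.assoc' (x y z : P) : x * y * z = x * (y * z) := by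
  rcases x with ⟨a, b, _ | _⟩ <;> rcases y with ⟨c, d, _ | _⟩ <;> rcases z with ⟨e, f, _ | _⟩ <;>
    simp [P.mul_def, P.mul', mul_assoc]

theorem P.one_mul' (x : P) : 1 * x = x := by
  rcases x with ⟨a, b, _ | _⟩ <;> simp [P.mul_def, P.mul', P.one_def]

theorem P.inv_mul' (x : P) : x⁻¹ * x = 1 := by
  rcases x with ⟨a, b, _ | _⟩ <;> simp [P.mul_def, P.inv_def, P.inv', P.mul', P.one_def]

instance : Group P := Group.ofLeftAxioms P.assoc' P.one_mul' P.inv_mul'

theorem card_SD : Fintype.card SD = 16 := by decide +kernel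

theorem card_P : Nat.card P = 2 ^ 9 := by
  let e : P ≃ (SD × SD) × Bool :=
    ⟨fun x => ((x.a, x.b), x.s), fun t => ⟨t.1.1, t.1.2, t.2⟩, fun x => rfl, fun t => rfl⟩
  rw [Nat.card_congr e, Nat.card_eq_fintype_card, Fintype.card_prod, Fintype.card_prod, card_SD,
    Fintype.card_bool]
  norm_num

/-- The action on pairs. -/
def P.act (x : P) (v : F2 × F2) : F2 × F2 :=
  if x.s then (x.a.act v.2, x.b.act v.1) else (x.a.act v.1, x.b.act v.2)

theorem P.act_mul (x y : P) (v : F2 × F2) : (x * y).act v = x.act (y.act v) := by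
  rcases x with ⟨a, b, _ | _⟩ <;> rcases y with ⟨c, d, _ | _⟩ <;>
    simp [P.mul_def, P.mul', P.act, SD.act_mul]

theorem P.act_one (v : F2 × F2) : (1 : P).act v = v := by
  simp [P.one_def, P.act, SD.act_one]

theorem P.act_add (x : P) (v w : F2 × F2) : x.act (v + w) = x.act v + x.act w := by
  rcases x with ⟨a, b, _ | _⟩ <;> simp [P.act, SD.act_add]

theorem P.act_inj (x : P) (h : ∀ v, x.act v = v) : x = 1 := by
  rcases x with ⟨a, b, _ | _⟩
  · rw [P.one_def, P.mk.injEq]
    refine ⟨SD.act_inj a fun v => ?_, SD.act_inj b fun v => ?_, rfl⟩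
    · exact congrArg Prod.fst (h (v, 0))
    · exact congrArg Prod.snd (h (0, v))
  · have h1 : a.act (0 : F2) = ((1, 0) : F2) := congrArg Prod.fst (h ((1, 0), 0))
    rw [(SD.act_zero a 0).2 rfl] at h1
    exact absurd (congrArg Prod.fst h1) (by decide)

/-- The linear map of an element. -/
def P.lin (x : P) : Module.End (ZMod 3) (F2 × F2) :=
  AddMonoidHom.toZModLinearMap 3 (AddMonoidHom.mk' x.act x.act_add)

/-- The representation. -/
def repr : P →* Module.End (ZMod 3) (F2 × F2) where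
  toFun := P.lin
  map_one' := LinearMap.ext P.act_one
  map_mul' x y := LinearMap.ext (P.act_mul x y)

theorem repr_apply (x : P) (v : F2 × F2) : repr x v = x.act v := rfl

theorem repr_injective : Function.Injective repr := fun x y h => by
  have h1 : x⁻¹ * y = 1 := P.act_inj _ fun v => by
    rw [P.act_mul, ← repr_apply y, ← h, repr_apply, ← P.act_mul, inv_mul_cancel, P.act_one]
  exact inv_mul_eq_one.1 h1

/-- The axis vector. -/
def w₀ : F2 × F2 := ((1, 0), 0)
/-- A generic vector. -/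
def g₀ : F2 × F2 := ((1, 0), (1, 0))

/-- Lies on one of the two axes. -/
def OnAxis (v : F2 × F2) : Prop := v.1 = 0 ∨ v.2 = 0

theorem P.onAxis_iff (x : P) (v : F2 × F2) : OnAxis (x.act v) ↔ OnAxis v := by
  rcases x with ⟨a, b, _ | _⟩ <;> simp [OnAxis, P.act, SD.act_zero]
  exact Or.comm

/-- The swap. -/
def sigma : P := ⟨1, 1, true⟩
/-- The element of order eight on the first axis. -/
def A1 : P := ⟨cc, 1, false⟩
/-- The element of order eight on the second axis. -/
def A2 : P := ⟨1, cc, false⟩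
/-- The reflection on the first axis. -/
def R1 : P := ⟨rr, 1, false⟩
/-- The reflection on the second axis. -/
def R2 : P := ⟨1, rr, false⟩
/-- An element of order sixteen. -/
def tau : P := ⟨cc, 1, true⟩

theorem tau_eq : tau = A1 * sigma := by decide +kernel
theorem A2_eq : A2 = sigma * A1 * sigma⁻¹ := by decide +kernel
theorem R2_eq : R2 = sigma * R1 * sigma⁻¹ := by decide +kernel
theorem tau_ne : tau ≠ 1 := by decide +kernel

theorem cent_tau : ∀ x : P, x * tau = tau * x → ∃ k : Fin 16, x = tau ^ k.val := by decide +kernel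

theorem cent_A2 : ∀ x : P, x.act w₀ = w₀ → x * A2 = A2 * x →
    ∃ k : Fin 8, x = A2 ^ k.val ∨ x = A2 ^ k.val * R1 := by decide +kernel

theorem cent_RA : ∀ x : P, x.act w₀ = w₀ → x * (R1 * A2) = (R1 * A2) * x →
    ∃ k : Fin 8, x = (R1 * A2) ^ k.val ∨ x = (R1 * A2) ^ k.val * R1 := by decide +kernel

theorem stab_w₀_base : ∀ b : SD, ∀ ε : Bool,
    (⟨if ε then rr else 1, b, false⟩ : P).act w₀ = w₀ := by decide +kernel

theorem five_fix : R1.act g₀ = g₀ ∧ R2.act g₀ = g₀ ∧ (R1 * R2).act g₀ = g₀ ∧ sigma.act g₀ = g₀ ∧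
    [1, R1, R2, R1 * R2, sigma].Nodup := by decide +kernel

theorem fix_w₀ : A2.act w₀ = w₀ ∧ (R1 * A2).act w₀ = w₀ ∧ A2 ≠ 1 ∧ R1 * A2 ≠ 1 := by decide +kernel

/-- Involutions fixing an axis vector and fixing no generic vector, with product of the same kind. -/
theorem eq_of_semiregular {x y : P} (hxw : x.act w₀ = w₀) (hyw : y.act w₀ = w₀) (hx : x * x = 1)
    (hy : y * y = 1) (hfx : ∀ v, ¬ OnAxis v → x.act v ≠ v) (hfy : ∀ v, ¬ OnAxis v → y.act v ≠ v)
    (hfxy : x * y = 1 ∨ ∀ v, ¬ OnAxis v → (x * y).act v ≠ v) : x = y := by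
  have key : ∀ z : P, z.act w₀ = w₀ → z * z = 1 → (∀ v, ¬ OnAxis v → z.act v ≠ v) →
      z.s = false ∧ z.a.act (1, 0) = (1, 0) ∧ z.b = ⟨4, false⟩ := by
    intro z hzw hz hf
    rcases z with ⟨a, b, _ | _⟩
    · have h1 : a.act (1, 0) = (1, 0) := congrArg Prod.fst hzw
      rw [P.mul_def, P.one_def] at hz
      simp only [P.mul', Bool.false_eq_true, if_false, P.mk.injEq] at hz
      refine ⟨rfl, h1, SD.fpf_invol b hz.2.1 fun v hv e => ?_⟩
      refine hf ((1, 0), v) (fun h => h.elim (fun h => by simp at h) hv) ?_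
      exact Prod.ext h1 e
    · exfalso
      have h1 : a.act (0 : F2) = ((1, 0) : F2) := congrArg Prod.fst hzw
      rw [(SD.act_zero a 0).2 rfl] at h1
      exact absurd (congrArg Prod.fst h1) (by decide)
  obtain ⟨hxs, hxa, hxb⟩ := key x hxw hx hfx
  obtain ⟨hys, hya, hyb⟩ := key y hyw hy hfy
  rcases hfxy with h | h
  · rw [← mul_right_inj x, hx, h]
  · exfalso
    refine h ((1, 0), (1, 0)) (fun h => h.elim (fun h => absurd (congrArg Prod.fst h) (by decide))
      (fun h => absurd (congrArg Prod.fst h) (by decide))) ?_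
    rcases x with ⟨a, b, s⟩
    rcases y with ⟨a', b', s'⟩
    simp only at hxs hys hxb hyb hxa hya
    subst hxs hys hxb hyb
    simp [P.mul_def, P.mul', P.act, SD.act_mul, hxa, hya]
    decide +kernel

end CfsgLib.Blocks.KThree.Model
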