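import Cfsg.Agent.Lib.Blocks.KThree.Bridge
import Cfsg.Agent.Lib.Blocks.KThree.Even

/-!
# Blocks with a normal elementary abelian defect group of rank at least two
-/

namespace CfsgLib.Blocks.KThree

open Cfsg CfsgLib.CharTheory CfsgLib.Blocks
open scoped ComplexConjugate

set_option linter.unusedVariables false
set_option linter.style.haveILetI false
set_option linter.unusedSectionVars false
set_option linter.unusedSimpArgs false

universe u

variable {p : ℕ} {M : Ideal AlgInt} {G : Type u} [Group G] [Fintype G]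

theorem apply_eq_of_pow_prime {H : Type*} [Group H] [Fact p.Prime] (hx : ∀ x : H, x ^ p = 1)
    (ζ : H →* ℂˣ) : ζ ^ p = 1 :=
  MonoidHom.ext fun x => by rw [MonoidHom.pow_apply, ← map_pow, hx, map_one, MonoidHom.one_apply]

theorem exists_hom_ne_one {H : Type*} [Group H] [Finite H] (hab : ∀ a b : H, a * b = b * a) {x : H}
    (hx : x ≠ 1) : ∃ ζ : H →* ℂˣ, ζ x ≠ 1 := by
  letI : CommGroup H := { (inferInstance : Group H) with mul_comm := hab }
  exact CommGroup.exists_apply_ne_one_of_hasEnoughRootsOfUnity H ℂ hx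

theorem card_hom_of_comm {H : Type*} [Group H] [Finite H] (hab : ∀ a b : H, a * b = b * a) :
    Nat.card (H →* ℂˣ) = Nat.card H := by
  letI : CommGroup H := { (inferInstance : Group H) with mul_comm := hab }
  exact CommGroup.card_monoidHom_of_hasEnoughRootsOfUnity H ℂ

/-- The linear characters of a subgroup, written additively. -/
def DualW {H : Type u} [Group H] (V : Subgroup H) : Type u := Additive (V →* ℂˣ)

noncomputable instance {H : Type u} [Group H] (V : Subgroup H) : AddCommGroup (DualW V) :=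
  inferInstanceAs (AddCommGroup (Additive (V →* ℂˣ)))

/-- The character of an element of the dual. -/
def DualW.hom {H : Type u} [Group H] {V : Subgroup H} (w : DualW V) : V →* ℂˣ := Additive.toMul w

/-- The element of the dual given by a character. -/
def DualW.of {H : Type u} [Group H] {V : Subgroup H} (f : V →* ℂˣ) : DualW V := Additive.ofMul f

theorem DualW.hom_injective {H : Type u} [Group H] {V : Subgroup H} :
    Function.Injective (DualW.hom : DualW V → V →* ℂˣ) := fun a b h => h

theorem DualW.hom_nsmul {H : Type u} [Group H] {V : Subgroup H} (n : ℕ) (w : DualW V) :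
    (n • w).hom = w.hom ^ n := rfl

/-- A block with a normal elementary abelian defect group of order at least `p ^ 2` has more than
three irreducible characters. -/
theorem four_le_card_of_elementary_defect [Fact p.Prime] (hM : IsPModular p M)
    {B : Set (IrrCharacter G)} (hB : IsPBlock M B) {V : Subgroup G} [V.Normal]
    (hV : IsDefectGroup p M B V) (hel : ∀ x ∈ V, x ^ p = 1)
    (hab : ∀ x ∈ V, ∀ y ∈ V, x * y = y * x) (hcard : p ^ 2 ≤ Nat.card V) : 4 ≤ Nat.card B := by
  classical
  by_contra hlt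
  have hk : Nat.card B ≤ 3 := by omega
  have hVp := defectGroup_isPGroup hV
  set C := Subgroup.centralizer (V : Set G) with hC
  haveI : C.Normal := by rw [hC]; exact Subgroup.normal_centralizer
  haveI := Fintype.ofFinite C
  have hVC : V ≤ C := fun x hx y hy => hab y hy x hx
  -- a covered block with defect group `V`
  obtain ⟨χ₀, hχ₀⟩ := block_nonempty hM hB
  obtain ⟨θ₀, hθ₀⟩ := exists_res_constituent (N := C) χ₀
  obtain ⟨c₀, hc₀, -, hcD⟩ := knorr_inter hM hB (blockOf_isPBlock (M := M) θ₀)
    ⟨χ₀, hχ₀, θ₀, mem_blockOf_self hM θ₀, hθ₀⟩ hV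
  obtain ⟨x₀, rfl⟩ := mem_covOrb.1 hc₀
  set c := blockConj x₀ (blockOf M (θ₀ : C → ℂ)) with hcdef
  have hc : IsPBlock M c := isPBlock_image _ (blockOf_isPBlock θ₀)
  have hcov : ∃ χ ∈ B, ∃ θ ∈ c, classInner (fun n : C => (χ : G → ℂ) n) (θ : C → ℂ) ≠ 0 :=
    covers_conj ⟨χ₀, hχ₀, θ₀, mem_blockOf_self hM θ₀, hθ₀⟩ hc₀
  rw [inf_eq_left.2 hVC] at hcD
  set V' := V.subgroupOf C with hV'
  have hV'p : IsPGroup p V' := hVp.of_equiv (Subgroup.subgroupOfEquivOfLe hVC).symm
  have hsup : V' ⊔ Subgroup.centralizer (V' : Set C) = ⊤ := by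
    refine eq_top_iff.2 fun n _ => (le_sup_right : Subgroup.centralizer (V' : Set C) ≤ _) ?_
    intro q hq
    exact Subtype.ext ((Subgroup.mem_centralizer_iff.1 n.2) q hq)
  have hcardc := card_defectGroup hM hc hcD
  obtain ⟨θ, hθc, hθ⟩ := exists_triv hM hV'p hc
  obtain ⟨hparam, hsurj⟩ := exists_pcent_param hM hV'p hsup hc hcD hθc hθ
  have hθmin := (triv_props hM hV'p hsup hc hcardc hθc hθ).2.2
  have hθ1 := irr_one_ne_zero θ
  have hover : ∀ (χ : IrrCharacter G) (ψ : IrrCharacter C), ψ ∈ c →
      classInner (fun n : C => (χ : G → ℂ) n) (ψ : C → ℂ) ≠ 0 → χ ∈ B := fun χ ψ hψ hne =>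
    mem_of_over_covered hM hB hVp le_rfl hc hcov χ hψ hne
  -- the inertial quotient is prime to `p`
  have hd : blockDefect p c = blockDefect p B := by
    refine Nat.pow_right_injective hM.1.two_le ?_
    show p ^ blockDefect p c = p ^ blockDefect p B
    rw [← hcardc, ← card_defectGroup hM hB hV]
    exact Nat.card_congr (Subgroup.subgroupOfEquivOfLe hVC).toEquiv
  have hi : C.index ≠ 0 := Subgroup.index_ne_zero_of_finite
  have hminB : minDv p B = dv p (θ : C → ℂ) + C.index.factorization p := by
    rw [hθmin]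
    have h1 := congrArg (fun n : ℕ => n.factorization p) (Subgroup.card_mul_index C)
    simp only [Nat.factorization_mul Nat.card_pos.ne' hi, Finsupp.add_apply] at h1
    have h2 := minDv_le_card hM hc
    have h3 := minDv_le_card hM hB
    rw [blockDefect_eq, blockDefect_eq] at hd
    omega
  set T := inertia C (θ : C → ℂ) with hT
  have hCT : C ≤ T := le_inertia C (isClassFunction_irr θ.2)
  have hTidx : ¬ p ∣ C.relIndex T := by
    have h1 := inertia_index_ge hM (fun χ hne => hover χ θ hθc hne) hminB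
    have h2 := Subgroup.relIndex_mul_index hCT
    intro hdvd
    have h3 : C.relIndex T ≠ 0 := fun h0 => hi (by rw [← h2, h0, zero_mul])
    have h4 : T.index ≠ 0 := Subgroup.index_ne_zero_of_finite
    have := hM.1.factorization_pos_of_dvd h3 hdvd
    rw [← h2, Nat.factorization_mul h3 h4, Finsupp.add_apply, ← hT] at h1
    omega
  -- the characters of `c`
  have hzlin : ∀ ζ : IrrCharacter V', ∃ f : V' →* ℂˣ, (ζ : V' → ℂ) = fun v => (f v : ℂ) := fun ζ =>
    exists_hom_of_degree_one (isCharacter_of_irr ζ.2) (degree_one_of_commutative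
      (fun a b => Subtype.ext (Subtype.ext (hab _ a.2 _ b.2))) ζ.2)
  let ι : V →* V' := (Subgroup.subgroupOfEquivOfLe hVC).symm.toMonoidHom
  have hι : ∀ v : V, (((ι v : V') : C) : G) = (v : G) := fun v => rfl
  have hsurj' : ∀ ζ : V →* ℂˣ, ∃ χ ∈ c,
      (∀ v : V, (χ : C → ℂ) ⟨v, hVC v.2⟩ = (ζ v : ℂ) * (θ : C → ℂ) 1) := by
    intro ζ
    obtain ⟨χ, hχ, hval, -, -⟩ := hsurj ⟨fun u => (ζ (Subgroup.subgroupOfEquivOfLe hVC u) : ℂ),
      isIrrCharacter_linear (ζ.comp (Subgroup.subgroupOfEquivOfLe hVC).toMonoidHom)⟩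
    exact ⟨χ, hχ, fun v => hval (ι v)⟩
  choose X hXc hXval using hsurj'
  have huniq : ∀ χ ∈ c, ∀ χ' ∈ c, (∀ v : V, (χ : C → ℂ) ⟨v, hVC v.2⟩ = (χ' : C → ℂ) ⟨v, hVC v.2⟩) →
      χ = χ' := by
    intro χ hχ χ' hχ' h
    obtain ⟨ζ, h1, h2, h3⟩ := hparam χ hχ
    obtain ⟨ζ', h1', h2', h3'⟩ := hparam χ' hχ'
    have hz : ∀ u : V', (ζ : V' → ℂ) u = (ζ' : V' → ℂ) u := fun u =>
      mul_right_cancel₀ hθ1 (by rw [← h1, ← h1']; exact h ⟨((u : C) : G), u.2⟩)
    refine Subtype.ext (funext fun g => ?_)
    by_cases hg : OnPReg p V' g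
    · obtain ⟨u, hu, y, -, hy, rfl⟩ := hg
      rw [h2 ⟨u, hu⟩ y hy, h2' ⟨u, hu⟩ y hy, hz]
    · rw [h3 g hg, h3' g hg]
  have hXinj : Function.Injective X := by
    intro a b h
    refine MonoidHom.ext fun v => Units.ext (mul_right_cancel₀ hθ1 ?_)
    rw [← hXval, ← hXval, h]
  -- conjugation
  let cj : ∀ g : G, V →* V := fun g => (MulAut.conjNormal g : V ≃* V).toMonoidHom
  have hcj : ∀ (g : G) (v : V), ((cj g v : V) : G) = g * v * g⁻¹ := fun g v =>
    MulAut.conjNormal_apply g v
  have himg : ∀ (g : G) (χ : IrrCharacter C), ∃ χ' : IrrCharacter C,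
      (χ' : C → ℂ) = conjNormFun C g (χ : C → ℂ) ∧
      χ' = irrPull (conjE (mem_normalizer_normal (N := C) g⁻¹)) χ := fun g χ =>
    ⟨_, by rw [irrPull_conjE_eq, inv_inv], rfl⟩
  have hconjT : ∀ g ∈ T, ∀ ζ : V →* ℂˣ,
      conjNormFun C g (X ζ : C → ℂ) = (X (ζ.comp (cj g)) : C → ℂ) := by
    intro g hg ζ
    obtain ⟨χ', he, he'⟩ := himg g (X ζ)
    set e := conjE (mem_normalizer_normal (N := C) g⁻¹) with hedef
    have hθ' : irrPull e θ = θ := Subtype.ext (by
      rw [hedef, irrPull_conjE_eq, inv_inv]; exact hg)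
    have hb : irrPull e '' c = c := by
      have h1 : IsPBlock M (irrPull e '' c) := isPBlock_image _ hc
      rw [eq_blockOf hM h1 (⟨θ, hθc, hθ'⟩ : θ ∈ irrPull e '' c), ← eq_blockOf hM hc hθc]
    have hmem : χ' ∈ c := by
      rw [← hb, he']
      exact ⟨X ζ, hXc ζ, rfl⟩
    rw [← he]
    refine congrArg Subtype.val (huniq χ' hmem _ (hXc _) fun v => ?_)
    rw [hXval, he]
    refine Eq.trans ?_ (hXval ζ (cj g v))
    exact congrArg (X ζ : C → ℂ) (Subtype.ext (hcj g v).symm)
  have hconjmem : ∀ (g : G) (ζ ζ' : V →* ℂˣ),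
      conjNormFun C g (X ζ : C → ℂ) = (X ζ' : C → ℂ) → g ∈ T := by
    intro g ζ ζ' hg
    set e := conjE (mem_normalizer_normal (N := C) g⁻¹) with hedef
    have hψ' : irrPull e (X ζ) = X ζ' := Subtype.ext (by
      rw [hedef, irrPull_conjE_eq, inv_inv]; exact hg)
    have hb : irrPull e '' c = c := by
      have h1 : IsPBlock M (irrPull e '' c) := isPBlock_image _ hc
      rw [eq_blockOf hM h1 (⟨X ζ, hXc ζ, hψ'⟩ : X ζ' ∈ irrPull e '' c), ← eq_blockOf hM hc (hXc ζ')]
    have hθ'c : irrPull e θ ∈ c := hb ▸ ⟨θ, hθc, rfl⟩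
    have hθ'triv : ∀ x ∈ V', (irrPull e θ : C → ℂ) x = (irrPull e θ : C → ℂ) 1 := by
      intro x hx
      rw [irrPull_apply, irrPull_apply, map_one, hθ]
      show g⁻¹⁻¹ * (x : G) * g⁻¹ ∈ V
      rw [inv_inv]
      exact (‹V.Normal›).conj_mem _ hx g
    have h2 := triv_unique hM hV'p hsup hc hcardc hθ'c hθ'triv hθc hθ
    rw [hT, mem_inertia]
    calc conjNormFun C g (θ : C → ℂ) = (irrPull e θ : C → ℂ) := by
          rw [hedef, irrPull_conjE_eq, inv_inv]
      _ = (θ : C → ℂ) := by rw [h2]
  -- the vector space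
  have hVab : ∀ a b : V, a * b = b * a := fun a b => Subtype.ext (hab _ a.2 _ b.2)
  have hexp : ∀ w : DualW V, p • w = 0 := fun w => by
    refine DualW.hom_injective ?_
    rw [DualW.hom_nsmul]
    exact apply_eq_of_pow_prime (fun x : V => Subtype.ext (hel x x.2)) _
  letI : Module (ZMod p) (DualW V) := AddCommGroup.zmodModule (n := p) (G := (DualW V)) hexp
  have hWcard : Nat.card (DualW V) = Nat.card V := by
    show Nat.card (V →* ℂˣ) = Nat.card V
    exact card_hom_of_comm hVab
  haveI : Finite (DualW V) := Nat.finite_of_card_ne_zero (by rw [hWcard]; exact Nat.card_pos.ne')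
  haveI : Module.Finite (ZMod p) (DualW V) := Module.Finite.of_finite
  have hn : 2 ≤ Module.finrank (ZMod p) (DualW V) := by
    have h1 : Nat.card (DualW V) = p ^ Module.finrank (ZMod p) (DualW V) := by
      have h2 := natCard_submodule (⊤ : Submodule (ZMod p) (DualW V))
      rwa [Nat.card_congr Submodule.topEquiv.toEquiv, finrank_top] at h2
    rw [hWcard] at h1
    exact (Nat.pow_le_pow_iff_right hM.1.one_lt).1 (h1 ▸ hcard)
  let act : T →* Module.End (ZMod p) (DualW V) :=
    { toFun := fun g => AddMonoidHom.toZModLinearMap p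
        (AddMonoidHom.mk' (fun w => DualW.of ((DualW.hom w).comp (cj (g : G)⁻¹)))
          fun a b => rfl)
      map_one' := by
        refine LinearMap.ext fun w => ?_
        refine DualW.hom_injective (MonoidHom.ext fun v => ?_)
        change (DualW.hom w) (cj ((1 : T) : G)⁻¹ v) = (DualW.hom w) v
        congr 1
        exact Subtype.ext (by rw [hcj]; simp)
      map_mul' := fun g h => by
        refine LinearMap.ext fun w => ?_
        refine DualW.hom_injective (MonoidHom.ext fun v => ?_)
        show (DualW.hom w) (cj ((g * h : T) : G)⁻¹ v) =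
          (DualW.hom w) (cj (h : G)⁻¹ (cj (g : G)⁻¹ v))
        congr 1
        exact Subtype.ext (by rw [hcj, hcj, hcj, Subgroup.coe_mul]; group) }
  have hactW : ∀ (g : T) (w : (DualW V)), DualW.hom (act g w) = (DualW.hom w).comp (cj (g : G)⁻¹) :=
    fun g w => rfl
  let π := act.toHomUnits
  haveI : Finite (Module.End (ZMod p) (DualW V))ˣ :=
    haveI : Finite (Module.End (ZMod p) (DualW V)) := Finite.of_injective _ DFunLike.coe_injective
    inferInstance
  let E := π.range
  let ρ : Representation (ZMod p) E (DualW V) := (Units.coeHom _).comp E.subtype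
  have hπker : ∀ g : T, π g = 1 ↔ (g : G) ∈ C := by
    intro g
    constructor
    · intro h
      rw [hC, Subgroup.mem_centralizer_iff]
      intro v hv
      have h1 : cj (g : G)⁻¹ ⟨v, hv⟩ = ⟨v, hv⟩ := by
        by_contra hne
        obtain ⟨ζ, hζ⟩ := exists_hom_ne_one hVab
          (x := cj (g : G)⁻¹ ⟨v, hv⟩ * (⟨v, hv⟩ : V)⁻¹) (fun e => hne (mul_inv_eq_one.1 e))
        apply hζ
        have h2 : act g (DualW.of ζ) = DualW.of ζ := by
          have := congrArg Units.val h
          exact LinearMap.congr_fun this _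
        have h3 := DFunLike.congr_fun (congrArg DualW.hom h2) (⟨v, hv⟩ : V)
        rw [map_mul, map_inv, mul_inv_eq_one]
        exact h3
      have h2 := congrArg Subtype.val h1
      rw [hcj, inv_inv] at h2
      calc v * (g : G) = (g : G) * ((g : G)⁻¹ * v * (g : G)) := by group
        _ = (g : G) * v := by rw [h2]
    · intro h
      refine Units.ext (LinearMap.ext fun w => DualW.hom_injective (MonoidHom.ext fun v => ?_))
      show (DualW.hom w) (cj (g : G)⁻¹ v) = (DualW.hom w) v
      congr 1
      refine Subtype.ext ?_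
      rw [hcj, inv_inv, mul_assoc, (Subgroup.mem_centralizer_iff.1 h) v v.2, inv_mul_cancel_left]
  -- the multiplicities
  let l : (DualW V) → ℕ := fun w =>
    Nat.card {χ : IrrCharacter G // classInner (fun n : C => (χ : G → ℂ) n)
      (X (DualW.hom w) : C → ℂ) ≠ 0}
  -- the inertia group of each character
  have key : ∀ (w : (DualW V)) (S : Finset E), (∀ y ∈ S, GoodAt (stab ρ w) y) → NonConj (stab ρ w) S →
      S.card ≤ l w ∧ (l w = 1 → IsSquare (Nat.card (stab ρ w))) := by
    intro w S hS hSc
    set ζ := DualW.hom w with hζ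
    set φ : C → ℂ := (X ζ : C → ℂ) with hφ
    set I := inertia C φ with hI
    have hCI : C ≤ I := le_inertia C (isClassFunction_irr (X ζ).2)
    have hIT : I ≤ T := fun g hg => hconjmem g ζ ζ hg
    haveI := Fintype.ofFinite I
    haveI := Fintype.ofFinite (C.subgroupOf I)
    let π' : I →* E := π.rangeRestrict.comp (Subgroup.inclusion hIT)
    have hker : π'.ker = C.subgroupOf I := by
      ext g
      rw [MonoidHom.mem_ker, Subgroup.mem_subgroupOf]
      exact Subtype.ext_iff.trans (hπker _)
    have hrange : π'.range = stab ρ w := by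
      ext y
      constructor
      · rintro ⟨g, rfl⟩
        rw [mem_stab]
        show act (Subgroup.inclusion hIT g) w = w
        have hg : conjNormFun C (g : G) φ = φ := g.2
        rw [hconjT (g : G) (hIT g.2) ζ] at hg
        have h1 := hXinj (Subtype.ext hg)
        refine DualW.hom_injective (MonoidHom.ext fun v => ?_)
        rw [hactW, MonoidHom.comp_apply]
        have h2 := DFunLike.congr_fun h1 (cj ((g : G)⁻¹) v)
        rw [MonoidHom.comp_apply] at h2
        refine (h2.symm.trans (congrArg ζ (Subtype.ext ?_)))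
        rw [hcj, hcj]; group
      · intro hy
        obtain ⟨g, hg⟩ := y.2
        rw [mem_stab] at hy
        have hy' : act g w = w := by
          have : ρ y = act g := by
            show ((y : (Module.End (ZMod p) (DualW V))ˣ) : Module.End (ZMod p) (DualW V)) = act g
            rw [← hg]
            rfl
          rwa [this] at hy
        have h1 : ζ.comp (cj (g : G)⁻¹) = ζ := congrArg DualW.hom hy'
        have hgI : (g : G) ∈ I := by
          rw [hI, mem_inertia, hφ, hconjT (g : G) g.2 ζ]
          congr 2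
          refine MonoidHom.ext fun v => ?_
          have h2 := DFunLike.congr_fun h1 (cj (g : G) v)
          rw [MonoidHom.comp_apply] at h2 ⊢
          refine h2.symm.trans (congrArg ζ (Subtype.ext ?_))
          rw [hcj, hcj]; group
        exact ⟨⟨(g : G), hgI⟩, Subtype.ext hg⟩
    let φI : C.subgroupOf I → ℂ := fun x => φ ⟨((x : I) : G), Subgroup.mem_subgroupOf.mp x.2⟩
    have hφI : IsIrrCharacter (C.subgroupOf I)
        φI :=
      isIrr_subgroupOf C hCI (X ζ).2
    have hinv : ∀ g : I, conjNormFun (C.subgroupOf I) g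
        φI =
        φI := fun g => by
      funext x
      exact congrFun g.2 ⟨(x : I), Subgroup.mem_subgroupOf.mp x.2⟩
    -- Clifford correspondence into the characters of `G`
    have hle : Nat.card (Over (C.subgroupOf I) φI)
        ≤ l w := by
      have hne' : ∀ ψ : Over (C.subgroupOf I) φI,
          classInner (fun n : C => (ψ.1 : I → ℂ) ⟨n, hCI n.2⟩) φ ≠ 0 := fun ψ => by
        rw [← classInner_subgroupOf C hCI]
        exact ψ.2
      refine Nat.card_le_card_of_injective (fun ψ => ⟨⟨indFun I (ψ.1 : I → ℂ),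
        (clifford_correspondence C (X ζ).2 hCI hI ψ.1.2 (hne' ψ)).1⟩, ?_⟩) ?_
      · show classInner (fun n : C => indFun I (ψ.1 : I → ℂ) n) φ ≠ 0
        rw [(clifford_correspondence C (X ζ).2 hCI hI ψ.1.2 (hne' ψ)).2]
        exact hne' ψ
      · intro a b h
        refine Subtype.ext (Subtype.ext ?_)
        exact clifford_correspondence_inj C (X ζ).2 hCI hI a.1.2 b.1.2 (hne' a) (hne' b)
          (congrArg Subtype.val (congrArg Subtype.val h))
    refine ⟨?_, fun h1 => ?_⟩
    · refine le_trans (card_le_over_of_map (C.subgroupOf I) π' hker hφI hinv S ?_ ?_) hle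
      · rw [hrange]; exact hS
      · rw [hrange]; exact hSc
    · have h2 := card_le_over_of_map (C.subgroupOf I) π' hker hφI hinv {1}
        (fun y hy => by rw [Finset.mem_singleton] at hy; rw [hy]; exact good_one _)
        (fun y hy z hz hne => absurd (by
          rw [Finset.mem_singleton] at hy hz; exact hy.trans hz.symm) hne)
      rw [Finset.card_singleton] at h2
      have h3 := isSquare_index (C.subgroupOf I) hφI hinv (by omega)
      rwa [← hker, Subgroup.index_ker, hrange] at h3
  have hsmall : Small ρ l := by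
    refine ⟨fun a b h => Subtype.ext (Units.ext h), ?_, fun w => ?_, fun w S h1 h2 => (key w S h1 h2).1,
      fun w => (key w ∅ (by simp) (by simp [NonConj])).2, ?_⟩
    · intro hd
      apply hTidx
      refine hd.trans (dvd_of_eq ?_)
      have hk : π.ker = C.subgroupOf T := by
        ext g
        rw [MonoidHom.mem_ker, Subgroup.mem_subgroupOf]
        exact hπker g
      rw [Subgroup.relIndex, ← hk, Subgroup.index_ker]
    · obtain ⟨χ, hχ⟩ := exists_over (G := G) (X (DualW.hom w))
      exact Nat.one_le_iff_ne_zero.2 (Nat.card_ne_zero.2 ⟨⟨⟨χ, hχ⟩⟩, inferInstance⟩)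
    · intro R hR
      refine le_trans ?_ hk
      let f : (Σ w : R, {χ : IrrCharacter G // classInner (fun n : C => (χ : G → ℂ) n)
          (X (DualW.hom (w : (DualW V))) : C → ℂ) ≠ 0}) → B :=
        fun z => ⟨z.2.1, hover _ _ (hXc _) z.2.2⟩
      have hf : Function.Injective f := by
        rintro ⟨a, χ, hχa⟩ ⟨b, χ', hχb⟩ h
        obtain rfl : χ = χ' := congrArg Subtype.val h
        have hab' : a = b := by
          by_contra hne
          obtain ⟨g, hg⟩ := exists_conj_of_constituents C χ.2 (X _).2 (X _).2 hχa hχb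
          have hgT := hconjmem g _ _ hg
          rw [hconjT g hgT] at hg
          have h1 := hXinj (Subtype.ext hg)
          refine hR a a.2 b b.2 (fun e => hne (Subtype.ext e))
            ⟨π ⟨g, hgT⟩⁻¹, ⟨_, rfl⟩⟩ ?_
          refine DualW.hom_injective (MonoidHom.ext fun v => ?_)
          show (DualW.hom (a : (DualW V))) (cj (((⟨g, hgT⟩ : T)⁻¹ : T) : G)⁻¹ v) = _
          rw [← h1, MonoidHom.comp_apply, Subgroup.coe_inv, inv_inv]
        subst hab'
        rfl
      have := Nat.card_le_card_of_injective f hf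
      rw [Nat.card_sigma] at this
      rwa [← Finset.sum_coe_sort]
  exact hsmall.false_all hn

end CfsgLib.Blocks.KThree
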