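import Cfsg.Agent.Lib.Blocks.KThree.Setup

/-!
# Facts about planes, minus the identity, and the order of the general linear group
-/

namespace CfsgLib.Blocks.KThree

open Module

set_option linter.unusedVariables false
set_option linter.style.haveILetI false
set_option linter.unusedSectionVars false

universe u v

variable {p : ℕ} [hp : Fact p.Prime] {W : Type v} [AddCommGroup W] [Finite W] [Module (ZMod p) W]
  {E : Type u} [Group E] [Finite E] (ρ : Representation (ZMod p) E W)

theorem card_dvd_GL (hρ : Function.Injective ρ) :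
    Nat.card E ∣ Nat.card (Matrix.GeneralLinearGroup (Fin (finrank (ZMod p) W)) (ZMod p)) := by
  let b := Module.finBasis (ZMod p) W
  let f : E →* Matrix (Fin (finrank (ZMod p) W)) (Fin (finrank (ZMod p) W)) (ZMod p) :=
    (LinearMap.toMatrixAlgEquiv b).toMulEquiv.toMonoidHom.comp ρ
  have hf : Function.Injective f.toHomUnits := fun a c e =>
    hρ ((LinearMap.toMatrixAlgEquiv b).injective (congrArg Units.val e))
  exact Subgroup.card_dvd_of_injective _ hf

/-- Orbits of a group with small stabilizers have length divisible by a given number. -/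
theorem dvd_card_of_orbits {S : Type*} [Group S] [Finite S] {X : Type*} [Finite X] [MulAction S X]
    {d : ℕ} (h : ∀ x : X, d ∣ Nat.card (MulAction.orbit S x)) : d ∣ Nat.card X := by
  classical
  haveI := Fintype.ofFinite X
  rw [Nat.card_congr (MulAction.selfEquivSigmaOrbits S X), Nat.card_sigma]
  refine Finset.dvd_sum fun ω _ => h _

theorem dvd_of_two_pow {a b : ℕ} {k : ℕ} {X H : ℕ} (hX : X * H = a) (ha : 0 < a)
    (hk : 2 ^ k ∣ b) (hb : b * H = a) : 2 ^ k ∣ X := by
  have hH : 0 < H := Nat.pos_of_ne_zero fun h => by simp [h] at hX; omega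
  have : X = b := Nat.eq_of_mul_eq_mul_right hH (hX.trans hb.symm)
  exact this ▸ hk

/-- Minus the identity lies in a transitive group when the two part of the orbit is large. -/
theorem exists_neg [Nontrivial W] (hρ : Function.Injective ρ) (hp2 : p ≠ 2) {v : W}
    (htr : ∀ w : W, w ≠ 0 → w ∈ orb ρ v) {k : ℕ} (hk0 : 1 ≤ k) (hk : 2 ^ k ∣ Nat.card (orb ρ v))
    (hsmall : ∀ f, 1 ≤ f → f < finrank (ZMod p) W → ¬ 2 ^ k ∣ p ^ f - 1) :
    ∃ ι : E, ∀ w, ρ ι w = -w := by
  classical
  haveI := Fact.mk Nat.prime_two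
  obtain ⟨S⟩ : Nonempty (Sylow 2 E) := inferInstance
  have hE := card_orb_mul ρ v
  have hSE : 2 ^ k ∣ Nat.card E := hE ▸ hk.mul_right _
  have hSdvd : 2 ^ k ∣ Nat.card S := S.pow_dvd_card_of_pow_dvd_card hSE
  haveI : Nontrivial S := by
    exact Finite.one_lt_card_iff_nontrivial.1 (lt_of_lt_of_le (Nat.one_lt_two_pow (by omega))
      (Nat.le_of_dvd Nat.card_pos hSdvd))
  haveI := S.2.center_nontrivial
  obtain ⟨ι, hι⟩ := exists_prime_orderOf_dvd_card' (G := Subgroup.center S) 2 (by
    obtain ⟨j, hj0, hj⟩ := ((S.2.to_subgroup (Subgroup.center (S : Subgroup E))).nontrivial_iff_card).1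
      inferInstance
    exact hj ▸ dvd_pow_self 2 hj0.ne')
  set i : E := ((ι : S) : E) with hi
  have hio : orderOf i = 2 := by rw [hi, Subgroup.orderOf_coe, Subgroup.orderOf_coe, hι]
  set U := fixIn ρ i ⊤ with hU
  have hcomm : ∀ s : S, ∀ u ∈ U, ρ (s : E) u ∈ U := by
    intro s u hu
    rw [hU, mem_fixIn] at hu ⊢
    refine ⟨Submodule.mem_top, ?_⟩
    have hc : i * (s : E) = (s : E) * i :=
      congrArg Subtype.val (Subgroup.mem_center_iff.1 ι.2 s).symm
    rw [← Module.End.mul_apply, ← map_mul, hc, map_mul, Module.End.mul_apply, hu.2]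
  have horb : ∀ w : W, w ≠ 0 → 2 ^ k ∣ Nat.card (Set.range fun s : S => ρ (s : E) w) := by
    intro w hw
    obtain ⟨e, he⟩ := S.card_eq_multiplicity ▸ (⟨_, rfl⟩ : ∃ e, Nat.card S = e)
    have hstab := card_stab_eq ρ (htr w hw)
    let T : Subgroup S := (stab ρ w).subgroupOf S
    have h1 : Nat.card T ∣ Nat.card (stab ρ v) := hstab ▸
      Subgroup.card_dvd_of_injective
        ({ toFun := fun t : T => (⟨((t : S) : E), t.2⟩ : stab ρ w)
           map_one' := rfl
           map_mul' := fun a b => rfl } : T →* stab ρ w)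
        (fun a b e => Subtype.ext (Subtype.ext (congrArg (fun z : stab ρ w => (z : E)) e)))
    obtain ⟨a, ha⟩ := S.2.to_subgroup T |>.exists_card_eq
    have hidx : Nat.card (Set.range fun s : S => ρ (s : E) w) = T.index := by
      have h2 : Nat.card (Set.range fun s : S => ρ (s : E) w) * Nat.card T = Nat.card S :=
        card_orb_mul (ρ.comp (S : Subgroup E).subtype) w
      rw [← T.card_mul_index, mul_comm (Nat.card T)] at h2
      exact Nat.eq_of_mul_eq_mul_right (Nat.card_pos (α := T)) h2
    rw [hidx]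
    have hTS := T.card_mul_index
    obtain ⟨c, hc⟩ := S.2.exists_card_eq
    have hSc := S.card_eq_multiplicity
    rw [hc] at hSc
    have hcm : c = (Nat.card E).factorization 2 := Nat.pow_right_injective le_rfl hSc
    have hv0 : Nat.card (stab ρ v) ≠ 0 := Nat.card_pos.ne'
    have ho0 : Nat.card (orb ρ v) ≠ 0 := fun h0 => by
      rw [h0, zero_mul] at hE
      exact Nat.card_pos.ne' hE.symm
    have hsum : c = (Nat.card (orb ρ v)).factorization 2 + (Nat.card (stab ρ v)).factorization 2 := by
      rw [hcm, ← hE, Nat.factorization_mul ho0 hv0, Finsupp.add_apply]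
    have hka := (Nat.prime_two.pow_dvd_iff_le_factorization ho0).1 hk
    have haa := (Nat.prime_two.pow_dvd_iff_le_factorization hv0).1 (ha ▸ h1)
    rw [ha, hc] at hTS
    have hTpos : T.index ≠ 0 := Subgroup.index_ne_zero_of_finite
    rw [Nat.prime_two.pow_dvd_iff_le_factorization hTpos]
    have := congrArg (fun n : ℕ => n.factorization 2) hTS
    simp only [Nat.factorization_mul (pow_ne_zero a two_ne_zero) hTpos, Finsupp.add_apply,
      Nat.Prime.factorization_pow Nat.prime_two, Finsupp.single_eq_same] at this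
    omega
  have hbot : U = ⊥ := by
    by_contra hne
    letI : MulAction S {u : U // u ≠ 0} :=
      { smul := fun s u => ⟨⟨ρ (s : E) (u.1 : W), hcomm s _ u.1.2⟩, fun e => u.2 (Subtype.ext (by
          have h1 : ρ (s : E) (u.1 : W) = 0 := congrArg Subtype.val e
          have h2 : ρ ((s : E)⁻¹) (ρ (s : E) (u.1 : W)) = 0 := by rw [h1, map_zero]
          rwa [← Module.End.mul_apply, ← map_mul, inv_mul_cancel, map_one, Module.End.one_apply] at h2))⟩
        one_smul := fun u => Subtype.ext (Subtype.ext (by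
          show ρ ((1 : S) : E) (u.1 : W) = u.1; simp))
        mul_smul := fun a b u => Subtype.ext (Subtype.ext (by
          show ρ ((a * b : S) : E) (u.1 : W) = ρ (a : E) (ρ (b : E) (u.1 : W)); simp)) }
    have hd : 2 ^ k ∣ Nat.card {u : U // u ≠ 0} := dvd_card_of_orbits (S := S) fun u => by
      have h1 : Nat.card (MulAction.orbit S u) = Nat.card (Set.range fun s : S => ρ (s : E) (u.1 : W)) := by
        refine Nat.card_congr (Equiv.ofBijective (fun z => ⟨(z.1.1 : W), ?_⟩) ⟨?_, ?_⟩)
        · obtain ⟨s, hs⟩ := z.2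
          exact ⟨s, congrArg (fun y : {u : U // u ≠ 0} => (y.1 : W)) hs⟩
        · intro a b e
          exact Subtype.ext (Subtype.ext (Subtype.ext (congrArg (fun y : Set.range _ => (y : W)) e)))
        · rintro ⟨_, s, rfl⟩
          exact ⟨⟨s • u, s, rfl⟩, rfl⟩
      rw [h1]
      exact horb _ fun e => u.2 (Subtype.ext e)
    have hcardU : Nat.card {u : U // u ≠ 0} = p ^ finrank (ZMod p) U - 1 := by
      haveI := Fintype.ofFinite U
      rw [Nat.card_eq_fintype_card, Fintype.card_subtype_compl, Fintype.card_subtype_eq,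
        ← Nat.card_eq_fintype_card, natCard_submodule]
    rw [hcardU] at hd
    refine hsmall _ (Submodule.one_le_finrank_iff.2 hne) (Submodule.finrank_lt ?_) hd
    exact fixIn_top_ne_top ρ hρ (fun e => by rw [e, orderOf_one] at hio; omega)
  refine ⟨i, fun w => ?_⟩
  have h1 : w + ρ i w ∈ U := by
    rw [hU, mem_fixIn]
    refine ⟨Submodule.mem_top, ?_⟩
    rw [map_add, ← Module.End.mul_apply, ← map_mul, show i * i = 1 by
      rw [← pow_two, ← hio, pow_orderOf_eq_one], map_one, Module.End.one_apply, add_comm]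
  rw [hbot, Submodule.mem_bot] at h1
  exact eq_neg_of_add_eq_zero_right h1

/-- An element of order four acts irreducibly on a plane over a field without a root of `-1`. -/
theorem irred_of_order_four (hρ : Function.Injective ρ) (h4 : p % 4 = 3)
    (hd : finrank (ZMod p) W = 2) {z : E} (hz : orderOf z = 4) : Irred ρ z := by
  have hline : ∀ U : Submodule (ZMod p) W, U ≠ ⊥ → U ≠ ⊤ → (∀ u ∈ U, ρ z u ∈ U) →
      ∀ u ∈ U, ρ (z ^ 2) u = u := by
    intro U h0 h1 hU u hu
    have hU1 : finrank (ZMod p) U = 1 := by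
      have h2 := Submodule.one_le_finrank_iff.2 h0
      have h3 := Submodule.finrank_lt h1
      omega
    by_cases hu0 : u = 0
    · rw [hu0, map_zero]
    obtain ⟨c, hc⟩ := exists_smul_eq_of_finrank_eq_one hU1 (x := ⟨u, hu⟩)
      (fun e => hu0 (congrArg Subtype.val e)) ⟨ρ z u, hU u hu⟩
    have hc' : ρ z u = c • u := (congrArg Subtype.val hc).symm
    have hpow : ∀ k : ℕ, ρ (z ^ k) u = (c ^ k) • u := by
      intro k
      induction k with
      | zero => simp
      | succ k ih => rw [pow_succ, map_mul, Module.End.mul_apply, hc', map_smul, ih, smul_smul,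
          pow_succ, mul_comm]
    have h2 := hpow 4
    rw [← hz, pow_orderOf_eq_one, map_one, Module.End.one_apply, hz] at h2
    have hc4 : c ^ 4 = 1 := by
      have h3 : (c ^ 4 - 1) • u = 0 := by rw [sub_smul, ← h2, one_smul, sub_self]
      exact sub_eq_zero.1 ((smul_eq_zero.1 h3).resolve_right hu0)
    have h3 : (c ^ 2 - 1) * (c ^ 2 + 1) = 0 := by linear_combination hc4
    rcases mul_eq_zero.1 h3 with h | h
    · rw [hpow 2, sub_eq_zero.1 h, one_smul]
    · exfalso
      have : IsSquare (-1 : ZMod p) :=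
        ⟨c, by rw [← pow_two]; exact (eq_neg_of_add_eq_zero_left h).symm⟩
      exact (ZMod.exists_sq_eq_neg_one_iff.1 this) h4
  intro U hU
  by_contra hcon
  push Not at hcon
  obtain ⟨u, hu, hu0⟩ := (Submodule.ne_bot_iff U).1 hcon.1
  have hzu := hline U hcon.1 hcon.2 hU u hu
  have hp2 : p ≠ 2 := by omega
  set A : Submodule (ZMod p) W := LinearMap.ker (ρ (z ^ 2) + 1) with hA
  have hmemA : ∀ x, x ∈ A ↔ ρ (z ^ 2) x = -x := fun x => by
    rw [hA, LinearMap.mem_ker, LinearMap.add_apply, Module.End.one_apply, add_eq_zero_iff_eq_neg]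
  have h2ne : ∀ x : W, x = -x → x = 0 := by
    intro x hx
    have h : (2 : ZMod p) • x = 0 := by rw [two_smul]; exact add_eq_zero_iff_eq_neg.2 hx
    refine (smul_eq_zero.1 h).resolve_left fun h2' => hp2 ?_
    exact (Nat.prime_dvd_prime_iff_eq hp.1 Nat.prime_two).1
      ((ZMod.natCast_eq_zero_iff 2 p).1 (by exact_mod_cast h2'))
  have hAinv : ∀ x ∈ A, ρ z x ∈ A := by
    intro x hx
    rw [hmemA] at hx ⊢
    rw [← Module.End.mul_apply, ← map_mul, ((Commute.refl z).pow_left 2).eq, map_mul,
      Module.End.mul_apply, hx, map_neg]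
  obtain ⟨w, hw⟩ : ∃ w, ρ (z ^ 2) w ≠ w := by
    by_contra hh
    push Not at hh
    have h1 := orderOf_dvd_of_pow_eq_one (eq_one_of_fix ρ hρ hh)
    rw [hz] at h1
    norm_num at h1
  have hwA : w - ρ (z ^ 2) w ∈ A := by
    rw [hmemA, map_sub, ← Module.End.mul_apply, ← map_mul, ← pow_add,
      show 2 + 2 = orderOf z by rw [hz], pow_orderOf_eq_one, map_one, Module.End.one_apply, neg_sub]
  have hA0 : A ≠ ⊥ := (Submodule.ne_bot_iff A).2 ⟨_, hwA, fun e => hw (sub_eq_zero.1 e).symm⟩
  have hA1 : A ≠ ⊤ := fun e => hu0 (h2ne u (by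
    have h1 := (hmemA u).1 (e ▸ Submodule.mem_top)
    rwa [hzu] at h1))
  have h1 := hline A hA0 hA1 hAinv _ hwA
  exact hw (sub_eq_zero.1 (h2ne _ (h1.symm.trans ((hmemA _).1 hwA)))).symm

/-- A two group of order at least eight on a plane contains an element of order four, and so does
a two group of order at least four without fixed vectors. -/
theorem exists_order_four (hρ : Function.Injective ρ) (hp2 : p ≠ 2)
    (hd : finrank (ZMod p) W = 2) {S : Subgroup E} (hS : IsPGroup 2 S)
    (h : 8 ≤ Nat.card S ∨ (4 ≤ Nat.card S ∧ ∀ g ∈ S, ∀ w : W, w ≠ 0 → ρ g w = w → g = 1)) :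
    ∃ z ∈ S, orderOf z = 4 := by
  by_contra hcon
  push Not at hcon
  have hinv : ∀ g ∈ S, g * g = 1 := by
    intro g hg
    obtain ⟨k, hk⟩ := IsPGroup.iff_orderOf.1 hS ⟨g, hg⟩
    rw [Subgroup.orderOf_mk] at hk
    rcases Nat.lt_or_ge k 2 with hk2 | hk2
    · rw [← pow_two]
      exact orderOf_dvd_iff_pow_eq_one.1 (hk ▸ (pow_dvd_pow 2 (by omega : k ≤ 1)).trans (pow_one 2).dvd)
    · exfalso
      refine hcon _ (S.pow_mem hg (2 ^ (k - 2))) ?_
      rw [orderOf_pow, hk, Nat.gcd_eq_right (pow_dvd_pow 2 (by omega)),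
        Nat.pow_div (by omega) (by norm_num), show k - (k - 2) = 2 by omega]
  have hcomm : ∀ a ∈ S, ∀ b ∈ S, a * b = b * a := by
    intro a ha b hb
    have h1 := hinv _ (S.mul_mem ha hb)
    calc a * b = (a * b)⁻¹ := eq_inv_of_mul_eq_one_left h1
      _ = b⁻¹ * a⁻¹ := mul_inv_rev a b
      _ = b * a := by rw [inv_eq_of_mul_eq_one_right (hinv b hb), inv_eq_of_mul_eq_one_right (hinv a ha)]
  have hneg : ∀ g ∈ S, (∀ w : W, w ≠ 0 → ρ g w ≠ w) → ∀ w, ρ g w = -w := by
    intro g hg hno w
    have h1 : ρ g (w + ρ g w) = w + ρ g w := by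
      rw [map_add, ← Module.End.mul_apply, ← map_mul, hinv g hg, map_one, Module.End.one_apply, add_comm]
    by_contra hne
    exact hno _ (fun e => hne (eq_neg_of_add_eq_zero_right e)) h1
  by_cases hfix : ∃ g ∈ S, g ≠ 1 ∧ ∃ v : W, v ≠ 0 ∧ ρ g v = v
  · obtain ⟨g, hg, hg1, v, hv0, hv⟩ := hfix
    have h8 : 8 ≤ Nat.card S := h.elim id fun h' => absurd (h'.2 g hg v hv0 hv) hg1
    set U := fixIn ρ g ⊤ with hU
    have hvU : v ∈ U := (mem_fixIn ρ).2 ⟨Submodule.mem_top, hv⟩
    have hU1 : finrank (ZMod p) U = 1 := by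
      have h1 : 1 ≤ finrank (ZMod p) U :=
        Submodule.one_le_finrank_iff.2 ((Submodule.ne_bot_iff U).2 ⟨v, hvU, hv0⟩)
      have h2 : finrank (ZMod p) U < finrank (ZMod p) W :=
        Submodule.finrank_lt (fixIn_top_ne_top ρ hρ hg1)
      omega
    -- every element acts on `v` as a sign, and so does it on an anti-fixed vector
    have hsign : ∀ (U' : Submodule (ZMod p) W), finrank (ZMod p) U' = 1 → ∀ v' ∈ U', v' ≠ 0 →
        (∀ s ∈ S, ρ s v' ∈ U') → ∀ s ∈ S, ρ s v' = v' ∨ ρ s v' = -v' := by
      intro U' hU' v' hv' hv'0 hin s hs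
      obtain ⟨c, hc⟩ := exists_smul_eq_of_finrank_eq_one hU' (x := ⟨v', hv'⟩)
        (fun e => hv'0 (congrArg Subtype.val e)) ⟨ρ s v', hin s hs⟩
      have hc' : ρ s v' = c • v' := (congrArg Subtype.val hc).symm
      have h2 : ρ s (ρ s v') = v' := by
        rw [← Module.End.mul_apply, ← map_mul, hinv s hs, map_one, Module.End.one_apply]
      rw [hc', map_smul, hc', smul_smul] at h2
      have h3 : c * c = 1 := by
        have h4 : (c * c - 1) • v' = 0 := by rw [sub_smul, h2, one_smul, sub_self]
        exact sub_eq_zero.1 ((smul_eq_zero.1 h4).resolve_right hv'0)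
      rcases mul_self_eq_one_iff.1 h3 with rfl | rfl <;> simp [hc']
    obtain ⟨w, hw⟩ : ∃ w, w ∉ U := by
      by_contra hh
      push Not at hh
      exact fixIn_top_ne_top ρ hρ hg1 (eq_top_iff.2 fun x _ => hh x)
    set v' := w - ρ g w with hv'
    have hv'0 : v' ≠ 0 := fun e => hw ((mem_fixIn ρ).2 ⟨Submodule.mem_top, (sub_eq_zero.1 e).symm⟩)
    set U' : Submodule (ZMod p) W := LinearMap.ker (ρ g + 1) with hU'
    have hv'U : v' ∈ U' := by
      rw [hU', LinearMap.mem_ker, LinearMap.add_apply, Module.End.one_apply, hv', map_sub,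
        ← Module.End.mul_apply, ← map_mul, hinv g hg, map_one, Module.End.one_apply]
      abel
    have hU'1 : finrank (ZMod p) U' = 1 := by
      have h1 : 1 ≤ finrank (ZMod p) U' :=
        Submodule.one_le_finrank_iff.2 ((Submodule.ne_bot_iff U').2 ⟨v', hv'U, hv'0⟩)
      have h2 : U' ≠ ⊤ := fun e => by
        have h3 := e ▸ Submodule.mem_top (x := v)
        rw [hU', LinearMap.mem_ker, LinearMap.add_apply, Module.End.one_apply, hv] at h3
        have h4 : (2 : ZMod p) • v = 0 := by rw [two_smul]; exact h3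
        refine hv0 ((smul_eq_zero.1 h4).resolve_left fun h2' => hp2 ?_)
        exact (Nat.prime_dvd_prime_iff_eq hp.1 Nat.prime_two).1
          ((ZMod.natCast_eq_zero_iff 2 p).1 (by exact_mod_cast h2'))
      have := Submodule.finrank_lt h2
      omega
    have hin : ∀ s ∈ S, ρ s v ∈ U ∧ ρ s v' ∈ U' := by
      intro s hs
      constructor
      · refine (mem_fixIn ρ).2 ⟨Submodule.mem_top, ?_⟩
        rw [← Module.End.mul_apply, ← map_mul, hcomm g hg s hs, map_mul, Module.End.mul_apply, hv]
      · rw [hU', LinearMap.mem_ker, LinearMap.add_apply, Module.End.one_apply] at hv'U ⊢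
        rw [← Module.End.mul_apply, ← map_mul, hcomm g hg s hs, map_mul, Module.End.mul_apply,
          ← map_add, hv'U, map_zero]
    classical
    let φ : S → Bool × Bool := fun s => (decide (ρ (s : E) v = v), decide (ρ (s : E) v' = v'))
    have hφ : Function.Injective φ := by
      intro a b e
      simp only [φ, Prod.mk.injEq, decide_eq_decide] at e
      have key : ∀ (U₀ : Submodule (ZMod p) W), finrank (ZMod p) U₀ = 1 → ∀ x ∈ U₀, x ≠ 0 →
          (∀ s ∈ S, ρ s x ∈ U₀) → (ρ (a : E) x = x ↔ ρ (b : E) x = x) → ρ (a : E) x = ρ (b : E) x := by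
        intro U₀ h1 x hx hx0 hin' hiff
        rcases hsign U₀ h1 x hx hx0 hin' a a.2 with ha | ha
        · rw [ha, hiff.1 ha]
        · rcases hsign U₀ h1 x hx hx0 hin' b b.2 with hb | hb
          · rw [hb, hiff.2 hb]
          · rw [ha, hb]
      have h1 := key U hU1 v hvU hv0 (fun s hs => (hin s hs).1) e.1
      have h2 := key U' hU'1 v' hv'U hv'0 (fun s hs => (hin s hs).2) e.2
      have htop : Submodule.span (ZMod p) {v, v'} = ⊤ := by
        refine Submodule.eq_top_of_finrank_eq (le_antisymm (Submodule.finrank_le _) ?_)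
        rw [hd]
        have hlt : U < Submodule.span (ZMod p) {v, v'} := by
          refine lt_of_le_of_ne (fun x hx => ?_) fun e' => ?_
          · obtain ⟨c, hc⟩ := exists_smul_eq_of_finrank_eq_one hU1 (x := ⟨v, hvU⟩)
              (fun e => hv0 (congrArg Subtype.val e)) ⟨x, hx⟩
            have hc' : c • v = x := congrArg Subtype.val hc
            rw [← hc']
            exact Submodule.smul_mem _ _ (Submodule.subset_span (by simp))
          · have h3 : v' ∈ U := e' ▸ Submodule.subset_span (by simp)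
            rw [hU', LinearMap.mem_ker, LinearMap.add_apply, Module.End.one_apply,
              ((mem_fixIn ρ).1 h3).2] at hv'U
            have h4 : (2 : ZMod p) • v' = 0 := by rw [two_smul]; exact hv'U
            refine hv'0 ((smul_eq_zero.1 h4).resolve_left fun h2' => hp2 ?_)
            exact (Nat.prime_dvd_prime_iff_eq hp.1 Nat.prime_two).1
              ((ZMod.natCast_eq_zero_iff 2 p).1 (by exact_mod_cast h2'))
        have := Submodule.finrank_lt_finrank_of_lt hlt
        omega
      refine Subtype.ext (hρ (LinearMap.ext_on htop ?_))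
      rintro x (rfl | rfl)
      exacts [h1, h2]
    have := Nat.card_le_card_of_injective φ hφ
    simp at this
    omega
  · push Not at hfix
    have hle : Nat.card S ≤ 2 := by
      classical
      let φ : S → Bool := fun s => decide ((s : E) = 1)
      have hφ : Function.Injective φ := by
        intro a b e
        simp only [φ, decide_eq_decide] at e
        by_cases ha : (a : E) = 1
        · exact Subtype.ext (ha.trans (e.1 ha).symm)
        · have hb : (b : E) ≠ 1 := fun hb => ha (e.2 hb)
          refine Subtype.ext (hρ (LinearMap.ext fun x => ?_))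
          rw [hneg a a.2 (hfix a a.2 ha) x, hneg b b.2 (hfix b b.2 hb) x]
      simpa using Nat.card_le_card_of_injective φ hφ
    rcases h with h | h <;> omega

end CfsgLib.Blocks.KThree
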