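import Cfsg.Agent.Lib.Blocks.KThree.Orbit
import Cfsg.Agent.Lib.Blocks.Inflation
import Cfsg.Agent.Lib.Blocks.HarrisKnorr
import Cfsg.Agent.Lib.Blocks.CyclicMain
import Cfsg.Agent.Lib.Elementary

/-!
# Blocks with at most three height zero characters and normal defect group
-/

namespace CfsgLib.Blocks.KThree

open Cfsg CfsgLib.CharTheory CfsgLib.Blocks CfsgLib.Blocks.Inflation

set_option linter.unusedVariables false
set_option linter.style.haveILetI false
set_option linter.unusedSectionVars false

universe u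

variable {p : ℕ} {M : Ideal AlgInt} {G : Type u} [Group G] [Fintype G]

theorem inflIrr_inj (N : Subgroup G) [N.Normal] : Function.Injective (inflIrr N) := by
  intro χ χ' h
  refine Subtype.ext (funext fun c => ?_)
  obtain ⟨g, rfl⟩ := QuotientGroup.mk'_surjective N c
  exact congrFun (congrArg Subtype.val h) g

theorem dv_inflIrr (N : Subgroup G) [N.Normal] (χ : IrrCharacter (G ⧸ N)) :
    dv p (inflIrr N χ : G → ℂ) = dv p (χ : G ⧸ N → ℂ) := by
  simp only [dv, charDegree, inflIrr_apply, QuotientGroup.mk_one]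

/-- A normal defect group of a block with at most three height zero characters is cyclic. -/
theorem isCyclic_of_height_zero_le [Fact p.Prime] (hM : IsPModular p M)
    {b : Set (IrrCharacter G)} (hb : IsPBlock M b) {P : Subgroup G} [P.Normal]
    (hP : IsDefectGroup p M b P)
    (h3 : Nat.card {χ : IrrCharacter G // χ ∈ b ∧ blockHeight p b (χ : G → ℂ) = 0} ≤ 3) :
    IsCyclic P := by
  classical
  have hPp := defectGroup_isPGroup hP
  let Φ : Subgroup G := (frattini P).map P.subtype
  haveI : Φ.Normal := ConjAct.normal_of_characteristic_of_normal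
  have hΦP : Φ ≤ P := Subgroup.map_subtype_le _
  have hΦp : IsPGroup p Φ := hPp.to_le hΦP
  haveI := Fintype.ofFinite (G ⧸ Φ)
  set f := QuotientGroup.mk' Φ with hf
  set V := P.map f with hVdef
  haveI : V.Normal := Subgroup.Normal.map inferInstance f (QuotientGroup.mk'_surjective Φ)
  have hmemΦ : ∀ x : P, f (x : G) = 1 ↔ x ∈ frattini P := by
    intro x
    rw [hf, QuotientGroup.mk'_apply, QuotientGroup.eq_one_iff]
    exact ⟨fun ⟨y, hy, he⟩ => Subtype.ext he ▸ hy, fun h => ⟨x, h, rfl⟩⟩
  have hel : ∀ x ∈ V, x ^ p = 1 := by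
    rintro _ ⟨x, hx, rfl⟩
    rw [← map_pow]
    exact (hmemΦ ⟨x ^ p, pow_mem hx p⟩).2 (pow_mem_frattini_pGroup hPp ⟨x, hx⟩)
  have hab : ∀ x ∈ V, ∀ y ∈ V, x * y = y * x := by
    rintro _ ⟨x, hx, rfl⟩ _ ⟨y, hy, rfl⟩
    have h1 := (hmemΦ _).2 (commutator_le_frattini_pGroup hPp
      (Subgroup.commutator_mem_commutator (Subgroup.mem_top (⟨x, hx⟩ : P))
        (Subgroup.mem_top (⟨y, hy⟩ : P))))
    rw [← commutatorElement_eq_one_iff_mul_comm, ← map_commutatorElement]
    simpa [commutatorElement_def] using h1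
  have hcardV : Nat.card V * Nat.card Φ = Nat.card P := by
    let g : P →* G ⧸ Φ := f.comp P.subtype
    have hk : g.ker = frattini P := Subgroup.ext fun x => hmemΦ x
    have hr : g.range = V := by rw [MonoidHom.range_comp, Subgroup.range_subtype]
    have hcΦ : Nat.card Φ = Nat.card (frattini P) :=
      Subgroup.card_map_of_injective (Subgroup.subtype_injective P)
    rw [← hr, ← Subgroup.index_ker, hk, hcΦ, mul_comm, Subgroup.card_mul_index]
  -- the block of the quotient
  obtain ⟨χ₁, hχ₁⟩ := exists_inflIrr_mem Φ hM hΦp hb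
  set β := blockOf M (χ₁ : G ⧸ Φ → ℂ) with hβdef
  have hβ : IsPBlock M β := blockOf_isPBlock χ₁
  have hinfl : ∀ χ ∈ β, inflIrr Φ χ ∈ b := by
    intro χ hχ
    rw [eq_blockOf hM hb hχ₁]
    exact (sameBlock_iff_res hM _ _).2 fun g =>
      res_clv_ascend hM Φ g ((sameBlock_iff_res hM _ _).1 hχ _)
  have hmin : minDv p b ≤ minDv p β := by
    obtain ⟨χ, hχ, h⟩ := exists_height_zero hM hβ
    rw [← h, ← dv_inflIrr]
    exact minDv_le (hinfl χ hχ)
  obtain ⟨D, hD⟩ := exists_defectGroup hM hβ
  have hVD : V ≤ D := normal_le_defectGroup hM hβ (hPp.map f) hD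
  have hdle : minDv p b = minDv p β ∧ D = V := by
    have h1 : Nat.card D = p ^ blockDefect p β := card_defectGroup hM hβ hD
    have h2 : Nat.card P = p ^ blockDefect p b := card_defectGroup hM hb hP
    have h3 := congrArg (fun n : ℕ => n.factorization p) (Subgroup.card_eq_card_quotient_mul_card_subgroup Φ)
    have h4 := congrArg (fun n : ℕ => n.factorization p) hcardV
    simp only [Nat.factorization_mul Nat.card_pos.ne' Nat.card_pos.ne', Finsupp.add_apply] at h3 h4
    rw [h2, hM.1.factorization_pow, Finsupp.single_eq_same] at h4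
    have hVp : IsPGroup p V := hPp.map f
    obtain ⟨v, hv⟩ := IsPGroup.iff_card.1 hVp
    rw [hv, hM.1.factorization_pow, Finsupp.single_eq_same] at h4
    have hle : Nat.card V ≤ Nat.card D := Nat.le_of_dvd Nat.card_pos (Subgroup.card_dvd_of_le hVD)
    rw [hv, h1] at hle
    have hle' := (Nat.pow_le_pow_iff_right hM.1.one_lt).1 hle
    have h5 := minDv_le_card hM hb
    have h6 := minDv_le_card hM hβ
    rw [blockDefect_eq] at hle' h4
    refine ⟨by omega, (Subgroup.eq_of_le_of_card_ge hVD ?_).symm⟩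
    rw [hv, h1, blockDefect_eq]
    exact Nat.pow_le_pow_right hM.1.pos (by omega)
  obtain ⟨hmin', rfl⟩ := hdle
  have h0 := (reynolds hM hβ hD).1 hab
  have hβ3 : Nat.card β ≤ 3 := by
    refine le_trans (Nat.card_le_card_of_injective (fun χ => (⟨inflIrr Φ χ.1, hinfl _ χ.2,
      (height_zero_iff (hinfl _ χ.2)).2 ?_⟩ :
      {χ : IrrCharacter G // χ ∈ b ∧ blockHeight p b (χ : G → ℂ) = 0})) ?_) h3
    · rw [dv_inflIrr, (height_zero_iff χ.2).1 (h0 _ χ.2), hmin']
    · exact fun χ χ' h => Subtype.ext (inflIrr_inj Φ (congrArg Subtype.val h))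
  have hlt : Nat.card V < p ^ 2 := by
    by_contra h
    have := four_le_card_of_elementary_defect hM hβ hD hel hab (by omega)
    omega
  obtain ⟨v, hv⟩ := IsPGroup.iff_card.1 (hPp.map f : IsPGroup p V)
  have hcyc : IsCyclic V := by
    rw [hv] at hlt
    have hv1 : v < 2 := (Nat.pow_lt_pow_iff_right hM.1.one_lt).1 hlt
    interval_cases v
    · haveI : Subsingleton V := (Nat.card_eq_one_iff_unique.1 (by rw [hv, pow_zero])).1
      infer_instance
    · exact isCyclic_of_prime_card (by rw [hv, pow_one] : Nat.card V = p)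
  obtain ⟨⟨_, x, hx, rfl⟩, hgen⟩ := hcyc.exists_generator
  have htop : Subgroup.zpowers (⟨x, hx⟩ : P) ⊔ frattini P = ⊤ := by
    refine eq_top_iff.2 fun y _ => ?_
    obtain ⟨k, hk⟩ := Subgroup.mem_zpowers_iff.1 (hgen ⟨f (y : G), y, y.2, rfl⟩)
    have hk' : f x ^ k = f (y : G) := congrArg Subtype.val hk
    have h1 : ((⟨x, hx⟩ : P) ^ k)⁻¹ * y ∈ frattini P := by
      rw [← hmemΦ]
      push_cast
      rw [map_mul, map_inv, map_zpow, hk', inv_mul_cancel]
    rw [← mul_inv_cancel_left ((⟨x, hx⟩ : P) ^ k) y]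
    exact Subgroup.mul_mem_sup (zpow_mem (Subgroup.mem_zpowers _) k) h1
  refine ⟨⟨⟨x, hx⟩, fun y => ?_⟩⟩
  rw [← Subgroup.mem_zpowers_iff, frattini_nongenerating htop]
  exact Subgroup.mem_top y

/-- A block with a cyclic defect group and three irreducible characters has defect group of order
three. -/
theorem card_eq_three_of_cyclic [Fact p.Prime] (hM : IsPModular p M) {B : Set (IrrCharacter G)}
    (hB : IsPBlock M B) {D : Subgroup G} (hD : IsDefectGroup p M B D) (hcyc : IsCyclic D)
    (hk : Nat.card B = 3) : Nat.card D = 3 := by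
  classical
  have hcard := card_defectGroup hM hB hD
  rcases Nat.eq_zero_or_pos (blockDefect p B) with h0 | ha
  · exfalso
    obtain ⟨χ, hχ, hmin⟩ := exists_height_zero hM hB
    have h1 : dv p (χ : G → ℂ) = (Nat.card G).factorization p := by
      have := minDv_le_card hM hB
      rw [blockDefect_eq] at h0
      omega
    have h2 : B = {χ} := (eq_blockOf hM hB hχ).trans ((defect_zero_iff hM χ).1 h1)
    rw [h2] at hk
    simp at hk
  · obtain ⟨c, hmax⟩ := exists_maximal_at hM hB hD
    haveI := Fintype.ofFinite (Subgroup.centralizer (D : Set G))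
    have hind := (induced_centralizer_iff hM (defectGroup_isPGroup hD)).2 hmax.1
    have h := cycData_of_defect hM hD hind hcyc hcard ha
    haveI : Finite (↥D →* ℂˣ) := finite_linearChars D
    haveI : Fintype (↥D →* ℂˣ) := Fintype.ofFinite _
    obtain ⟨s, m, ζ, δ, α, X, Y, hV, hS⟩ := h.exists_full
    have hB' : (B : Set (IrrCharacter G)) = ↑(X ∪ Y) := by ext χ; simp [hS.union χ]
    rw [hB', Nat.card_coe_set_eq, Set.ncard_coe_finset, Finset.card_union_of_disjoint hS.disj,
      hS.cardX] at hk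
    have hY := hS.cardY
    have he := h.index_pos
    have hp := Nat.one_lt_pow ha.ne' hM.1.one_lt
    rw [hcard]
    have he3 : cycIndex D c ≤ 3 := by omega
    interval_cases hh : cycIndex D c <;> omega

end CfsgLib.Blocks.KThree
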