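import Cfsg.Agent.Lib.Blocks.KThree.TwoOrbit
import Cfsg.Agent.Lib.Blocks.KThree.Model81

/-!
# The exceptional configuration on 81 vectors does not occur
-/

namespace CfsgLib.Blocks.KThree

open Module Model

set_option linter.unusedVariables false
set_option linter.style.haveILetI false
set_option linter.unusedSectionVars false

universe u v

theorem eighty_one_exponent {a : ℕ} (h6 : 64 ∣ 2 ^ a) (hsq : IsSquare (2 ^ a)) (h : 2 ^ a ∣ 2 ^ 9) :
    2 ^ a = 64 ∨ 2 ^ a = 256 := by
  have ha9 : a ≤ 9 := (Nat.pow_dvd_pow_iff_le_right (by norm_num)).1 h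
  have ha6 : 6 ≤ a := (Nat.pow_dvd_pow_iff_le_right (x := 2) (by norm_num)).1 (by
    rw [show (64 : ℕ) = 2 ^ 6 by norm_num] at h6; exact h6)
  obtain ⟨c, hc⟩ := hsq
  interval_cases a
  · exact Or.inl rfl
  · exfalso
    norm_num at hc
    have hcb : c < 12 := by nlinarith
    interval_cases c <;> omega
  · exact Or.inr rfl
  · exfalso
    norm_num at hc
    have hcb : c < 23 := by nlinarith
    interval_cases c <;> omega

variable {W : Type v} [AddCommGroup W] [Finite W] [Module (ZMod 3) W]
  {E : Type u} [Group E] [Finite E] {ρ : Representation (ZMod 3) E W} {l : W → ℕ}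

theorem exists_model (hρ : Function.Injective ρ) (hd : finrank (ZMod 3) W = 4)
    (hE : IsPGroup 2 E) :
    ∃ (e : E →* P) (φ : W ≃ₗ[ZMod 3] F2 × F2), Function.Injective e ∧
      ∀ g w, φ (ρ g w) = (e g).act (φ w) := by
  classical
  haveI := Fact.mk Nat.prime_two
  haveI : Finite (Module.End (ZMod 3) (F2 × F2)) := Finite.of_injective _ DFunLike.coe_injective
  have hd' : finrank (ZMod 3) (F2 × F2) = 4 := by simp
  let φ₀ : W ≃ₗ[ZMod 3] F2 × F2 := LinearEquiv.ofFinrankEq _ _ (hd.trans hd'.symm)
  let f : E →* (Module.End (ZMod 3) (F2 × F2))ˣ :=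
    (φ₀.conjAlgEquiv (ZMod 3)).toMulEquiv.toMonoidHom.comp ρ |>.toHomUnits
  have hf : Function.Injective f := fun a b h =>
    hρ ((φ₀.conjAlgEquiv (ZMod 3)).injective (congrArg Units.val h))
  let j : P →* (Module.End (ZMod 3) (F2 × F2))ˣ := repr.toHomUnits
  have hj : Function.Injective j := fun a b h => repr_injective (congrArg Units.val h)
  have hcard : Nat.card (Module.End (ZMod 3) (F2 × F2))ˣ = 3 ^ 6 * (2 ^ 9 * 65) := by
    rw [← Nat.card_congr (Matrix.GeneralLinearGroup.toLin'
      (Module.finBasisOfFinrankEq (ZMod 3) (F2 × F2) hd')).toEquiv, Matrix.card_GL_field]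
    simp [Fin.prod_univ_four, ZMod.card]
  have hjc : Nat.card j.range = 2 ^ (Nat.card (Module.End (ZMod 3) (F2 × F2))ˣ).factorization 2 := by
    rw [show Nat.card j.range = Nat.card P from Nat.card_congr (MonoidHom.ofInjective hj).toEquiv.symm,
      card_P, hcard, Nat.factorization_mul (by norm_num) (by norm_num),
      Nat.factorization_mul (by norm_num) (by norm_num), Finsupp.add_apply, Finsupp.add_apply,
      Nat.Prime.factorization_pow Nat.prime_two, Finsupp.single_eq_same,
      Nat.factorization_eq_zero_of_not_dvd (show ¬ 2 ∣ 3 ^ 6 by norm_num),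
      Nat.factorization_eq_zero_of_not_dvd (show ¬ 2 ∣ 65 by norm_num)]
    all_goals norm_num
  let S : Sylow 2 (Module.End (ZMod 3) (F2 × F2))ˣ := Sylow.ofCard j.range hjc
  obtain ⟨S', hS'⟩ := (IsPGroup.of_surjective hE f.rangeRestrict f.rangeRestrict_surjective).exists_le_sylow
  obtain ⟨g, hg⟩ := MulAction.exists_smul_eq (Module.End (ZMod 3) (F2 × F2))ˣ S' S
  have hmem : ∀ x : E, g * f x * g⁻¹ ∈ j.range := by
    intro x
    have h1 : g * f x * g⁻¹ ∈ ((g • S' : Sylow 2 _) : Subgroup (Module.End (ZMod 3) (F2 × F2))ˣ) :=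
      ⟨f x, hS' ⟨x, rfl⟩, rfl⟩
    rw [hg] at h1
    exact h1
  let f' : E →* j.range :=
    { toFun := fun x => ⟨g * f x * g⁻¹, hmem x⟩
      map_one' := Subtype.ext (by simp)
      map_mul' := fun a b => Subtype.ext (by simp [mul_assoc]) }
  let gl : (F2 × F2) ≃ₗ[ZMod 3] F2 × F2 := LinearMap.GeneralLinearGroup.generalLinearEquiv _ _ g
  refine ⟨(MonoidHom.ofInjective hj).symm.toMonoidHom.comp f', φ₀.trans gl, ?_, ?_⟩
  · intro a b h
    have h1 := congrArg Subtype.val ((MonoidHom.ofInjective hj).symm.injective h)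
    exact hf (mul_left_cancel (mul_right_cancel h1))
  · intro x w
    have h1 : j ((MonoidHom.ofInjective hj).symm (f' x)) = g * f x * g⁻¹ :=
      congrArg Subtype.val ((MonoidHom.ofInjective hj).apply_symm_apply (f' x))
    have h2 := LinearMap.congr_fun (congrArg Units.val h1) ((φ₀.trans gl) w)
    refine Eq.trans ?_ h2.symm
    show gl (φ₀ (ρ x w)) = (g.val * (f x).val * g⁻¹.val) (gl (φ₀ w))
    have h3 : g⁻¹.val (gl (φ₀ w)) = φ₀ w := by
      show (g⁻¹.val * g.val) (φ₀ w) = φ₀ w
      rw [Units.inv_mul, Module.End.one_apply]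
    rw [Module.End.mul_apply, Module.End.mul_apply, h3]
    show gl (φ₀ (ρ x w)) = gl (φ₀ (ρ x (φ₀.symm (φ₀ w))))
    rw [LinearEquiv.symm_apply_apply]

theorem mem_range_iff_stab {e : E →* P} {φ : W ≃ₗ[ZMod 3] F2 × F2}
    (he : ∀ g w, φ (ρ g w) = (e g).act (φ w)) (g : E) (v : F2 × F2) :
    g ∈ stab ρ (φ.symm v) ↔ (e g).act v = v := by
  rw [mem_stab, ← φ.injective.eq_iff, he, LinearEquiv.apply_symm_apply]

/-- The exceptional configuration does not occur. -/
theorem Small.false_81 (h : Small ρ l) (hd : finrank (ZMod 3) W = 4) {v₁ v₂ : W} (hv1 : v₁ ≠ 0)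
    (hv2 : v₂ ≠ 0) (hne : v₂ ∉ orb ρ v₁)
    (hall : ∀ w : W, w ≠ 0 → w ∈ orb ρ v₁ ∨ w ∈ orb ρ v₂)
    (hm1 : Nat.card (orb ρ v₁) = 16) (hm2 : Nat.card (orb ρ v₂) = 64) : False := by
  classical
  have h1 := h.eq_one_of_two hv1 hv2 hne hall
  obtain ⟨hEdvd, hEsq⟩ : Nat.card E ∣ 3 ^ 6 * (2 ^ 9 * 65) ∧ IsSquare (Nat.card E) := by
    refine ⟨?_, ?_⟩
    · have := card_dvd_GL ρ h.faithful
      rw [hd, Matrix.card_GL_field] at this
      simpa [Fin.prod_univ_four, ZMod.card] using this
    · have := h.square 0 (h1 0)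
      rwa [stab_zero, Subgroup.card_top] at this
  have hE65 : Nat.card E ∣ 2 ^ 9 * 65 := by
    refine Nat.Coprime.dvd_of_dvd_mul_left ?_ hEdvd
    exact ((Nat.prime_three.coprime_iff_not_dvd.2 h.coprime).pow_left 6).symm
  obtain ⟨c, hc⟩ := hEsq
  have hnot : ∀ q, q.Prime → q ∣ 65 → ¬ q ^ 2 ∣ 2 ^ 9 * 65 → ¬ q ∣ Nat.card E := by
    intro q hq _ h2 hd'
    have : q ∣ c := (hq.dvd_mul.1 (hc ▸ hd')).elim id id
    exact h2 ((by rw [hc, pow_two]; exact mul_dvd_mul this this : q ^ 2 ∣ Nat.card E).trans hE65)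
  have h2E : Nat.card E ∣ 2 ^ 9 := by
    refine Nat.Coprime.dvd_of_dvd_mul_right ?_ hE65
    rw [show (65 : ℕ) = 5 * 13 by norm_num]
    exact Nat.Coprime.mul_right
      ((Nat.Prime.coprime_iff_not_dvd (by norm_num)).2 (hnot 5 (by norm_num) (by norm_num) (by norm_num))).symm
      ((Nat.Prime.coprime_iff_not_dvd (by norm_num)).2 (hnot 13 (by norm_num) (by norm_num) (by norm_num))).symm
  obtain ⟨a, -, ha⟩ := (Nat.dvd_prime_pow Nat.prime_two).1 h2E
  haveI := Fact.mk Nat.prime_two
  have hE2 : IsPGroup 2 E := IsPGroup.of_card ha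
  have hE64 : 64 ∣ Nat.card E := hm2 ▸ ⟨_, (card_orb_mul ρ v₂).symm⟩
  have hcases : Nat.card E = 64 ∨ Nat.card E = 256 := by
    rw [ha] at hE64 ⊢
    exact eighty_one_exponent hE64 ⟨c, ha ▸ hc⟩ (ha ▸ h2E)
  obtain ⟨e, φ, he, hφ⟩ := exists_model h.faithful hd hE2
  -- the orbit of an axis vector is the small one
  set w := φ.symm w₀ with hw
  have hw0 : w ≠ 0 := by
    rw [hw, Ne, LinearEquiv.map_eq_zero_iff]
    decide
  have haxis : ∀ x, x ∈ orb ρ w → OnAxis (φ x) := by
    rintro _ ⟨g, rfl⟩
    show OnAxis (φ (ρ g w))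
    rw [hφ, P.onAxis_iff, hw, LinearEquiv.apply_symm_apply]
    exact Or.inr rfl
  have hle : Nat.card (orb ρ w) ≤ 18 := by
    let t : orb ρ w → Fin 2 × F2 := fun x => if (φ x.1).2 = 0 then (0, (φ x.1).1) else (1, (φ x.1).2)
    have ht : Function.Injective t := by
      intro x y e
      refine Subtype.ext (φ.injective ?_)
      rcases haxis x x.2 with hx | hx <;> rcases haxis y y.2 with hy | hy <;>
        by_cases hx' : (φ x.1).2 = 0 <;> by_cases hy' : (φ y.1).2 = 0 <;>
        simp [t, hx', hy'] at e <;> exact Prod.ext (by simp_all) (by simp_all)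
    simpa using Nat.card_le_card_of_injective t ht
  have hw1 : w ∈ orb ρ v₁ := (hall w hw0).resolve_right fun hh => by
    rw [orb_eq_of_mem ρ hh, hm2] at hle
    omega
  have hwc : Nat.card (stab ρ w) * 16 = Nat.card E := by
    rw [card_stab_eq ρ hw1, ← hm1, mul_comm, card_orb_mul]
  have hgen : ∀ v : F2 × F2, ¬ OnAxis v → Nat.card (stab ρ (φ.symm v)) * 64 = Nat.card E := by
    intro v hv
    have hv0 : φ.symm v ≠ 0 := by
      rw [Ne, LinearEquiv.map_eq_zero_iff]
      rintro rfl
      exact hv (Or.inl rfl)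
    have hh : φ.symm v ∈ orb ρ v₂ := (hall _ hv0).resolve_left fun hh => hv (by
      have := haxis (φ.symm v) (orb_eq_of_mem ρ hw1 ▸ hh)
      rwa [LinearEquiv.apply_symm_apply] at this)
    rw [card_stab_eq ρ hh, ← hm2, mul_comm, card_orb_mul]
  have hgood : ∀ (x : W) (y : E), y ∈ stab ρ x → y ≠ 1 →
      (∀ z ∈ stab ρ x, z * y = y * z → z ∈ Subgroup.zpowers y) → False := by
    intro x y hy hy1 hcent
    have hg : GoodAt (stab ρ x) y := good_of_cent hy (isCyclic_le (fun z hz =>
      hcent z hz.1 (Subgroup.mem_centralizer_singleton_iff.1 hz.2)) inferInstance)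
    have := h.two_le_of_good hg hy1
    rw [h1] at this
    omega
  rcases hcases with h64 | h256
  · have hst4 : Nat.card (stab ρ w) = 4 := by omega
    have hfree : ∀ g : E, g ≠ 1 → ∀ v : F2 × F2, ¬ OnAxis v → (e g).act v ≠ v := by
      intro g hg v hv hgv
      have h1' : Nat.card (stab ρ (φ.symm v)) = 1 := by have := hgen v hv; omega
      exact hg (Subgroup.mem_bot.1 ((Subgroup.card_eq_one.1 h1') ▸
        ((mem_range_iff_stab hφ g v).2 hgv)))
    have hinvol : ∀ g ∈ stab ρ w, g * g = 1 := by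
      intro g hg
      by_contra hne
      have ho : orderOf (⟨g, hg⟩ : stab ρ w) ∣ 2 ^ 2 := by
        rw [show 2 ^ 2 = Nat.card (stab ρ w) by rw [hst4]; norm_num]
        exact orderOf_dvd_natCard _
      obtain ⟨k, hk, hk'⟩ := (Nat.dvd_prime_pow Nat.prime_two).1 ho
      rw [Subgroup.orderOf_mk] at hk'
      have hk2 : k = 2 := by
        by_contra hk2
        refine hne ?_
        rw [← pow_two]
        exact orderOf_dvd_iff_pow_eq_one.1 (hk' ▸ (pow_dvd_pow 2 (by omega : k ≤ 1)).trans (pow_one 2).dvd)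
      subst hk2
      refine hgood w g hg (fun e1 => hne (by rw [e1, one_mul])) fun z hz _ => ?_
      have : Subgroup.zpowers g = stab ρ w := Subgroup.eq_of_le_of_card_ge (Subgroup.zpowers_le.2 hg)
        (by rw [Nat.card_zpowers, hk', hst4]; norm_num)
      rwa [this]
    haveI : Nontrivial (stab ρ w) := Finite.one_lt_card_iff_nontrivial.1 (by omega)
    obtain ⟨⟨g, hg⟩, hg1⟩ := exists_ne (1 : stab ρ w)
    obtain ⟨g', hg', hg'1, hg'g⟩ : ∃ g' ∈ stab ρ w, g' ≠ 1 ∧ g' ≠ g := by
      by_contra hcon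
      push Not at hcon
      have hle2 : Nat.card (stab ρ w) ≤ 2 := by
        let t : stab ρ w → Bool := fun z => decide ((z : E) = 1)
        have ht : Function.Injective t := by
          intro a b e'
          simp only [t, decide_eq_decide] at e'
          by_cases ha : (a : E) = 1
          · exact Subtype.ext (ha.trans (e'.1 ha).symm)
          · exact Subtype.ext ((hcon a a.2 ha).trans (hcon b b.2 (fun hb => ha (e'.2 hb))).symm)
        simpa using Nat.card_le_card_of_injective t ht
      omega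
    have hg1' : g ≠ 1 := fun e1 => hg1 (Subtype.ext e1)
    refine hg'g (he (Model.eq_of_semiregular ?_ ?_ ?_ ?_ (hfree g hg1') (hfree g' hg'1) ?_)).symm
    · exact (mem_range_iff_stab hφ g w₀).1 hg
    · exact (mem_range_iff_stab hφ g' w₀).1 hg'
    · rw [← map_mul, hinvol g hg, map_one]
    · rw [← map_mul, hinvol g' hg', map_one]
    · by_cases hgg : g * g' = 1
      · exact Or.inl (by rw [← map_mul, hgg, map_one])
      · exact Or.inr (by rw [← map_mul]; exact hfree _ hgg)
  · set K := e.range with hK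
    have hKi : K.index = 2 := by
      have h2 := K.card_mul_index
      rw [show Nat.card K = Nat.card E from Nat.card_congr (MonoidHom.ofInjective he).toEquiv.symm,
        h256, card_P] at h2
      norm_num at h2
      omega
    haveI := Subgroup.normal_of_index_eq_two hKi
    have hxor : ∀ a b : P, a * b ∈ K ↔ (a ∈ K ↔ b ∈ K) := fun a b =>
      Subgroup.mul_mem_iff_of_index_two hKi
    have hconj : ∀ a : P, sigma * a * sigma⁻¹ ∈ K ↔ a ∈ K := fun a => by
      refine ⟨fun hh => ?_, fun hh => ‹K.Normal›.conj_mem _ hh _⟩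
      have := ‹K.Normal›.conj_mem _ hh sigma⁻¹
      simpa [mul_assoc] using this
    have hst16 : Nat.card (stab ρ w) = 16 := by omega
    by_cases hR : R1 ∈ K
    · have hR2 : R2 ∈ K := by rw [R2_eq, hconj]; exact hR
      by_cases hσ : sigma ∈ K
      · have h4 : Nat.card (stab ρ (φ.symm g₀)) = 4 := by
          have := hgen g₀ (fun hh => hh.elim (by decide) (by decide))
          omega
        obtain ⟨hf1, hf2, hf3, hf4, hnd⟩ := five_fix
        have hmemK : ∀ x ∈ [1, R1, R2, R1 * R2, sigma], x ∈ K ∧ x.act g₀ = g₀ := by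
          intro x hx
          simp only [List.mem_cons, List.not_mem_nil, or_false] at hx
          rcases hx with rfl | rfl | rfl | rfl | rfl
          exacts [⟨K.one_mem, P.act_one _⟩, ⟨hR, hf1⟩, ⟨hR2, hf2⟩, ⟨K.mul_mem hR hR2, hf3⟩, ⟨hσ, hf4⟩]
        choose! pre hpre using fun x (hx : x ∈ [1, R1, R2, R1 * R2, sigma]) => (hmemK x hx).1
        have hmemi : ∀ i : Fin 5, ([1, R1, R2, R1 * R2, sigma] : List P).get i ∈ [1, R1, R2, R1 * R2, sigma] :=
          fun i => List.get_mem _ _
        let t : Fin 5 → stab ρ (φ.symm g₀) := fun i =>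
          ⟨pre (([1, R1, R2, R1 * R2, sigma] : List P).get i),
            (mem_range_iff_stab hφ _ _).2 (by
              rw [hpre _ (hmemi i)]
              exact (hmemK _ (hmemi i)).2)⟩
        have ht : Function.Injective t := fun i j hij => by
          have := congrArg (fun z : stab ρ (φ.symm g₀) => e z) hij
          simp only [t] at this
          rw [hpre _ (hmemi i), hpre _ (hmemi j)] at this
          exact List.nodup_iff_injective_get.1 hnd this
        have := Nat.card_le_card_of_injective t ht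
        rw [Nat.card_fin, h4] at this
        omega
      · by_cases hA : A1 ∈ K
        · -- the whole base lies in `K`
          have hA2 : A2 ∈ K := by rw [A2_eq, hconj]; exact hA
          let incl : SD →* P :=
            { toFun := fun b => ⟨1, b, false⟩
              map_one' := rfl
              map_mul' := fun a b => by simp [P.mul_def, P.mul'] }
          have hgenSD : ∀ b : SD, ∃ i : Fin 8, ∃ j : Bool, b = cc ^ i.val * rr ^ (cond j 1 0) := by
            decide +kernel
          have hb : ∀ b : SD, (⟨1, b, false⟩ : P) ∈ K := by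
            intro b
            obtain ⟨i, j, rfl⟩ := hgenSD b
            show incl _ ∈ K
            rw [map_mul, map_pow, map_pow]
            exact K.mul_mem (K.pow_mem hA2 _) (K.pow_mem hR2 _)
          have hall' : ∀ b : SD, ∀ ε : Bool, ∃ g : E, e g = ⟨if ε then rr else 1, b, false⟩ := by
            intro b ε
            cases ε
            · exact hb b
            · have := K.mul_mem hR (hb b)
              have h' : (⟨rr, b, false⟩ : P) ∈ K := by simpa [R1, P.mul_def, P.mul'] using this
              exact h'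
          choose pre hpre using hall'
          let t : SD × Bool → stab ρ w := fun x => ⟨pre x.1 x.2,
            (mem_range_iff_stab hφ _ _).2 (by rw [hpre]; exact stab_w₀_base _ _)⟩
          have ht : Function.Injective t := fun x y hxy => by
            have := congrArg (fun z : stab ρ w => e z) hxy
            simp only [t, hpre, P.mk.injEq] at this
            refine Prod.ext this.2.1 ?_
            have h3 := this.1
            revert h3
            cases x.2 <;> cases y.2 <;> decide
          have := Nat.card_le_card_of_injective t ht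
          rw [Nat.card_prod, hst16, Nat.card_eq_fintype_card, card_SD] at this
          simp at this
        · obtain ⟨y, hy⟩ : tau ∈ K := by rw [tau_eq, hxor]; exact iff_of_false hA hσ
          refine hgood 0 y (mem_stab_zero y) (fun hy1 => tau_ne (by rw [← hy, hy1, map_one]))
            fun z _ hz => ?_
          obtain ⟨k, hk⟩ := cent_tau (e z) (by rw [← hy, ← map_mul, ← map_mul, hz])
          rw [← hy, ← map_pow] at hk
          exact he hk ▸ (Subgroup.zpowers y).pow_mem (Subgroup.mem_zpowers y) _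
    · have key : ∀ y₀ : P, y₀ ∈ K → y₀.act w₀ = w₀ → y₀ ≠ 1 →
          (∀ x : P, x.act w₀ = w₀ → x * y₀ = y₀ * x → ∃ k : Fin 8, x = y₀ ^ k.val ∨ x = y₀ ^ k.val * R1) →
          False := by
        rintro _ ⟨y, rfl⟩ hfix hne hcent
        refine hgood w y ((mem_range_iff_stab hφ y w₀).2 hfix) (fun hy1 => hne (by rw [hy1, map_one]))
          fun z hz hzy => ?_
        obtain ⟨k, hk | hk⟩ := hcent (e z) ((mem_range_iff_stab hφ z w₀).1 hz)
          (by rw [← map_mul, ← map_mul, hzy])
        · rw [← map_pow] at hk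
          exact he hk ▸ (Subgroup.zpowers y).pow_mem (Subgroup.mem_zpowers y) _
        · exfalso
          apply hR
          have hR' : R1 = (e y ^ k.val)⁻¹ * e z := by rw [hk, inv_mul_cancel_left]
          rw [hR']
          exact K.mul_mem (K.inv_mem (K.pow_mem ⟨y, rfl⟩ _)) ⟨z, rfl⟩
      obtain ⟨hw1', hw2', hA2ne, hRA2ne⟩ := fix_w₀
      by_cases hA : A1 ∈ K
      · exact key A2 (by rw [A2_eq, hconj]; exact hA) hw1' hA2ne cent_A2
      · exact key (R1 * A2) (by
          rw [hxor]; exact iff_of_false hR (by rw [A2_eq, hconj]; exact hA)) hw2' hRA2ne cent_RA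

/-- No configuration with at most three characters. -/
theorem Small.false_of_small {p : ℕ} [hp : Fact p.Prime] {W : Type v} [AddCommGroup W] [Finite W]
    [Module (ZMod p) W] {E : Type u} [Group E] [Finite E] {ρ : Representation (ZMod p) E W}
    {l : W → ℕ} (h : Small ρ l) (hp2 : p ≠ 2) (hn : 2 ≤ finrank (ZMod p) W) : False := by
  classical
  haveI : Nontrivial W := Module.nontrivial_of_finrank_pos (R := ZMod p) (by omega)
  obtain ⟨v₁, hv1⟩ := exists_ne (0 : W)
  by_cases htr : ∀ w : W, w ≠ 0 → w ∈ orb ρ v₁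
  · exact h.not_transitive hp2 hn hv1 htr
  push Not at htr
  obtain ⟨v₂, hv2, hne⟩ := htr
  have hall : ∀ w : W, w ≠ 0 → w ∈ orb ρ v₁ ∨ w ∈ orb ρ v₂ := by
    intro w hw
    by_contra hcon
    push Not at hcon
    have h4 := h.three {0, v₁, v₂, w} (fun a ha b hb hab g e => by
      simp only [Finset.mem_insert, Finset.mem_singleton] at ha hb
      have hz : ∀ v : W, v ≠ 0 → ρ g v ≠ 0 := fun v hv => ne_zero_of_mem_orb (ρ := ρ) hv ⟨g, rfl⟩
      rcases ha with rfl | rfl | rfl | rfl <;> rcases hb with rfl | rfl | rfl | rfl <;>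
        first
        | exact hab rfl
        | exact hz _ hv1 e
        | exact hz _ hv2 e
        | exact hz _ hw e
        | exact hv1 (by rw [← e, map_zero])
        | exact hv2 (by rw [← e, map_zero])
        | exact hw (by rw [← e, map_zero])
        | exact hne ⟨g, e⟩
        | exact hcon.1 ⟨g, e⟩
        | exact hcon.2 ⟨g, e⟩
        | exact not_mem_orb_comm hne ⟨g, e⟩
        | exact not_mem_orb_comm hcon.1 ⟨g, e⟩
        | exact not_mem_orb_comm hcon.2 ⟨g, e⟩)
    rw [Finset.sum_insert (by simp [Ne.symm hv1, Ne.symm hv2, Ne.symm hw]),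
      Finset.sum_insert (by simp only [Finset.mem_insert, Finset.mem_singleton, not_or]
                            exact ⟨fun e' => hne (e' ▸ mem_orb_self ρ v₁), fun e' => hcon.1 (e' ▸ mem_orb_self ρ v₁)⟩),
      Finset.sum_pair (fun e' : v₂ = w => hcon.2 (e' ▸ mem_orb_self ρ v₂))] at h4
    have := h.pos 0
    have := h.pos v₁
    have := h.pos v₂
    have := h.pos w
    omega
  obtain ⟨rfl, hd, hm | hm⟩ := h.two_orbit_exception hp2 hn hv1 hv2 hne hall
  · exact h.false_81 hd hv1 hv2 hne hall hm.1 hm.2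
  · exact h.false_81 hd hv2 hv1 (not_mem_orb_comm hne) (fun w hw => (hall w hw).symm) hm.2 hm.1

end CfsgLib.Blocks.KThree
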