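import Cfsg.Agent.Lib.Blocks.KThree.Plane

/-!
# No transitive configuration
-/

namespace CfsgLib.Blocks.KThree

open Module

set_option linter.unusedVariables false
set_option linter.style.haveILetI false
set_option linter.unusedSectionVars false

universe u v

variable {p : ℕ} [hp : Fact p.Prime] {W : Type v} [AddCommGroup W] [Finite W] [Module (ZMod p) W]
  {E : Type u} [Group E] [Finite E] {ρ : Representation (ZMod p) E W} {l : W → ℕ}

theorem card_orb_transitive [Nontrivial W] {v : W} (hv : v ≠ 0)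
    (htr : ∀ w : W, w ≠ 0 → w ∈ orb ρ v) :
    Nat.card (orb ρ v) = p ^ finrank (ZMod p) W - 1 := by
  classical
  haveI := Fintype.ofFinite W
  have : orb ρ v = {w : W | w ≠ 0} := by
    ext w
    refine ⟨?_, htr w⟩
    rintro ⟨g, rfl⟩ h0
    apply hv
    have h1 : ρ g⁻¹ (ρ g v) = 0 := by rw [show ρ g v = 0 from h0, map_zero]
    rwa [← Module.End.mul_apply, ← map_mul, inv_mul_cancel, map_one, Module.End.one_apply] at h1
  rw [this, Set.coe_setOf, Nat.card_eq_fintype_card, Fintype.card_subtype_compl,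
    Fintype.card_subtype_eq, ← Nat.card_eq_fintype_card,
    Module.natCard_eq_pow_finrank (K := ZMod p), Nat.card_zmod]

theorem Small.sum_le_transitive [Nontrivial W] (h : Small ρ l) {v : W} (hv : v ≠ 0) :
    l 0 + l v ≤ 3 := by
  classical
  have := h.three {0, v} (fun a ha b hb hne g e => by
    simp only [Finset.mem_insert, Finset.mem_singleton] at ha hb
    rcases ha with rfl | rfl <;> rcases hb with rfl | rfl
    · exact hne rfl
    · exact hv (by rw [← e, map_zero])
    · have h1 : ρ g⁻¹ (ρ g a) = 0 := by rw [e, map_zero]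
      rw [← Module.End.mul_apply, ← map_mul, inv_mul_cancel, map_one, Module.End.one_apply] at h1
      exact hv h1
    · exact hne rfl)
  rwa [Finset.sum_pair (Ne.symm hv)] at this

theorem mem_stab_zero (g : E) : g ∈ stab ρ (0 : W) := map_zero (ρ g)

/-- In the transitive case an element of primitive prime order generates its centralizer. -/
theorem Small.centralizer_of_ppd [Nontrivial W] (h : Small ρ l) {v : W} (hv : v ≠ 0)
    {r : ℕ} (hr : PPD r p (finrank (ZMod p) W)) {x : E} (hx : orderOf x = r) :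
    Nat.card (Subgroup.centralizer ({x} : Set E)) = r ∧ r - 1 ≤ finrank (ZMod p) W := by
  classical
  have hsum := h.sum_le_transitive hv
  have hlv := h.pos v
  have hir := irred_of_ppd ρ h.faithful hr hx
  have hx1 : x ≠ 1 := fun e => by rw [e, orderOf_one] at hx; exact hr.prime.ne_one hx.symm
  have hxg : GoodAt (stab ρ (0 : W)) x := good_of_irred h.faithful (mem_stab_zero (ρ := ρ) x) hir
  have hcyc := isCyclic_centralizer ρ h.faithful hir
  obtain ⟨w, hw⟩ := (Subgroup.isCyclic_iff_exists_zpowers_eq_top _).1 hcyc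
  have hxw : x ∈ Subgroup.zpowers w := hw ▸ Subgroup.mem_centralizer_singleton_iff.2 rfl
  have hgood : ∀ y, x ∈ Subgroup.zpowers y → GoodAt (stab ρ (0 : W)) y := fun y hy =>
    good_of_cent (mem_stab_zero (ρ := ρ) y)
      (isCyclic_le (inf_le_right.trans (centralizer_le_of_mem_zpowers hy)) hcyc)
  have hconj : ∀ y, y ≠ 1 → x ∈ Subgroup.zpowers y → IsConj x y := by
    intro y hy1 hy
    by_contra hne
    have := h.three_le_of_good (hgood y hy) hxg hy1 hx1 (fun e => hne (e ▸ IsConj.refl x))
      (fun g _ e => hne (isConj_iff.2 ⟨g, e⟩))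
    omega
  have hwo : orderOf w = r := by
    have h1 := hconj w (fun e => hx1 (by rw [e, Subgroup.zpowers_one_eq_bot] at hxw; exact hxw)) hxw
    obtain ⟨g, hg⟩ := isConj_iff.1 h1
    rw [← hg, orderOf_conj_eq, hx]
  refine ⟨by rw [← hw, Nat.card_zpowers, hwo], ?_⟩
  have := card_conj_powers_le ρ h.faithful hir (Finset.Ico 1 r) (fun j hj => by
    rw [hx]; exact (Finset.mem_Ico.1 hj).2) (fun j hj => by
    obtain ⟨hj1, hj2⟩ := Finset.mem_Ico.1 hj
    have hne : x ^ j ≠ 1 := fun e => by
      have h1 := orderOf_dvd_of_pow_eq_one e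
      rw [hx] at h1
      exact absurd (Nat.le_of_dvd hj1 h1) (by omega)
    refine hconj _ hne ?_
    have heq : Subgroup.zpowers (x ^ j) = Subgroup.zpowers x := by
      refine Subgroup.eq_of_le_of_card_ge (Subgroup.zpowers_le.2
        ((Subgroup.zpowers x).pow_mem (Subgroup.mem_zpowers x) j)) ?_
      rw [Nat.card_zpowers, Nat.card_zpowers, hx, orderOf_pow, hx]
      have hco : Nat.gcd r j = 1 := (hr.prime.coprime_iff_not_dvd.2
        (Nat.not_dvd_of_pos_of_lt hj1 hj2))
      rw [hco, Nat.div_one]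
    exact heq ▸ Subgroup.mem_zpowers x)
  simpa using this

/-- No primitive prime with the square dividing the order. -/
theorem Small.not_sq_dvd [Nontrivial W] (h : Small ρ l) {v : W} (hv : v ≠ 0)
    {r : ℕ} (hr : PPD r p (finrank (ZMod p) W)) : ¬ r ^ 2 ∣ Nat.card E := by
  intro hd
  haveI := Fact.mk hr.prime
  obtain ⟨P⟩ : Nonempty (Sylow r E) := inferInstance
  have hPd : r ^ 2 ∣ Nat.card P := P.pow_dvd_card_of_pow_dvd_card hd
  haveI : Nontrivial P := Finite.one_lt_card_iff_nontrivial.1 (lt_of_lt_of_le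
    (Nat.one_lt_pow (by norm_num) hr.prime.one_lt) (Nat.le_of_dvd Nat.card_pos hPd))
  haveI := P.2.center_nontrivial
  obtain ⟨x, hx⟩ := exists_prime_orderOf_dvd_card' (G := Subgroup.center P) r (by
    obtain ⟨j, hj0, hj⟩ := ((P.2.to_subgroup (Subgroup.center (P : Subgroup E))).nontrivial_iff_card).1
      inferInstance
    exact hj ▸ dvd_pow_self r hj0.ne')
  have hxo : orderOf ((x : P) : E) = r := by rw [Subgroup.orderOf_coe, Subgroup.orderOf_coe, hx]
  have hc := (h.centralizer_of_ppd hv hr hxo).1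
  have hle : (P : Subgroup E) ≤ Subgroup.centralizer ({((x : P) : E)} : Set E) := fun g hg =>
    Subgroup.mem_centralizer_singleton_iff.2
      (congrArg Subtype.val (Subgroup.mem_center_iff.1 x.2 ⟨g, hg⟩))
  have h1 := Nat.le_of_dvd hr.prime.pos (hc ▸ hPd.trans (Subgroup.card_dvd_of_le hle))
  nlinarith [hr.prime.two_le, sq r]

/-- Minus the identity excludes a primitive prime. -/
theorem Small.not_neg [Nontrivial W] (h : Small ρ l) (hp2 : p ≠ 2) {v : W} (hv : v ≠ 0)
    {r : ℕ} (hr : PPD r p (finrank (ZMod p) W)) (hr2 : r ≠ 2) {x : E} (hx : orderOf x = r)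
    {ι : E} (hι : ∀ w, ρ ι w = -w) : False := by
  have hc := (h.centralizer_of_ppd hv hr hx).1
  have hmem : ι ∈ Subgroup.centralizer ({x} : Set E) := by
    rw [Subgroup.mem_centralizer_singleton_iff]
    refine h.faithful (LinearMap.ext fun w => ?_)
    rw [map_mul, map_mul, Module.End.mul_apply, Module.End.mul_apply, hι, hι, map_neg]
  have hi : orderOf ι = 2 := by
    refine orderOf_eq_prime ?_ ?_
    · refine eq_one_of_fix ρ h.faithful fun w => ?_
      rw [pow_two, map_mul, Module.End.mul_apply, hι, hι, neg_neg]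
    · intro e
      obtain ⟨w, hw⟩ := exists_ne (0 : W)
      have h1 := hι w
      rw [e, map_one, Module.End.one_apply] at h1
      have h2 : (2 : ZMod p) • w = 0 := by rw [two_smul]; exact add_eq_zero_iff_eq_neg.2 h1
      refine hw ((smul_eq_zero.1 h2).resolve_left fun h2' => hp2 ?_)
      exact (Nat.prime_dvd_prime_iff_eq hp.1 Nat.prime_two).1
        ((ZMod.natCast_eq_zero_iff 2 p).1 (by exact_mod_cast h2'))
  have h2 : 2 ∣ r := by
    rw [← hc, ← hi, ← Subgroup.orderOf_mk ι hmem]
    exact orderOf_dvd_natCard _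
  exact hr2 ((Nat.prime_dvd_prime_iff_eq Nat.prime_two hr.prime).1 h2).symm

/-- The exceptional pairs in dimension six. -/
theorem Small.false_six [Nontrivial W] (h : Small ρ l) {v : W} (hv : v ≠ 0)
    {r s : ℕ} (hr : PPD r p (finrank (ZMod p) W)) (hs : s.Prime) (hrs : r ≠ s)
    (hrE : r ∣ Nat.card E) (hsm : s ∣ Nat.card (orb ρ v)) (hsm2 : ¬ s ^ 2 ∣ Nat.card (orb ρ v))
    (hs3 : ¬ s ^ 3 ∣ Nat.card (Matrix.GeneralLinearGroup (Fin (finrank (ZMod p) W)) (ZMod p))) :
    False := by
  haveI := Fact.mk hs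
  haveI := Fact.mk hr.prime
  have hsum := h.sum_le_transitive hv
  have hlv := h.pos v
  obtain ⟨x, hx⟩ := exists_prime_orderOf_dvd_card' (G := E) r hrE
  have hxg : GoodAt (stab ρ (0 : W)) x :=
    good_of_irred h.faithful (mem_stab_zero (ρ := ρ) x) (irred_of_ppd ρ h.faithful hr hx)
  have hx1 : x ≠ 1 := fun e => by rw [e, orderOf_one] at hx; exact hr.prime.ne_one hx.symm
  have hlv1 : l v = 1 := by
    have := h.two_le_of_good hxg hx1
    omega
  have hle : ¬ s ^ 3 ∣ Nat.card E := fun hd => hs3 (hd.trans (card_dvd_GL ρ h.faithful))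
  have hE := card_orb_mul ρ v
  have hnot : ¬ s ∣ Nat.card (stab ρ v) := by
    intro hd
    obtain ⟨P⟩ : Nonempty (Sylow s (stab ρ v)) := inferInstance
    refine h.not_cyclic_sylow hlv1 hd P ?_
    obtain ⟨k, hk⟩ := P.2.exists_card_eq
    have hk1 : k ≤ 1 := by
      by_contra hlt
      apply hle
      rw [← hE, pow_succ' s 2]
      exact mul_dvd_mul hsm ((pow_dvd_pow s (by omega : 2 ≤ k)).trans (hk ▸ Subgroup.card_subgroup_dvd_card _))
    rcases Nat.le_one_iff_eq_zero_or_eq_one.1 hk1 with rfl | rfl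
    · haveI : Subsingleton P := (Nat.card_eq_one_iff_unique.1 (by rw [hk, pow_zero])).1
      exact isCyclic_of_subsingleton
    · exact isCyclic_of_prime_card (p := s) (by rw [hk, pow_one])
  have hd0 : s ∣ Nat.card (stab ρ (0 : W)) := by
    rw [stab_zero, Subgroup.card_top, ← hE]
    exact hsm.mul_right _
  obtain ⟨P⟩ : Nonempty (Sylow s (stab ρ (0 : W))) := inferInstance
  have hcyc : IsCyclic P := by
    obtain ⟨k, hk⟩ := P.2.exists_card_eq
    have hk1 : k ≤ 1 := by
      by_contra hlt
      have h1 : s ^ 2 ∣ Nat.card (stab ρ (0 : W)) :=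
        (pow_dvd_pow s (by omega : 2 ≤ k)).trans (hk ▸ Subgroup.card_subgroup_dvd_card _)
      rw [stab_zero, Subgroup.card_top, ← hE] at h1
      exact hsm2 (((hs.coprime_iff_not_dvd.2 hnot).pow_left 2).dvd_of_dvd_mul_right h1)
    rcases Nat.le_one_iff_eq_zero_or_eq_one.1 hk1 with rfl | rfl
    · haveI : Subsingleton P := (Nat.card_eq_one_iff_unique.1 (by rw [hk, pow_zero])).1
      exact isCyclic_of_subsingleton
    · exact isCyclic_of_prime_card (p := s) (by rw [hk, pow_one])
  obtain ⟨u, hu, hu1, k, hk⟩ := exists_good_of_sylow hd0 P hcyc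
  have := h.three_le_of_orders hxg hu hx1 hu1 (by
    rw [hx, hk]
    intro e
    have hk0 : k ≠ 0 := fun h0 => by rw [h0, pow_zero] at e; exact hr.prime.ne_one e
    exact hrs ((Nat.prime_dvd_prime_iff_eq hs hr.prime).1 (e ▸ dvd_pow_self s hk0)).symm)
  omega

end CfsgLib.Blocks.KThree
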