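import Cfsg.Agent.Lib.Blocks.KThree.Transitive

/-!
# No transitive configuration: conclusion
-/

namespace CfsgLib.Blocks.KThree

open Module

set_option linter.unusedVariables false
set_option linter.style.haveILetI false
set_option linter.unusedSectionVars false

universe u v

variable {p : ℕ} [hp : Fact p.Prime] {W : Type v} [AddCommGroup W] [Finite W] [Module (ZMod p) W]
  {E : Type u} [Group E] [Finite E] {ρ : Representation (ZMod p) E W} {l : W → ℕ}

/-- On a plane the stabilizer of a nonzero vector is cyclic. -/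
theorem isCyclic_stab_plane (hρ : Function.Injective ρ) (hE : ¬ p ∣ Nat.card E)
    (hd : finrank (ZMod p) W = 2) {v : W} (hv : v ≠ 0) : IsCyclic (stab ρ v) := by
  haveI : Nontrivial W := ⟨⟨v, 0, hv⟩⟩
  set U : Submodule (ZMod p) W := Submodule.span (ZMod p) {v}
  have hU : finrank (ZMod p) U = 1 := finrank_span_singleton hv
  obtain ⟨w, hw⟩ : ∃ w, w ∉ U := by
    by_contra hh
    push Not at hh
    have : U = ⊤ := eq_top_iff.2 fun x _ => hh x
    rw [this, finrank_top] at hU
    omega
  obtain ⟨f, hfw, hfU⟩ := Submodule.exists_dual_map_eq_bot_of_notMem hw inferInstance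
  set φ : W →ₗ[ZMod p] ZMod p := (f w)⁻¹ • f with hφ
  have hφw : φ w = 1 := by simp [hφ, hfw]
  have hker : ∀ x, φ x = 0 ↔ x ∈ U := by
    intro x
    have h1 : ∀ y ∈ U, f y = 0 := fun y hy => by
      have : f y ∈ U.map f := Submodule.mem_map_of_mem hy
      rwa [hfU, Submodule.mem_bot] at this
    constructor
    · intro hx
      by_contra hxU
      have hle : U ≤ LinearMap.ker φ := fun y hy => by simp [hφ, h1 y hy]
      have hlt : U < LinearMap.ker φ := lt_of_le_of_ne hle fun e => hxU (e ▸ hx)
      have h2 := Submodule.finrank_lt_finrank_of_lt hlt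
      have h3 : LinearMap.ker φ ≠ ⊤ := fun e => by
        have h4 : φ w = 0 := by rw [← LinearMap.mem_ker, e]; exact Submodule.mem_top
        rw [hφw] at h4
        exact one_ne_zero h4
      have := Submodule.finrank_lt h3
      omega
    · intro hx
      simp [hφ, h1 x hx]
  have hdec : ∀ x, ∃ a : ZMod p, x = a • v + φ x • w := by
    intro x
    obtain ⟨a, ha⟩ := Submodule.mem_span_singleton.1 ((hker (x - φ x • w)).1 (by simp [hφw]))
    exact ⟨a, by rw [ha, sub_add_cancel]⟩
  let χ : stab ρ v →* ZMod p :=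
    { toFun := fun g => φ (ρ (g : E) w)
      map_one' := by simp [hφw]
      map_mul' := fun g h => by
        obtain ⟨a, ha⟩ := hdec (ρ (h : E) w)
        show φ (ρ ((g * h : stab ρ v) : E) w) = _
        rw [Subgroup.coe_mul, map_mul, Module.End.mul_apply]
        conv_lhs => rw [ha]
        rw [map_add, map_smul, map_smul, (g.2 : ρ (g : E) v = v), map_add, map_smul, map_smul,
          (hker v).2 (Submodule.mem_span_singleton_self v), smul_zero, zero_add, smul_eq_mul,
          mul_comm] }
  refine isCyclic_of_injective_ringHom (f := χ) ((injective_iff_map_eq_one χ).2 fun g hg => ?_)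
  obtain ⟨a, ha⟩ := hdec (ρ (g : E) w)
  rw [show φ (ρ (g : E) w) = 1 from hg, one_smul] at ha
  have hpow : ∀ k : ℕ, ρ ((g : E) ^ k) w = ((k : ZMod p) * a) • v + w := by
    intro k
    induction k with
    | zero => simp
    | succ k ih =>
      rw [pow_succ', map_mul, Module.End.mul_apply, ih, map_add, map_smul,
        (g.2 : ρ (g : E) v = v), ha, ← add_assoc, ← add_smul, Nat.cast_succ, add_one_mul]
  have h1 := hpow (Nat.card E)
  rw [pow_card_eq_one', map_one, Module.End.one_apply, eq_comm, add_eq_right, smul_eq_zero,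
    mul_eq_zero] at h1
  have ha0 : a = 0 := by
    rcases h1 with (h1 | h1) | h1
    · exact absurd ((ZMod.natCast_eq_zero_iff _ _).1 h1) hE
    · exact h1
    · exact absurd h1 hv
  refine Subtype.ext (eq_one_of_fix ρ hρ fun x => ?_)
  obtain ⟨b, hb⟩ := hdec x
  rw [hb, map_add, map_smul, map_smul, (g.2 : ρ (g : E) v = v), ha, ha0, zero_smul, zero_add]

theorem dvd_orb_two {v : W} [Nontrivial W] (hv : v ≠ 0) (htr : ∀ w : W, w ≠ 0 → w ∈ orb ρ v)
    (hd : finrank (ZMod p) W = 2) : Nat.card (orb ρ v) = (p + 1) * (p - 1) := by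
  rw [card_orb_transitive hv htr, hd]
  have := Nat.sq_sub_sq p 1
  rwa [one_pow] at this

theorem exists_odd_prime_dvd {p s : ℕ} (hp : p + 1 = 2 ^ s) (h3 : 3 < p) :
    ∃ ℓ, ℓ.Prime ∧ ℓ ≠ 2 ∧ ℓ ∣ p - 1 := by
  have hs : 3 ≤ s := by
    by_contra h
    have := Nat.pow_le_pow_right (n := 2) (by norm_num) (show s ≤ 2 by omega)
    omega
  obtain ⟨t, rfl⟩ : ∃ t, s = t + 1 := ⟨s - 1, by omega⟩
  have h4 : 4 ≤ 2 ^ t := le_trans (by norm_num) (Nat.pow_le_pow_right (by norm_num) (show 2 ≤ t by omega))
  have hodd : Odd (2 ^ t - 1) := by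
    refine Nat.Even.sub_odd (by omega) ?_ odd_one
    exact (Nat.even_pow).2 ⟨even_two, by omega⟩
  refine ⟨(2 ^ t - 1).minFac, Nat.minFac_prime (by omega), fun e => ?_, ?_⟩
  · have h2 := Nat.minFac_dvd (2 ^ t - 1)
    rw [e] at h2
    exact Nat.not_even_iff_odd.2 hodd (even_iff_two_dvd.2 h2)
  · rw [pow_succ] at hp
    exact (Nat.minFac_dvd _).trans ⟨2, by omega⟩

theorem mod_four_of_mersenne {p s : ℕ} (hp : p + 1 = 2 ^ s) (h2 : 2 < p) : p % 4 = 3 := by
  have hs : 2 ≤ s := by
    by_contra h
    have := Nat.pow_le_pow_right (n := 2) (by norm_num) (show s ≤ 1 by omega)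
    omega
  obtain ⟨t, rfl⟩ : ∃ t, s = t + 2 := ⟨s - 2, by omega⟩
  rw [pow_add] at hp
  omega

/-- The transitive case of Mersenne type. -/
theorem Small.false_mersenne [Nontrivial W] (h : Small ρ l) (hp2 : p ≠ 2)
    (hd : finrank (ZMod p) W = 2) {v : W} (hv : v ≠ 0) (htr : ∀ w : W, w ≠ 0 → w ∈ orb ρ v)
    {s : ℕ} (hs : p + 1 = 2 ^ s) : False := by
  classical
  haveI := Fact.mk Nat.prime_two
  have hp3 : 2 < p := lt_of_le_of_ne hp.1.two_le (Ne.symm hp2)
  have h4 := mod_four_of_mersenne hs hp3
  have hsum := h.sum_le_transitive hv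
  have hlv := h.pos v
  have hE := card_orb_mul ρ v
  have horb := dvd_orb_two hv htr hd
  have h8 : 8 ∣ Nat.card E := by
    rw [← hE, horb]
    refine (dvd_mul_of_dvd_left ?_ _)
    rw [show (8 : ℕ) = 4 * 2 by norm_num]
    exact mul_dvd_mul (by omega) (by omega)
  obtain ⟨S⟩ : Nonempty (Sylow 2 E) := inferInstance
  have hS8 : 8 ≤ Nat.card S := Nat.le_of_dvd Nat.card_pos
    (S.pow_dvd_card_of_pow_dvd_card (n := 3) (by norm_num; exact h8))
  obtain ⟨z, -, hz⟩ := exists_order_four ρ h.faithful hp2 hd S.2 (Or.inl hS8)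
  have hz1 : z ≠ 1 := fun e => by rw [e, orderOf_one] at hz; omega
  have hzir := irred_of_order_four ρ h.faithful h4 hd hz
  have hzg : GoodAt (stab ρ (0 : W)) z := good_of_irred h.faithful (mem_stab_zero z) hzir
  have hl0 := h.two_le_of_good hzg hz1
  have hst : stab ρ v = ⊥ := h.stab_eq_bot_of_cyclic (by omega)
    (isCyclic_stab_plane h.faithful h.coprime hd hv)
  have hsr : ∀ g : E, ∀ w : W, w ≠ 0 → ρ g w = w → g = 1 := by
    intro g w hw hg
    have h1 : Nat.card (stab ρ w) = 1 := by
      rw [card_stab_eq ρ (htr w hw), hst, Subgroup.card_bot]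
    have h2 := (Subgroup.card_eq_one.1 h1) ▸ (show g ∈ stab ρ w from hg)
    exact Subgroup.mem_bot.1 h2
  rcases lt_or_ge 3 p with hp3' | hp3'
  · obtain ⟨ℓ, hℓ, hℓ2, hℓd⟩ := exists_odd_prime_dvd hs hp3'
    haveI := Fact.mk hℓ
    obtain ⟨P⟩ : Nonempty (Sylow ℓ (stab ρ (0 : W))) := inferInstance
    have hℓ0 : ℓ ∣ Nat.card (stab ρ (0 : W)) := by
      rw [stab_zero, Subgroup.card_top, ← hE, horb]
      exact (hℓd.mul_left _).mul_right _
    have hcyc : IsCyclic P := by
      rcases isCyclic_or_exists_fix (ρ := ρ) hℓ2 (fun e => h.coprime (e ▸ (by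
          rw [← hE, horb]; exact (hℓd.mul_left _).mul_right _)))
        (P.2.map (stab ρ (0 : W)).subtype) with hc | ⟨y, -, hyo, w, hw, hfix⟩
      · haveI := hc
        exact isCyclic_of_surjective _ ((P : Subgroup (stab ρ (0 : W))).equivMapOfInjective _
          (stab ρ (0 : W)).subtype_injective).symm.surjective
      · have := hsr y w hw hfix
        rw [this, orderOf_one] at hyo
        exact absurd hyo.symm hℓ.ne_one
    obtain ⟨u, hu, hu1, k, hk⟩ := exists_good_of_sylow hℓ0 P hcyc
    have := h.three_le_of_orders hzg hu hz1 hu1 (by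
      rw [hz, hk]
      intro e
      rcases k.eq_zero_or_pos with rfl | hk0
      · norm_num at e
      · have h2 : ℓ ∣ 4 := e ▸ dvd_pow_self ℓ hk0.ne'
        exact hℓ2 ((Nat.prime_dvd_prime_iff_eq hℓ Nat.prime_two).1
          (hℓ.dvd_of_dvd_pow (n := 2) (by norm_num; exact h2))))
    omega
  · obtain rfl : p = 3 := by omega
    have hcard : Nat.card E = 8 := by
      rw [← hE, horb, hst, Subgroup.card_bot]
    have hidx : (Subgroup.zpowers z).index = 2 := by
      have := (Subgroup.zpowers z).card_mul_index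
      rw [Nat.card_zpowers, hz, hcard] at this
      omega
    haveI := Subgroup.normal_of_index_eq_two hidx
    obtain ⟨w, hw⟩ : ∃ w, w ∉ Subgroup.zpowers z := by
      by_contra hh
      push Not at hh
      rw [show Subgroup.zpowers z = ⊤ from eq_top_iff.2 (fun x _ => hh x), Subgroup.index_top] at hidx
      omega
    have hneg : ∀ g : E, g * g = 1 → g ≠ 1 → ∀ x, ρ g x = -x := by
      intro g hgg hg1 x
      have h1 : ρ g (x + ρ g x) = x + ρ g x := by
        rw [map_add, ← Module.End.mul_apply, ← map_mul, hgg, map_one, Module.End.one_apply, add_comm]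
      by_contra hne
      exact hg1 (hsr g _ (fun e => hne (eq_neg_of_add_eq_zero_right e)) h1)
    have hwo : orderOf w = 4 ∨ orderOf w = 8 := by
      have hd8 : orderOf w ∣ 2 ^ 3 := by
        norm_num; rw [← hcard]; exact orderOf_dvd_natCard w
      obtain ⟨k, hk, hk'⟩ := (Nat.dvd_prime_pow Nat.prime_two).1 hd8
      interval_cases k
      · exact absurd (orderOf_eq_one_iff.1 (by simpa using hk' : orderOf w = 1))
          (fun e => hw (by rw [e]; exact one_mem _))
      · exfalso
        apply hw
        have hw1 : w ≠ 1 := fun e => hw (e ▸ one_mem _)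
        have h2 : w * w = 1 := by rw [← pow_two, ← (by simpa using hk' : orderOf w = 2), pow_orderOf_eq_one]
        have hz2 : z ^ 2 ≠ 1 := fun e => by
          have := orderOf_dvd_of_pow_eq_one e
          rw [hz] at this
          norm_num at this
        have : w = z ^ 2 := h.faithful (LinearMap.ext fun x => by
          rw [hneg w h2 hw1 x, hneg (z ^ 2) (by rw [← pow_add, show 2 + 2 = orderOf z by rw [hz],
            pow_orderOf_eq_one]) hz2 x])
        exact this ▸ (Subgroup.zpowers z).pow_mem (Subgroup.mem_zpowers z) 2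
      · left; simpa using hk'
      · right; simpa using hk'
    have hw1 : w ≠ 1 := fun e => hw (e ▸ one_mem _)
    rcases hwo with hwo | hwo
    · have := h.three_le_of_good hzg (good_of_irred h.faithful (mem_stab_zero w)
        (irred_of_order_four ρ h.faithful h4 hd hwo)) hz1 hw1
        (fun e => hw (e ▸ Subgroup.mem_zpowers z))
        (fun x _ e => hw (by
          have h1 := ‹(Subgroup.zpowers z).Normal›.conj_mem z (Subgroup.mem_zpowers z) x⁻¹
          have h2 : x⁻¹ * z * x⁻¹⁻¹ = w := by rw [← e]; group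
          rwa [h2] at h1))
      omega
    · have hwtop : Subgroup.zpowers w = ⊤ := Subgroup.eq_top_of_card_eq _ (by
        rw [Nat.card_zpowers, hwo, hcard])
      have hwg : GoodAt (stab ρ (0 : W)) w := good_of_cent (mem_stab_zero w)
        (isCyclic_le (inf_le_right.trans (centralizer_le_of_mem_zpowers
          (hwtop ▸ Subgroup.mem_top z))) (isCyclic_centralizer ρ h.faithful hzir))
      have := h.three_le_of_orders hzg hwg hz1 hw1 (by omega)
      omega

/-- The group is not transitive on the nonzero vectors. -/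
theorem Small.not_transitive (h : Small ρ l) (hp2 : p ≠ 2) (hn : 2 ≤ finrank (ZMod p) W) {v : W}
    (hv : v ≠ 0) (htr : ∀ w : W, w ≠ 0 → w ∈ orb ρ v) : False := by
  classical
  haveI : Nontrivial W := ⟨⟨v, 0, hv⟩⟩
  have hodd : Odd p := hp.1.odd_of_ne_two hp2
  have horb := card_orb_transitive hv htr
  have hE := card_orb_mul ρ v
  have hdvd : p ^ finrank (ZMod p) W - 1 ∣ Nat.card E := by rw [← hE, horb]; exact dvd_mul_right _ _
  have key : ∀ r, PPD r p (finrank (ZMod p) W) →
      ∃ x : E, orderOf x = r ∧ r ≠ 2 ∧ ¬ (finrank (ZMod p) W + 1 < r) ∧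
        ¬ r ^ 2 ∣ p ^ finrank (ZMod p) W - 1 := by
    intro r hr
    haveI := Fact.mk hr.prime
    obtain ⟨x, hx⟩ := exists_prime_orderOf_dvd_card' (G := E) r (hr.dvd.trans hdvd)
    have h1 := (h.centralizer_of_ppd hv hr hx).2
    exact ⟨x, hx, odd_of_ppd hr hodd hn, by omega,
      fun hd => h.not_sq_dvd hv hr (hd.trans hdvd)⟩
  rcases eq_or_lt_of_le hn with h2 | h3
  · rcases exists_ppd_two hp.1 hp2 with ⟨r, hr, hcase⟩ | ⟨s, hs⟩
    · rw [h2] at hr
      obtain ⟨x, hx, hr2, ha, hb⟩ := key r hr
      rw [← h2] at ha hb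
      rcases hcase with hc | hc | rfl
      · omega
      · exact hb hc
      · set k := ((p + 1) * (p - 1)).factorization 2 with hk
        have hne : (p + 1) * (p - 1) ≠ 0 := Nat.mul_ne_zero (by omega) (by
          have := hp.1.two_le; omega)
        have hpk : (p + 1).factorization 2 + (p - 1).factorization 2 = k := by
          rw [hk, Nat.factorization_mul (by omega) (right_ne_zero_of_mul hne), Finsupp.add_apply]
        have hev : 1 ≤ (p + 1).factorization 2 :=
          Nat.prime_two.factorization_pos_of_dvd (by omega) (by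
            obtain ⟨j, hj⟩ := hodd; exact ⟨j + 1, by omega⟩)
        obtain ⟨ι, hι⟩ := exists_neg ρ h.faithful hp2 htr (k := k) (by omega)
          (by rw [dvd_orb_two hv htr h2.symm, hk]; exact Nat.ordProj_dvd _ _)
          (fun f hf1 hf2 hd => by
            rw [← h2] at hf2
            obtain rfl : f = 1 := by omega
            rw [pow_one] at hd
            have := (Nat.prime_two.pow_dvd_iff_le_factorization (right_ne_zero_of_mul hne)).1 hd
            omega)
        exact h.not_neg hp2 hv hr hr2 hx hι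
    · exact h.false_mersenne hp2 h2.symm hv htr hs
  · obtain ⟨r, hr, hcase⟩ := exists_ppd_three hp.1 hp2 h3
    obtain ⟨x, hx, hr2, ha, hb⟩ := key r hr
    rcases hcase with hc | hc | ⟨rfl, rfl, hn4⟩ | ⟨rfl, hpp, hn6⟩
    · exact ha hc
    · exact hb hc
    · obtain ⟨ι, hι⟩ := exists_neg ρ h.faithful hp2 htr (k := 4) (by norm_num)
        (by rw [horb, hn4]; norm_num) (fun f hf1 hf2 => by
          rw [hn4] at hf2; interval_cases f <;> norm_num)
      exact h.not_neg hp2 hv hr hr2 hx hι
    · rcases hpp with rfl | rfl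
      · refine h.false_six hv hr (s := 13) (by norm_num) (by norm_num)
          (hx ▸ orderOf_dvd_natCard x) (by rw [horb, hn6]; norm_num) (by rw [horb, hn6]; norm_num) ?_
        rw [hn6, Matrix.card_GL_field]
        simp [Fin.prod_univ_six, ZMod.card]
      · refine h.false_six hv hr (s := 31) (by norm_num) (by norm_num)
          (hx ▸ orderOf_dvd_natCard x) (by rw [horb, hn6]; norm_num) (by rw [horb, hn6]; norm_num) ?_
        rw [hn6, Matrix.card_GL_field]
        simp [Fin.prod_univ_six, ZMod.card]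

end CfsgLib.Blocks.KThree
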