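import Cfsg.Agent.Lib.Blocks.KThree.TransitiveMain
import Cfsg.Agent.Lib.Blocks.KThree.Fourier

/-!
# Two orbits on the nonzero vectors
-/

namespace CfsgLib.Blocks.KThree

open Module

set_option linter.unusedVariables false
set_option linter.style.haveILetI false
set_option linter.unusedSectionVars false

universe u v

variable {p : ℕ} [hp : Fact p.Prime] {W : Type v} [AddCommGroup W] [Finite W] [Module (ZMod p) W]
  {E : Type u} [Group E] [Finite E] {ρ : Representation (ZMod p) E W} {l : W → ℕ}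

theorem ne_zero_of_mem_orb {v w : W} (hv : v ≠ 0) (h : w ∈ orb ρ v) : w ≠ 0 := by
  obtain ⟨g, rfl⟩ := h
  intro h0
  apply hv
  have h1 : ρ g⁻¹ (ρ g v) = 0 := by rw [show ρ g v = 0 from h0, map_zero]
  rwa [← Module.End.mul_apply, ← map_mul, inv_mul_cancel, map_one, Module.End.one_apply] at h1

theorem not_mem_orb_comm {v w : W} (h : w ∉ orb ρ v) : v ∉ orb ρ w := fun h' =>
  h (orb_eq_of_mem ρ h' ▸ mem_orb_self ρ w)

/-- With two nontrivial orbits every multiplicity is one. -/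
theorem Small.eq_one_of_two (h : Small ρ l) {v₁ v₂ : W} (hv1 : v₁ ≠ 0) (hv2 : v₂ ≠ 0)
    (hne : v₂ ∉ orb ρ v₁) (hall : ∀ w : W, w ≠ 0 → w ∈ orb ρ v₁ ∨ w ∈ orb ρ v₂) (w : W) :
    l w = 1 := by
  classical
  have key : ∀ a b : W, a ≠ 0 → b ≠ 0 → b ∉ orb ρ a → l 0 = 1 ∧ l a = 1 ∧ l b = 1 := by
    intro a b ha hb hab
    have h1 := h.three {0, a, b} (fun x hx y hy hxy g e => by
      simp only [Finset.mem_insert, Finset.mem_singleton] at hx hy
      rcases hx with rfl | rfl | rfl <;> rcases hy with rfl | rfl | rfl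
      · exact hxy rfl
      · exact ha (by rw [← e, map_zero])
      · exact hb (by rw [← e, map_zero])
      · exact ne_zero_of_mem_orb (ρ := ρ) ha ⟨g, rfl⟩ e
      · exact hxy rfl
      · exact hab ⟨g, e⟩
      · exact ne_zero_of_mem_orb (ρ := ρ) hb ⟨g, rfl⟩ e
      · exact not_mem_orb_comm hab ⟨g, e⟩
      · exact hxy rfl)
    rw [Finset.sum_insert (by simp [Ne.symm ha, Ne.symm hb]),
      Finset.sum_pair (fun e : a = b => hab (e ▸ mem_orb_self ρ a))] at h1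
    have := h.pos 0
    have := h.pos a
    have := h.pos b
    omega
  rcases eq_or_ne w 0 with rfl | hw
  · exact (key v₁ v₂ hv1 hv2 hne).1
  rcases hall w hw with h1 | h1
  · exact (key w v₂ hw hv2 (fun h2 => hne (orb_eq_of_mem ρ h1 ▸ h2))).2.1
  · exact (key v₁ w hv1 hw (fun h2 => hne ((orb_eq_of_mem ρ h2).symm.trans
      (orb_eq_of_mem ρ h1) ▸ mem_orb_self ρ v₂))).2.2

theorem isSquare_of_mul {a b m : ℕ} (hb : b ≠ 0) (h : a * a = m * (b * b)) : IsSquare m := by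
  have h1 : b ^ 2 ∣ a ^ 2 := ⟨m, by rw [pow_two, pow_two, h, mul_comm]⟩
  obtain ⟨c, rfl⟩ := (Nat.pow_dvd_pow_iff two_ne_zero).1 h1
  refine ⟨c, Nat.eq_of_mul_eq_mul_right (Nat.pos_of_ne_zero (mul_ne_zero hb hb)) ?_⟩
  rw [← h]; ring

theorem Small.isSquare_orb (h : Small ρ l) (h1 : ∀ w, l w = 1) (v : W) :
    IsSquare (Nat.card (orb ρ v)) := by
  obtain ⟨a, ha⟩ := h.square 0 (h1 0)
  obtain ⟨b, hb⟩ := h.square v (h1 v)
  rw [stab_zero, Subgroup.card_top] at ha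
  refine isSquare_of_mul (fun hb0 => ?_) (?_ : a * a = _ * (b * b))
  · rw [hb0, mul_zero] at hb
    exact Nat.card_pos.ne' hb
  · rw [← ha, ← hb, card_orb_mul]

theorem card_orb_add {v₁ v₂ : W} (hv1 : v₁ ≠ 0) (hv2 : v₂ ≠ 0) (hne : v₂ ∉ orb ρ v₁)
    (hall : ∀ w : W, w ≠ 0 → w ∈ orb ρ v₁ ∨ w ∈ orb ρ v₂) :
    Nat.card (orb ρ v₁) + Nat.card (orb ρ v₂) + 1 = Nat.card W := by
  classical
  have hd : Disjoint (orb ρ v₁) (orb ρ v₂) := Set.disjoint_left.2 fun w h1 h2 =>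
    hne ((orb_eq_of_mem ρ h1).symm.trans (orb_eq_of_mem ρ h2) ▸ mem_orb_self ρ v₂)
  have hun : insert (0 : W) (orb ρ v₁ ∪ orb ρ v₂) = Set.univ := Set.eq_univ_of_forall fun w => by
    by_cases hw : w = 0
    · exact Or.inl hw
    · exact Or.inr (hall w hw)
  have h0 : (0 : W) ∉ orb ρ v₁ ∪ orb ρ v₂ := fun h => h.elim
    (fun h => ne_zero_of_mem_orb hv1 h rfl) (fun h => ne_zero_of_mem_orb hv2 h rfl)
  rw [Nat.card_coe_set_eq, Nat.card_coe_set_eq, ← Set.ncard_univ, ← hun,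
    Set.ncard_insert_of_notMem h0 (Set.toFinite _),
    Set.ncard_union_eq hd (Set.toFinite _) (Set.toFinite _)]

/-- The two orbit case on a plane. -/
theorem Small.false_two_plane (h : Small ρ l) (hp2 : p ≠ 2) (hd : finrank (ZMod p) W = 2)
    {v₁ v₂ : W} (hv1 : v₁ ≠ 0) (hv2 : v₂ ≠ 0) (hne : v₂ ∉ orb ρ v₁)
    (hall : ∀ w : W, w ≠ 0 → w ∈ orb ρ v₁ ∨ w ∈ orb ρ v₂) : False := by
  haveI : Nontrivial W := ⟨⟨v₁, 0, hv1⟩⟩
  have h1 := h.eq_one_of_two hv1 hv2 hne hall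
  have hst : ∀ v : W, v ≠ 0 → stab ρ v = ⊥ := fun v hv => h.stab_eq_bot_of_cyclic (h1 v)
    (isCyclic_stab_plane h.faithful h.coprime hd hv)
  have horb : ∀ v : W, v ≠ 0 → Nat.card (orb ρ v) = Nat.card E := fun v hv => by
    have := card_orb_mul ρ v
    rwa [hst v hv, Subgroup.card_bot, mul_one] at this
  have hsum := card_orb_add hv1 hv2 hne hall
  rw [horb v₁ hv1, horb v₂ hv2, Module.natCard_eq_pow_finrank (K := ZMod p) (V := W), Nat.card_zmod, hd] at hsum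
  have hno : ∀ x : E, x ≠ 1 → Irred ρ x → False := fun x hx1 hi => by
    have := h.two_le_of_good (good_of_irred h.faithful (mem_stab_zero (ρ := ρ) x) hi) hx1
    rw [h1] at this
    omega
  rcases exists_ppd_two hp.1 hp2 with ⟨r, hr, -⟩ | ⟨s, hs⟩
  · have hr2 := odd_of_ppd hr (hp.1.odd_of_ne_two hp2) le_rfl
    haveI := Fact.mk hr.prime
    have hrd : r ∣ 2 * Nat.card E := by
      rw [show 2 * Nat.card E = p ^ 2 - 1 by omega]
      exact hr.dvd
    obtain ⟨x, hx⟩ := exists_prime_orderOf_dvd_card' (G := E) r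
      ((hr.prime.dvd_mul.1 hrd).resolve_left fun h2 =>
        hr2 ((Nat.prime_dvd_prime_iff_eq hr.prime Nat.prime_two).1 h2))
    rw [← hd] at hr
    exact hno x (fun e => by rw [e, orderOf_one] at hx; exact hr.prime.ne_one hx.symm)
      (irred_of_ppd ρ h.faithful hr hx)
  · haveI := Fact.mk Nat.prime_two
    have hp3 : 2 < p := lt_of_le_of_ne hp.1.two_le (Ne.symm hp2)
    have h4 := mod_four_of_mersenne hs hp3
    obtain ⟨S⟩ : Nonempty (Sylow 2 E) := inferInstance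
    have h8 : 4 ∣ Nat.card E := by
      have he : p ^ 2 - 1 = (p + 1) * (p - 1) := by
        have := Nat.sq_sub_sq p 1
        rwa [one_pow] at this
      obtain ⟨j, hj⟩ : ∃ j, p + 1 = 4 * j := ⟨(p + 1) / 4, by omega⟩
      obtain ⟨i, hi⟩ : ∃ i, p - 1 = 2 * i := ⟨(p - 1) / 2, by omega⟩
      refine ⟨j * i, ?_⟩
      rw [hj, hi, show 4 * j * (2 * i) = 2 * (4 * (j * i)) by ring] at he
      omega
    have hS : 4 ≤ Nat.card S := Nat.le_of_dvd Nat.card_pos
      (S.pow_dvd_card_of_pow_dvd_card (n := 2) (by norm_num; exact h8))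
    obtain ⟨z, -, hz⟩ := exists_order_four ρ h.faithful hp2 hd S.2 (Or.inr ⟨hS, fun g _ w hw hg =>
      Subgroup.mem_bot.1 (hst w hw ▸ (show g ∈ stab ρ w from hg))⟩)
    exact hno z (fun e => by rw [e, orderOf_one] at hz; omega)
      (irred_of_order_four ρ h.faithful h4 hd hz)

/-- The conclusion of the arithmetic of the two orbit sums. -/
theorem two_orbit_arith {p n a b m₁ m₂ : ℕ} (hp : p.Prime) (hn : 1 ≤ n) {e g z : ℤ}
    (hab : a + b + 1 = p ^ n) (hm : m₁ + m₂ + 1 = p ^ n) (h1 : (m₁ : ℤ) + a * e + b * g = 0)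
    (h2 : (m₁ : ℤ) ^ 2 + a * e ^ 2 + b * g ^ 2 = ((p ^ n : ℕ) : ℤ) * m₁)
    (h3 : (e - g) * z = ((p ^ n : ℕ) : ℤ)) (ha : ¬ p ∣ a) (hb : ¬ p ∣ b) (hm1 : ¬ p ∣ m₁)
    (hm2 : ¬ p ∣ m₂) :
    ∃ k, n = 2 * k ∧ ((p ^ k - 1 ∣ m₁ ∧ p ^ k - 1 ∣ m₂) ∨ p ^ k + 1 ∣ m₁) := by
  have hab' : (a : ℤ) + b + 1 = ((p ^ n : ℕ) : ℤ) := by exact_mod_cast hab
  have hm' : (m₁ : ℤ) + m₂ + 1 = ((p ^ n : ℕ) : ℤ) := by exact_mod_cast hm
  set q : ℤ := ((p ^ n : ℕ) : ℤ) with hq
  have key : (a : ℤ) * b * (e - g) ^ 2 = q * m₁ * m₂ := by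
    linear_combination ((a : ℤ) + b) * h2 - ((a : ℤ) * e + b * g - m₁) * h1 +
      (q * m₁ - (m₁ : ℤ) ^ 2) * hab' - q * m₁ * hm'
  obtain ⟨k, -, hk⟩ : ∃ k ≤ n, (e - g).natAbs = p ^ k :=
    (Nat.dvd_prime_pow hp).1 ⟨z.natAbs, by
      rw [← Int.natAbs_mul, h3, hq, Int.natAbs_natCast]⟩
  have keyN : a * b * (p ^ k) ^ 2 = p ^ n * (m₁ * m₂) := by
    have := congrArg Int.natAbs key
    rwa [Int.natAbs_mul, Int.natAbs_mul, Int.natAbs_pow, hk, Int.natAbs_mul, Int.natAbs_mul, hq,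
      Int.natAbs_natCast, Int.natAbs_natCast, Int.natAbs_natCast, Int.natAbs_natCast,
      Int.natAbs_natCast, mul_assoc (p ^ n)] at this
  have hne : ∀ {x y : ℕ}, ¬ p ∣ x → ¬ p ∣ y → x * y ≠ 0 ∧ (x * y).factorization p = 0 :=
    fun {x y} hx hy => ⟨Nat.mul_ne_zero (fun h => hx (h ▸ dvd_zero p)) (fun h => hy (h ▸ dvd_zero p)),
      Nat.factorization_eq_zero_of_not_dvd (fun h => (hp.dvd_mul.1 h).elim hx hy)⟩
  have hnk : n = 2 * k := by
    have := congrArg (fun t : ℕ => t.factorization p) keyN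
    simp only [Nat.factorization_mul (hne ha hb).1 (pow_ne_zero _ (pow_ne_zero _ hp.ne_zero)),
      Nat.factorization_mul (pow_ne_zero _ hp.ne_zero) (hne hm1 hm2).1, Finsupp.add_apply,
      (hne ha hb).2, (hne hm1 hm2).2, Nat.factorization_pow, Finsupp.smul_apply,
      hp.factorization_self, smul_eq_mul] at this
    omega
  refine ⟨k, hnk, ?_⟩
  have hMq : (p ^ k) ^ 2 = p ^ n := by rw [← pow_mul, hnk, mul_comm]
  have hprod : a * b = m₁ * m₂ := by
    rw [hMq, mul_comm] at keyN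
    exact Nat.eq_of_mul_eq_mul_left (pow_pos hp.pos n) keyN
  have hprod' : (a : ℤ) * b = m₁ * m₂ := by exact_mod_cast hprod
  have hk1 : 1 ≤ k := by omega
  have hM2 : 2 ≤ p ^ k := le_trans hp.two_le (Nat.le_self_pow (by omega) p)
  have hMq' : q = ((p ^ k : ℕ) : ℤ) ^ 2 := by rw [hq, ← hMq]; push_cast; rfl
  set M : ℤ := ((p ^ k : ℕ) : ℤ) with hMdef
  obtain ⟨ε, hε, heg⟩ : ∃ ε : ℤ, (ε = 1 ∨ ε = -1) ∧ e - g = ε * M := by
    rcases Int.natAbs_eq (e - g) with h | h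
    · exact ⟨1, Or.inl rfl, by rw [h, hk, one_mul]⟩
    · exact ⟨-1, Or.inr rfl, by rw [h, hk, neg_one_mul]⟩
  have hε2 : ε ^ 2 = 1 := by rcases hε with rfl | rfl <;> norm_num
  have hMne : ∀ δ : ℤ, (δ = 1 ∨ δ = -1) → δ * M + 1 ≠ 0 := by
    intro δ hδ
    have : (2 : ℤ) ≤ M := by rw [hMdef]; exact_mod_cast hM2
    rcases hδ with rfl | rfl <;> omega
  have hchoose : (a : ℤ) = m₁ ∨ (a : ℤ) = m₂ := by
    have : ((a : ℤ) - m₁) * (a - m₂) = 0 := by
      linear_combination (-1 : ℤ) * hprod' + (a : ℤ) * (hab' - hm')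
    rcases mul_eq_zero.1 this with h | h
    · exact Or.inl (sub_eq_zero.1 h)
    · exact Or.inr (sub_eq_zero.1 h)
  have hdiv : (ε * M - 1 ∣ (m₁ : ℤ)) ∨ (ε * M + 1 ∣ (m₁ : ℤ)) := by
    rcases hchoose with hc | hc
    · left
      refine ⟨-g, ?_⟩
      have h4 : (ε * M + 1) * (g * (ε * M - 1) + m₁) = 0 := by
        linear_combination h1 - g * hab' - g * hMq' - (a : ℤ) * heg - ε * M * hc +
          g * M ^ 2 * hε2
      have := (mul_eq_zero.1 h4).resolve_left (hMne ε hε)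
      linear_combination this
    · right
      refine ⟨e, ?_⟩
      have h4 : (-ε * M + 1) * (e * (ε * M + 1) - m₁) = 0 := by
        have hb' : (b : ℤ) = m₁ := by linear_combination hab' - hm' - hc
        linear_combination -h1 + e * hab' + e * hMq' - (b : ℤ) * heg - e * M ^ 2 * hε2 -
          ε * M * hb'
      have := (mul_eq_zero.1 h4).resolve_left (hMne (-ε) (by rcases hε with rfl | rfl <;> norm_num))
      linear_combination -this
  have hcast : ((p ^ k - 1 : ℕ) : ℤ) = M - 1 := by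
    rw [Nat.cast_sub (by omega), Nat.cast_one]
  rcases (show (M - 1 ∣ (m₁ : ℤ)) ∨ (M + 1 ∣ (m₁ : ℤ)) by
    rcases hε with rfl | rfl <;> rcases hdiv with h | h
    · exact Or.inl (by simpa using h)
    · exact Or.inr (by simpa using h)
    · exact Or.inr (by rw [← neg_dvd]; simpa [sub_eq_add_neg, add_comm] using h)
    · exact Or.inl (by rw [← neg_dvd]; simpa [sub_eq_add_neg, add_comm] using h)) with h | h
  · left
    rw [← hcast] at h
    have hm1' : p ^ k - 1 ∣ m₁ := Int.natCast_dvd_natCast.1 h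
    refine ⟨hm1', ?_⟩
    have hsq : p ^ k - 1 ∣ p ^ n - 1 := by
      rw [hnk, mul_comm, pow_mul]
      exact Nat.sub_dvd_pow_sub_pow (p ^ k) 1 2 |> fun h => by simpa using h
    have : m₂ = (p ^ n - 1) - m₁ := by omega
    rw [this]
    exact Nat.dvd_sub hsq hm1'
  · right
    rw [show M + 1 = ((p ^ k + 1 : ℕ) : ℤ) by push_cast [hMdef]; ring] at h
    exact Int.natCast_dvd_natCast.1 h

/-- An odd prime of half the dimension gives a cyclic Sylow subgroup in a stabilizer. -/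
theorem Small.false_half (h : Small ρ l) (h1 : ∀ w, l w = 1) {k ℓ : ℕ}
    (hd : finrank (ZMod p) W = 2 * k) (hk : 1 ≤ k) (hℓ : PPD ℓ p k) (hℓ2 : ℓ ≠ 2)
    (hℓE : ℓ ∣ Nat.card E) : False := by
  classical
  haveI := Fact.mk hℓ.prime
  haveI : Nontrivial W := Module.nontrivial_of_finrank_pos (R := ZMod p) (by omega)
  have hℓp : ℓ ≠ p := ne_of_dvd_pow_sub_one hℓ.prime hk hℓ.dvd
  obtain ⟨P⟩ : Nonempty (Sylow ℓ (stab ρ (0 : W))) := inferInstance
  rcases isCyclic_or_exists_fix (ρ := ρ) hℓ2 hℓp (P.2.map (stab ρ (0 : W)).subtype) with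
    hc | ⟨y₀, -, hy₀, w, hw, hfix₀⟩
  · refine h.not_cyclic_sylow (h1 0) (by rwa [stab_zero, Subgroup.card_top]) P ?_
    haveI := hc
    exact isCyclic_of_surjective _ ((P : Subgroup (stab ρ (0 : W))).equivMapOfInjective _
      (stab ρ (0 : W)).subtype_injective).symm.surjective
  -- every element of order `ℓ` fixing `w` fixes exactly a subspace of half the dimension
  have hfd : ∀ y : E, orderOf y = ℓ → ρ y w = w → finrank (ZMod p) (fixIn ρ y ⊤) ≤ k := by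
    intro y hy hyw
    have hd1 := dvd_pow_sub ρ hℓ.prime hℓp hy (U := ⊤) (fun u _ => Submodule.mem_top)
    rw [finrank_top] at hd1
    have hy1 : y ≠ 1 := fun e => by rw [e, orderOf_one] at hy; exact hℓ.prime.ne_one hy.symm
    have hlt : finrank (ZMod p) (fixIn ρ y ⊤) < finrank (ZMod p) W :=
      Submodule.finrank_lt (fixIn_top_ne_top ρ h.faithful hy1)
    by_contra hgt
    exact hℓ.minimal _ (by omega) (by omega) hd1
  have hℓst : ℓ ∣ Nat.card (stab ρ w) := by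
    rw [← hy₀, ← Subgroup.orderOf_mk y₀ (show y₀ ∈ stab ρ w from hfix₀)]
    exact orderOf_dvd_natCard _
  obtain ⟨Q⟩ : Nonempty (Sylow ℓ (stab ρ w)) := inferInstance
  refine h.not_cyclic_sylow (h1 w) hℓst Q (CfsgLib.Frob.isCyclic_of_uniq_odd hℓ2 Q.2 ?_)
  haveI : Nontrivial Q := by
    have h2 : ℓ ∣ Nat.card Q := Q.dvd_card_of_dvd_card hℓst
    exact Finite.one_lt_card_iff_nontrivial.1 (lt_of_lt_of_le hℓ.prime.one_lt
      (Nat.le_of_dvd Nat.card_pos h2))
  haveI := Q.2.center_nontrivial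
  obtain ⟨x, hx⟩ := exists_prime_orderOf_dvd_card' (G := Subgroup.center Q) ℓ (by
    obtain ⟨j, hj0, hj⟩ := ((Q.2.to_subgroup (Subgroup.center (Q : Subgroup (stab ρ w)))).nontrivial_iff_card).1
      inferInstance
    exact hj ▸ dvd_pow_self ℓ hj0.ne')
  set x' : E := (((x : Q) : stab ρ w) : E) with hx'
  have hxo : orderOf x' = ℓ := by
    rw [hx', Subgroup.orderOf_coe, Subgroup.orderOf_coe, Subgroup.orderOf_coe, hx]
  have hxw : ρ x' w = w := ((x : Q) : stab ρ w).2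
  set U := fixIn ρ x' ⊤ with hU
  have hmemU : ∀ u, u ∈ U ↔ ρ x' u = u := fun u => by
    rw [hU, mem_fixIn]; exact ⟨fun h => h.2, fun h => ⟨Submodule.mem_top, h⟩⟩
  have hUk : finrank (ZMod p) U ≤ k := hfd x' hxo hxw
  have hUne : U ≠ ⊤ := fun e => by
    rw [e, finrank_top] at hUk
    omega
  have hmem : ∀ y : Q, orderOf y = ℓ → y ∈ Subgroup.zpowers (x : Q) := by
    intro y hy
    by_contra hny
    apply hUne
    set y' : E := ((y : stab ρ w) : E) with hy'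
    have hyo : orderOf y' = ℓ := by rw [hy', Subgroup.orderOf_coe, Subgroup.orderOf_coe, hy]
    have hc : (x : Q) * y = y * (x : Q) := (Subgroup.mem_center_iff.1 x.2 y).symm
    have hc' : x' * y' = y' * x' := congrArg (fun z : Q => ((z : stab ρ w) : E)) hc
    -- an element of order `ℓ` commuting with `x` fixes `U` pointwise
    have hfixU : ∀ t : E, orderOf t = ℓ → ρ t w = w → t * x' = x' * t → U = fixIn ρ t ⊤ := by
      intro t ht htw htx
      have hinv : ∀ u ∈ U, ρ t u ∈ U := fun u hu => by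
        rw [hmemU] at hu ⊢
        rw [← Module.End.mul_apply, ← map_mul, ← htx, map_mul, Module.End.mul_apply, hu]
      have hd2 := dvd_pow_sub ρ hℓ.prime hℓp ht hinv
      have hpos : 1 ≤ finrank (ZMod p) (fixIn ρ t U) := by
        refine Submodule.one_le_finrank_iff.2 ((Submodule.ne_bot_iff _).2 ⟨w, ?_, hw⟩)
        exact (mem_fixIn ρ).2 ⟨(hmemU w).2 hxw, htw⟩
      have heq : fixIn ρ t U = U := by
        refine Submodule.eq_of_le_of_finrank_le inf_le_left ?_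
        by_contra hlt
        exact hℓ.minimal _ (by omega) (by omega) hd2
      refine le_antisymm (fun u hu => (mem_fixIn ρ).2 ⟨Submodule.mem_top,
        ((mem_fixIn ρ).1 (heq.symm ▸ hu : u ∈ fixIn ρ t U)).2⟩) ?_
      -- symmetric argument
      intro u hu
      have hinv' : ∀ v ∈ fixIn ρ t ⊤, ρ x' v ∈ fixIn ρ t ⊤ := fun v hv => by
        rw [mem_fixIn] at hv ⊢
        refine ⟨Submodule.mem_top, ?_⟩
        rw [← Module.End.mul_apply, ← map_mul, htx, map_mul, Module.End.mul_apply, hv.2]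
      have hd3 := dvd_pow_sub ρ hℓ.prime hℓp hxo hinv'
      have hpos' : 1 ≤ finrank (ZMod p) (fixIn ρ x' (fixIn ρ t ⊤)) := by
        refine Submodule.one_le_finrank_iff.2 ((Submodule.ne_bot_iff _).2 ⟨w, ?_, hw⟩)
        exact (mem_fixIn ρ).2 ⟨(mem_fixIn ρ).2 ⟨Submodule.mem_top, htw⟩, hxw⟩
      have heq' : fixIn ρ x' (fixIn ρ t ⊤) = fixIn ρ t ⊤ := by
        refine Submodule.eq_of_le_of_finrank_le inf_le_left ?_
        have := hfd t ht htw
        by_contra hlt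
        exact hℓ.minimal _ (by omega) (by omega) hd3
      exact (hmemU u).2 ((mem_fixIn ρ).1 (heq'.symm ▸ hu : u ∈ fixIn ρ x' (fixIn ρ t ⊤))).2
    refine eq_top_iff.2 fun v _ => mem_of_fix_pair ρ hℓ.prime hℓp hxo hyo hc'
      (fun v hv => (hmemU v).2 hv) (fun i v hv => ?_) v
    have hto : orderOf (x' ^ i * y') = ℓ := by
      refine orderOf_eq_prime ?_ ?_
      · rw [((Commute.pow_left hc' i)).mul_pow, ← pow_mul, mul_comm, pow_mul, ← hxo,
          pow_orderOf_eq_one, one_pow, one_mul, hxo, ← hyo, pow_orderOf_eq_one]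
      · intro e
        apply hny
        have e' : (x : Q) ^ i * y = 1 := Subtype.ext (Subtype.ext (by simpa [hx', hy'] using e))
        rw [eq_inv_of_mul_eq_one_right e']
        exact Subgroup.inv_mem _ ((Subgroup.zpowers (x : Q)).pow_mem (Subgroup.mem_zpowers _) i)
    have htw : ρ (x' ^ i * y') w = w :=
      (stab ρ w).mul_mem ((stab ρ w).pow_mem (show x' ∈ stab ρ w from hxw) i) (y : stab ρ w).2
    rw [hfixU _ hto htw (by rw [mul_assoc, ← hc', ← mul_assoc, ← mul_assoc, ← pow_succ, pow_succ'])]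
    exact (mem_fixIn ρ).2 ⟨Submodule.mem_top, hv⟩
  intro A B hA hB
  have key : ∀ C : Subgroup Q, Nat.card C = ℓ → C = Subgroup.zpowers (x : Q) := by
    intro C hC
    obtain ⟨c, hc⟩ := exists_prime_orderOf_dvd_card' (G := C) ℓ (by rw [hC])
    have h2 := hmem c (by rw [Subgroup.orderOf_coe, hc])
    have hle : Subgroup.zpowers (c : Q) ≤ C := Subgroup.zpowers_le.2 c.2
    rw [← Subgroup.eq_of_le_of_card_ge hle (by rw [Nat.card_zpowers, Subgroup.orderOf_coe, hc, hC])]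
    refine Subgroup.eq_of_le_of_card_ge (Subgroup.zpowers_le.2 h2) ?_
    rw [Nat.card_zpowers, Nat.card_zpowers, Subgroup.orderOf_coe, Subgroup.orderOf_coe, hc, hx]
  exact (key A hA).trans (key B hB).symm

theorem mersenne_sq {p : ℕ} {s : ℕ} (hs : p + 1 = 2 ^ s) (hp : p.Prime) (hp2 : p ≠ 2) {x y : ℕ}
    (h : x ^ 2 + y ^ 2 = p ^ 4 - 1) : p = 3 := by
  by_contra h3
  have hp3 : 3 < p := by have := hp.two_le; omega
  have hs3 : 3 ≤ s := by
    by_contra hlt
    have := Nat.pow_le_pow_right (n := 2) (by norm_num) (show s ≤ 2 by omega)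
    omega
  obtain ⟨t, rfl⟩ : ∃ t, s = t + 3 := ⟨s - 3, by omega⟩
  rw [pow_add] at hs
  set o := 2 ^ (t + 2) - 1 with ho
  have h2t : 2 ^ (t + 2) = 2 ^ t * 4 := by rw [pow_add]; norm_num
  have hpos := Nat.one_le_two_pow (n := t)
  have hpo : p - 1 = 2 * o := by omega
  have ho4 : o % 4 = 3 := by omega
  have hfac : p ^ 4 - 1 = o * (2 ^ (t + 4) * (p ^ 2 + 1)) := by
    have e1 : p ^ 4 - 1 = (p ^ 2 + 1) * (p ^ 2 - 1) := by
      have := Nat.sq_sub_sq (p ^ 2) 1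
      rwa [one_pow, ← pow_mul] at this
    have e2 : p ^ 2 - 1 = (p + 1) * (p - 1) := by
      have := Nat.sq_sub_sq p 1
      rwa [one_pow] at this
    rw [e1, e2, hpo, show p + 1 = 2 ^ t * 2 ^ 3 from hs]
    ring
  have hno : ∃ a b : ℕ, o = a ^ 2 + b ^ 2 := by
    rw [Nat.eq_sq_add_sq_iff]
    intro q hq hq4
    obtain ⟨hqp, hqo, ho0⟩ := Nat.mem_primeFactors.1 hq
    haveI := Fact.mk hqp
    have hq2 : q ≠ 2 := by omega
    have hrest : ¬ q ∣ 2 ^ (t + 4) * (p ^ 2 + 1) := by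
      intro hd
      rcases hqp.dvd_mul.1 hd with hd | hd
      · exact hq2 ((Nat.prime_dvd_prime_iff_eq hqp Nat.prime_two).1 (hqp.dvd_of_dvd_pow hd))
      · have h1 : q ∣ p ^ 2 - 1 := by
          have e2 : p ^ 2 - 1 = (p + 1) * (p - 1) := by
            have := Nat.sq_sub_sq p 1
            rwa [one_pow] at this
          rw [e2, hpo]
          exact (hqo.mul_left 2).mul_left _
        have h2 := Nat.dvd_sub hd h1
        rw [show p ^ 2 + 1 - (p ^ 2 - 1) = 2 by have := Nat.one_le_pow 2 p hp.pos; omega] at h2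
        exact hq2 ((Nat.prime_dvd_prime_iff_eq hqp Nat.prime_two).1 h2)
    have hmain := (Nat.eq_sq_add_sq_iff.1 ⟨x, y, h.symm⟩) (q := q)
      (Nat.mem_primeFactors.2 ⟨hqp, hfac ▸ hqo.mul_right _, by
        rw [hfac]; exact Nat.mul_ne_zero ho0 (fun e => hrest (by rw [e]; exact dvd_zero q))⟩) hq4
    rw [hfac, padicValNat.mul ho0 (fun e => hrest (by rw [e]; exact dvd_zero q)),
      padicValNat.eq_zero_of_not_dvd hrest, add_zero] at hmain
    exact hmain
  obtain ⟨a, b, hab⟩ := hno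
  have ha : a ^ 2 % 4 = 0 ∨ a ^ 2 % 4 = 1 := by
    rcases Nat.even_or_odd' a with ⟨c, rfl | rfl⟩
    · left; ring_nf; omega
    · right; ring_nf; omega
  have hb : b ^ 2 % 4 = 0 ∨ b ^ 2 % 4 = 1 := by
    rcases Nat.even_or_odd' b with ⟨c, rfl | rfl⟩
    · left; ring_nf; omega
    · right; ring_nf; omega
  omega

/-- Two orbits leave only the exceptional configuration on `81` vectors. -/
theorem Small.two_orbit_exception (h : Small ρ l) (hp2 : p ≠ 2) (hn : 2 ≤ finrank (ZMod p) W)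
    {v₁ v₂ : W} (hv1 : v₁ ≠ 0) (hv2 : v₂ ≠ 0) (hne : v₂ ∉ orb ρ v₁)
    (hall : ∀ w : W, w ≠ 0 → w ∈ orb ρ v₁ ∨ w ∈ orb ρ v₂) :
    p = 3 ∧ finrank (ZMod p) W = 4 ∧
      ((Nat.card (orb ρ v₁) = 16 ∧ Nat.card (orb ρ v₂) = 64) ∨
        (Nat.card (orb ρ v₁) = 64 ∧ Nat.card (orb ρ v₂) = 16)) := by
  classical
  haveI : Nontrivial W := ⟨⟨v₁, 0, hv1⟩⟩
  rcases eq_or_lt_of_le hn with h2 | h3
  · exact (h.false_two_plane hp2 h2.symm hv1 hv2 hne hall).elim
  have h1 := h.eq_one_of_two hv1 hv2 hne hall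
  have hq : Nat.card W = p ^ finrank (ZMod p) W := by
    rw [Module.natCard_eq_pow_finrank (K := ZMod p), Nat.card_zmod]
  have hsum := card_orb_add hv1 hv2 hne hall
  rw [hq] at hsum
  obtain ⟨r, hr, -⟩ := exists_ppd_three hp.1 hp2 h3
  have hr2 := odd_of_ppd hr (hp.1.odd_of_ne_two hp2) hn
  haveI := Fact.mk hr.prime
  have hrE : ¬ r ∣ Nat.card E := by
    intro hd
    obtain ⟨x, hx⟩ := exists_prime_orderOf_dvd_card' (G := E) r hd
    have := h.two_le_of_good (good_of_irred h.faithful (mem_stab_zero (ρ := ρ) x)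
      (irred_of_ppd ρ h.faithful hr hx)) (fun e => by
        rw [e, orderOf_one] at hx; exact hr.prime.ne_one hx.symm)
    rw [h1] at this
    omega
  have hmE : ∀ v : W, Nat.card (orb ρ v) ∣ Nat.card E := fun v => ⟨_, (card_orb_mul ρ v).symm⟩
  have hcl : ∀ c : ZMod p, c ≠ 0 → ∀ w ∈ orb ρ v₁, c • w ∈ orb ρ v₁ := by
    intro c hc w hw
    obtain ⟨g, rfl⟩ := hw
    have hcv : c • v₁ ∈ orb ρ v₁ := by
      refine (hall _ (smul_ne_zero hc hv1)).resolve_right fun hcv => ?_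
      have hmeq : Nat.card (orb ρ v₁) = Nat.card (orb ρ v₂) := by
        rw [← orb_eq_of_mem ρ hcv]
        refine Nat.card_congr (Equiv.ofBijective (fun z => ⟨c • z.1, ?_⟩) ⟨?_, ?_⟩)
        · obtain ⟨k, hk⟩ := z.2
          exact ⟨k, by simp [← hk]⟩
        · intro a b e
          exact Subtype.ext (smul_right_injective W hc (congrArg (fun t : orb ρ (c • v₁) => (t : W)) e))
        · rintro ⟨_, k, rfl⟩
          exact ⟨⟨ρ k v₁, k, rfl⟩, Subtype.ext (by simp)⟩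
      have hd2 : r ∣ 2 * Nat.card (orb ρ v₁) := by
        rw [show 2 * Nat.card (orb ρ v₁) = p ^ finrank (ZMod p) W - 1 by omega]
        exact hr.dvd
      exact hrE (((hr.prime.dvd_mul.1 hd2).resolve_left fun h2 =>
        hr2 ((Nat.prime_dvd_prime_iff_eq hr.prime Nat.prime_two).1 h2)).trans (hmE v₁))
    obtain ⟨k, hk⟩ := hcv
    exact ⟨g * k, by simp [map_mul, show ρ k v₁ = c • v₁ from hk]⟩
  obtain ⟨a, b, e, g, ha, hb, hab, h4, h5, z, h6⟩ := two_orbit_sums h.coprime hv1 hv2 hne hall hcl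
  rw [hq] at hab h5 h6
  obtain ⟨k, hk, hcase⟩ := two_orbit_arith hp.1 (by omega) hab hsum h4 h5 h6 ha hb
    (fun hd => h.coprime (hd.trans (hmE v₁))) (fun hd => h.coprime (hd.trans (hmE v₂)))
  have hk2 : 2 ≤ k := by omega
  have hfac : p ^ finrank (ZMod p) W - 1 = (p ^ k + 1) * (p ^ k - 1) := by
    rw [hk, mul_comm, pow_mul]
    have := Nat.sq_sub_sq (p ^ k) 1
    rwa [one_pow] at this
  rcases hcase with ⟨hd1, hd2⟩ | hd1
  swap
  · exfalso
    have hr' := hr.dvd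
    rw [hfac] at hr'
    rcases hr.prime.dvd_mul.1 hr' with h7 | h7
    · exact hrE (h7.trans (hd1.trans (hmE v₁)))
    · exact hr.minimal k (by omega) (by omega) h7
  have hkE : p ^ k - 1 ∣ Nat.card E := hd1.trans (hmE v₁)
  rcases eq_or_lt_of_le hk2 with hk2 | hk3
  swap
  · obtain ⟨ℓ, hℓ, -⟩ := exists_ppd_three hp.1 hp2 hk3
    exact (h.false_half h1 hk (by omega) hℓ (odd_of_ppd hℓ (hp.1.odd_of_ne_two hp2) (by omega))
      (hℓ.dvd.trans hkE)).elim
  subst hk2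
  rcases exists_ppd_two hp.1 hp2 with ⟨ℓ, hℓ, -⟩ | ⟨s, hs⟩
  · exact (h.false_half h1 hk (by omega) hℓ (odd_of_ppd hℓ (hp.1.odd_of_ne_two hp2) le_rfl)
      (hℓ.dvd.trans hkE)).elim
  obtain ⟨u₁, hu1⟩ := h.isSquare_orb h1 v₁
  obtain ⟨u₂, hu2⟩ := h.isSquare_orb h1 v₂
  rw [show finrank (ZMod p) W = 4 by omega] at hsum
  obtain rfl : p = 3 := mersenne_sq hs hp.1 hp2 (x := u₁) (y := u₂) (by
    rw [pow_two, pow_two, ← hu1, ← hu2]; omega)
  refine ⟨rfl, by omega, ?_⟩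
  rw [hu1, hu2] at hsum ⊢
  rw [hu1] at hd1
  rw [hu2] at hd2
  norm_num at hd1 hd2 hsum
  have hb1 : u₁ ≤ 8 := by nlinarith
  have hb2 : u₂ ≤ 8 := by nlinarith
  interval_cases u₁ <;> interval_cases u₂ <;> omega

end CfsgLib.Blocks.KThree
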